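/-
Combinatorial and linear-algebra preliminaries for the prime-order fixed-point bound on the
Fitting height.
-/
import Mathlib.LinearAlgebra.Eigenspace.Semisimple
import Mathlib.LinearAlgebra.Eigenspace.Triangularizable
import Mathlib.LinearAlgebra.Semisimple
import Mathlib.LinearAlgebra.Dual.Lemmas
import Mathlib.FieldTheory.IsAlgClosed.Basic
import Mathlib.GroupTheory.GroupAction.Quotient
import Mathlib.RingTheory.Artinian.Module
import Mathlib.Tactic.LinearCombination

set_option autoImplicit false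
set_option linter.style.haveILetI false

namespace Cfsg.Agent.Lib.PrimeFitting.Prelim

open Module

theorem sum_sq_diff {ι : Type*} (s : Finset ι) (f : ι → ℤ) :
    ∑ a ∈ s, ∑ b ∈ s, (f a - f b) ^ 2 =
      2 * (s.card : ℤ) * ∑ a ∈ s, f a ^ 2 - 2 * (∑ a ∈ s, f a) ^ 2 := by
  simp only [sub_sq, Finset.sum_add_distrib, Finset.sum_sub_distrib, Finset.sum_const,
    nsmul_eq_mul, ← Finset.mul_sum, ← Finset.sum_mul]
  ring

/-- Values of small total quadratic spread take two adjacent levels, one of them only once. -/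
theorem two_level {ι : Type*} [DecidableEq ι] (s : Finset ι) (f : ι → ℤ) (hs : 2 ≤ s.card)
    (h : ∑ a ∈ s, ∑ b ∈ s, (f a - f b) ^ 2 = 2 * ((s.card : ℤ) - 1)) :
    (∀ a ∈ s, ∀ b ∈ s, (f a - f b) ^ 2 ≤ 1) ∧
      ∃ a₀ ∈ s, ∀ a ∈ s, a ≠ a₀ → ∀ b ∈ s, b ≠ a₀ → f a = f b := by
  obtain ⟨a₁, ha₁, hmin⟩ := Finset.exists_min_image s f (Finset.card_pos.mp (by omega))
  set T := s.filter fun a => f a ≠ f a₁ with hT
  set U := s.filter fun a => f a = f a₁ with hU
  have hTs : T ⊆ s := Finset.filter_subset _ _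
  have hUs : U ⊆ s := Finset.filter_subset _ _
  have hcard : U.card + T.card = s.card := Finset.card_filter_add_card_filter_not _
  have hUpos : 1 ≤ U.card := Finset.card_pos.mpr ⟨a₁, Finset.mem_filter.mpr ⟨ha₁, rfl⟩⟩
  have hTpos : 1 ≤ T.card := by
    refine Finset.card_pos.mpr (Finset.nonempty_iff_ne_empty.mpr fun he => ?_)
    have hc : ∀ a ∈ s, f a = f a₁ := fun a ha => by
      by_contra hne
      exact Finset.notMem_empty a (he ▸ Finset.mem_filter.mpr ⟨ha, hne⟩)
    rw [Finset.sum_eq_zero fun a ha => Finset.sum_eq_zero fun b hb => by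
      rw [hc a ha, hc b hb]; ring] at h
    omega
  -- the cross terms
  have hx : ∀ a ∈ U, ∀ b ∈ T, 1 ≤ (f a - f b) ^ 2 := by
    intro a ha b hb
    have ha' := (Finset.mem_filter.mp ha).2
    have hb' := (Finset.mem_filter.mp hb).2
    have : f a - f b ≠ 0 := sub_ne_zero.mpr (ha' ▸ Ne.symm hb')
    have := Int.one_le_abs this
    nlinarith [sq_abs (f a - f b), abs_nonneg (f a - f b)]
  have hd : Disjoint U T := Finset.disjoint_filter_filter_not s s _
  have hun : s = U ∪ T := (Finset.filter_union_filter_not_eq _ s).symm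
  have hsplit : ∀ g : ι → ℤ, ∑ a ∈ s, g a = ∑ a ∈ U, g a + ∑ a ∈ T, g a := fun g => by
    rw [hun, Finset.sum_union hd]
  have hexp : ∑ a ∈ s, ∑ b ∈ s, (f a - f b) ^ 2 =
      2 * (∑ a ∈ U, ∑ b ∈ T, (f a - f b) ^ 2) + ∑ a ∈ T, ∑ b ∈ T, (f a - f b) ^ 2 := by
    rw [hsplit, Finset.sum_congr rfl fun a _ => hsplit fun b => (f a - f b) ^ 2,
      Finset.sum_congr rfl fun a _ => hsplit fun b => (f a - f b) ^ 2,
      Finset.sum_add_distrib, Finset.sum_add_distrib]
    rw [Finset.sum_eq_zero (s := U) (f := fun a => ∑ b ∈ U, (f a - f b) ^ 2) fun a ha =>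
      Finset.sum_eq_zero fun b hb => by
        rw [(Finset.mem_filter.mp ha).2, (Finset.mem_filter.mp hb).2]; ring]
    rw [Finset.sum_comm (s := T) (t := U)]
    rw [Finset.sum_congr rfl fun a _ => Finset.sum_congr rfl fun b _ =>
      show (f b - f a) ^ 2 = (f a - f b) ^ 2 by ring]
    ring
  have hlow : (U.card : ℤ) * T.card ≤ ∑ a ∈ U, ∑ b ∈ T, (f a - f b) ^ 2 := by
    calc (U.card : ℤ) * T.card = ∑ _a ∈ U, ∑ _b ∈ T, (1 : ℤ) := by simp
      _ ≤ _ := Finset.sum_le_sum fun a ha => Finset.sum_le_sum fun b hb => hx a ha b hb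
  have hnn : (0 : ℤ) ≤ ∑ a ∈ T, ∑ b ∈ T, (f a - f b) ^ 2 :=
    Finset.sum_nonneg fun a _ => Finset.sum_nonneg fun b _ => sq_nonneg _
  rw [hexp] at h
  have hc : (s.card : ℤ) = U.card + T.card := by exact_mod_cast hcard.symm
  have hprod : (U.card : ℤ) = 1 ∨ (T.card : ℤ) = 1 := by
    by_contra hne
    push Not at hne
    have : (2 : ℤ) ≤ U.card := by omega
    have : (2 : ℤ) ≤ T.card := by omega
    nlinarith
  have hpe : (U.card : ℤ) * T.card = (s.card : ℤ) - 1 := by
    rcases hprod with h1 | h1 <;> rw [h1] <;> omega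
  have hTT : ∑ a ∈ T, ∑ b ∈ T, (f a - f b) ^ 2 = 0 := by linarith
  have hUT : ∑ a ∈ U, ∑ b ∈ T, (f a - f b) ^ 2 = (U.card : ℤ) * T.card := by linarith
  have hTc : ∀ a ∈ T, ∀ b ∈ T, f a = f b := fun a ha b hb => by
    have h1 := (Finset.sum_eq_zero_iff_of_nonneg fun a _ => Finset.sum_nonneg fun b _ =>
      sq_nonneg (f a - f b)).mp hTT a ha
    have h2 := (Finset.sum_eq_zero_iff_of_nonneg fun b _ => sq_nonneg (f a - f b)).mp h1 b hb
    exact sub_eq_zero.mp (sq_eq_zero_iff.mp h2)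
  have hUT1 : ∀ a ∈ U, ∀ b ∈ T, (f a - f b) ^ 2 = 1 := by
    intro a ha b hb
    refine le_antisymm ?_ (hx a ha b hb)
    by_contra hlt
    push Not at hlt
    have : (U.card : ℤ) * T.card < ∑ a ∈ U, ∑ b ∈ T, (f a - f b) ^ 2 := by
      calc (U.card : ℤ) * T.card = ∑ _a ∈ U, ∑ _b ∈ T, (1 : ℤ) := by simp
        _ < _ := Finset.sum_lt_sum (fun a ha => Finset.sum_le_sum fun b hb => hx a ha b hb)
          ⟨a, ha, Finset.sum_lt_sum (fun b hb => hx a ha b hb) ⟨b, hb, hlt⟩⟩
    linarith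
  have hmem : ∀ a ∈ s, a ∈ U ∨ a ∈ T := fun a ha => Finset.mem_union.mp (hun ▸ ha)
  refine ⟨fun a ha b hb => ?_, ?_⟩
  · rcases hmem a ha with h1 | h1 <;> rcases hmem b hb with h2 | h2
    · rw [(Finset.mem_filter.mp h1).2, (Finset.mem_filter.mp h2).2]; simp
    · exact (hUT1 a h1 b h2).le
    · have := hUT1 b h2 a h1; nlinarith
    · rw [hTc a h1 b h2]; simp
  · rcases hprod with h1 | h1
    · obtain ⟨x, hx'⟩ := Finset.card_eq_one.mp (Nat.cast_injective (R := ℤ) (h1.trans Nat.cast_one.symm))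
      refine ⟨x, hUs (hx' ▸ Finset.mem_singleton_self x), fun a ha hax b hb hbx => hTc a ?_ b ?_⟩
      · exact (hmem a ha).resolve_left fun h => hax (Finset.mem_singleton.mp (hx' ▸ h))
      · exact (hmem b hb).resolve_left fun h => hbx (Finset.mem_singleton.mp (hx' ▸ h))
    · obtain ⟨x, hx'⟩ := Finset.card_eq_one.mp (Nat.cast_injective (R := ℤ) (h1.trans Nat.cast_one.symm))
      refine ⟨x, hTs (hx' ▸ Finset.mem_singleton_self x), fun a ha hax b hb hbx => ?_⟩
      have ha' := (hmem a ha).resolve_right fun h => hax (Finset.mem_singleton.mp (hx' ▸ h))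
      have hb' := (hmem b hb).resolve_right fun h => hbx (Finset.mem_singleton.mp (hx' ▸ h))
      rw [(Finset.mem_filter.mp ha').2, (Finset.mem_filter.mp hb').2]

/-- A semiregular permutation of period `M` off a fixed point has a transversal. -/
theorem exists_transversal {α : Type*} [Fintype α] (β : Equiv.Perm α) (o : α) {M : ℕ}
    (hM : 0 < M) (ho : β o = o) (hpow : ∀ c, (β ^ M) c = c)
    (hsemi : ∀ i, 0 < i → i < M → ∀ c, (β ^ i) c = c → c = o) :
    ∃ S : Finset α, Function.Injective (fun p : S × Fin M => (β ^ (p.2 : ℕ)) (p.1 : α)) ∧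
      Set.range (fun p : S × Fin M => (β ^ (p.2 : ℕ)) (p.1 : α)) = {o}ᶜ ∧
      Fintype.card α = 1 + M * S.card := by
  classical
  have hmod : ∀ i c, (β ^ i) c = (β ^ (i % M)) c := fun i c => by
    conv_lhs => rw [← Nat.mod_add_div i M, pow_add, pow_mul, Equiv.Perm.mul_apply]
    congr 1
    have : ∀ j, ((β ^ M) ^ j) c = c := fun j => by
      induction j with
      | zero => rfl
      | succ j ih => rw [pow_succ, Equiv.Perm.mul_apply, hpow, ih]
    exact this _
  let st : Setoid α :=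
    { r := fun c d => ∃ i : ℕ, (β ^ i) c = d
      iseqv :=
        { refl := fun c => ⟨0, rfl⟩
          symm := fun {c d} ⟨i, hi⟩ => ⟨(M - i % M) , by
            rw [← hi, hmod i c, ← Equiv.Perm.mul_apply, ← pow_add,
              Nat.sub_add_cancel (Nat.mod_lt i hM).le, hpow]⟩
          trans := fun {c d e} ⟨i, hi⟩ ⟨j, hj⟩ => ⟨j + i, by
            rw [pow_add, Equiv.Perm.mul_apply, hi, hj]⟩ } }
  let rep : α → α := fun c => (Quotient.mk st c).out
  have hrep : ∀ c, ∃ i : ℕ, (β ^ i) (rep c) = c := fun c => Quotient.mk_out (s := st) c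
  have hrep' : ∀ c (i : ℕ), rep ((β ^ i) c) = rep c := fun c i =>
    congrArg Quotient.out (Quotient.sound (s := st) (st.iseqv.symm ⟨i, rfl⟩))
  have hfo : ∀ i : ℕ, (β ^ i) o = o := fun i => by
    induction i with
    | zero => rfl
    | succ i ih => rw [pow_succ, Equiv.Perm.mul_apply, ho, ih]
  set S := (Finset.univ.filter fun c => c ≠ o).image rep with hS
  have hSne : ∀ s ∈ S, s ≠ o ∧ rep s = s := by
    intro s hs
    obtain ⟨c, hc, rfl⟩ := Finset.mem_image.mp hs
    obtain ⟨i, hi⟩ := hrep c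
    refine ⟨fun h => (Finset.mem_filter.mp hc).2 (by rw [← hi, h, hfo]), ?_⟩
    conv_rhs => rw [← hi, hrep']
  have hinj : Function.Injective (fun p : S × Fin M => (β ^ (p.2 : ℕ)) (p.1 : α)) := by
    rintro ⟨⟨s, hs⟩, i⟩ ⟨⟨t, ht⟩, j⟩ (hst : (β ^ (i : ℕ)) s = (β ^ (j : ℕ)) t)
    have : s = t := by
      rw [← (hSne s hs).2, ← (hSne t ht).2, ← hrep' s i, hst, hrep']
    subst this
    refine Prod.ext rfl (Fin.ext ?_)
    by_contra hne
    dsimp only at hne
    have := i.isLt
    have := j.isLt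
    rcases Nat.lt_or_gt_of_ne hne with h | h
    · exact (hSne s hs).1 (hsemi (j - i) (by omega) (by omega) s ((β ^ (i : ℕ)).injective (by
        rw [← Equiv.Perm.mul_apply, ← pow_add, Nat.add_sub_cancel' h.le]; exact hst.symm)))
    · exact (hSne s hs).1 (hsemi (i - j) (by omega) (by omega) s ((β ^ (j : ℕ)).injective (by
        rw [← Equiv.Perm.mul_apply, ← pow_add, Nat.add_sub_cancel' h.le]; exact hst)))
  have hrange : Set.range (fun p : S × Fin M => (β ^ (p.2 : ℕ)) (p.1 : α)) = {o}ᶜ := by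
    ext c
    constructor
    · rintro ⟨⟨⟨s, hs⟩, i⟩, rfl⟩ (h : (β ^ (i : ℕ)) s = o)
      exact (hSne s hs).1 ((β ^ (i : ℕ)).injective (h.trans (hfo i).symm))
    · intro hc
      obtain ⟨i, hi⟩ := hrep c
      exact ⟨⟨⟨rep c, Finset.mem_image.mpr ⟨c, Finset.mem_filter.mpr ⟨Finset.mem_univ _, hc⟩,
        rfl⟩⟩, ⟨i % M, Nat.mod_lt _ hM⟩⟩, (hmod i _).symm.trans hi⟩
  refine ⟨S, hinj, hrange, ?_⟩
  have h := Set.ncard_range_of_injective hinj
  rw [hrange, Set.ncard_compl, Set.ncard_singleton, Nat.card_eq_fintype_card, Nat.card_eq_fintype_card,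
    Fintype.card_prod, Fintype.card_coe, Fintype.card_fin] at h
  have : 0 < Fintype.card α := Fintype.card_pos_iff.mpr ⟨o⟩
  rw [Nat.mul_comm M]
  omega

section Linear

variable {k : Type*} [Field k] {U : Type*} [AddCommGroup U] [Module k U]

/-- An operator commuting with every operator is a scalar. -/
theorem exists_scalar_of_commute_all (X : Module.End k U) (h : ∀ Y : Module.End k U, Commute X Y) :
    ∃ c : k, X = c • 1 := by
  by_cases hU : ∀ v : U, v = 0
  · exact ⟨0, LinearMap.ext fun v => by rw [hU v, hU ((0 • (1 : Module.End k U)) 0)]; simp⟩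
  push Not at hU
  obtain ⟨v, hv⟩ := hU
  obtain ⟨φ, hφ⟩ := Module.Projective.exists_dual_ne_zero k hv
  refine ⟨(φ v)⁻¹ * φ (X v), LinearMap.ext fun w => ?_⟩
  have h1 := LinearMap.congr_fun (h (φ.smulRight w)).eq v
  simp only [Module.End.mul_apply, LinearMap.smulRight_apply, map_smul] at h1
  simp only [LinearMap.smul_apply, Module.End.one_apply]
  rw [mul_smul, ← h1, smul_smul, inv_mul_cancel₀ hφ, one_smul]

variable [IsAlgClosed k] [FiniteDimensional k U]

/-- An operator of finite order invertible in the field has an eigenvector basis. -/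
theorem exists_eigenbasis (X : Module.End k U) {M : ℕ} (hM : (M : k) ≠ 0) (hX : X ^ M = 1) :
    ∃ (b : Basis (Fin (finrank k U)) k U) (ν : Fin (finrank k U) → k),
      (∀ i, X (b i) = ν i • b i) ∧ ∀ i, ν i ^ M = 1 := by
  classical
  have hsep : (Polynomial.X ^ M - 1 : Polynomial k).Separable := by
    have := Polynomial.separable_X_pow_sub_C (n := M) (1 : k) hM one_ne_zero
    simpa using this
  have hss : X.IsSemisimple :=
    Module.End.isSemisimple_of_squarefree_aeval_eq_zero hsep.squarefree (by simp [hX])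
  set s : Set U := {v | ∃ μ : k, X v = μ • v} with hs
  have hspan : Submodule.span k s = ⊤ := by
    rw [eq_top_iff, ← hss.iSup_eigenspace_eq_top]
    exact iSup_le fun μ v hv => Submodule.subset_span ⟨μ, Module.End.mem_eigenspace_iff.mp hv⟩
  obtain ⟨t, hts, htspan, hti⟩ := exists_linearIndependent k s
  let b0 : Basis t k U := Basis.mk hti (by rw [Subtype.range_coe, htspan, hspan])
  haveI : Fintype t := FiniteDimensional.fintypeBasisIndex b0
  let e : t ≃ Fin (finrank k U) :=
    Fintype.equivFinOfCardEq (finrank_eq_card_basis b0).symm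
  let b := b0.reindex e
  have hev : ∀ i, ∃ μ : k, X (b i) = μ • b i := fun i => by
    obtain ⟨μ, hμ⟩ := hts (e.symm i).2
    exact ⟨μ, by simpa [b, b0] using hμ⟩
  choose ν hν using hev
  refine ⟨b, ν, hν, fun i => ?_⟩
  have hp : ∀ j : ℕ, (X ^ j) (b i) = ν i ^ j • b i := fun j => by
    induction j with
    | zero => simp
    | succ j ih => rw [pow_succ', Module.End.mul_apply, ih, map_smul, hν, smul_smul, pow_succ]
  have h1 := hp M
  rw [hX, Module.End.one_apply] at h1
  exact smul_left_injective k (b.ne_zero i) (h1.symm.trans (one_smul k (b i)).symm)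

end Linear

end Cfsg.Agent.Lib.PrimeFitting.Prelim
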