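/-
Twisted group algebras: a nondegenerate pair `(Q, R, μ)`, its model `U`, transfer to any module,
operators implementing semiregular automorphisms and the resulting eigenvalue counts.
-/
import Cfsg.Agent.Lib.PrimeFitting.Prelim
import Cfsg.Agent.Lib.FpfHeight.Extraspecial

set_option autoImplicit false
set_option linter.style.haveILetI false
set_option linter.unusedSectionVars false

namespace Cfsg.Agent.Lib.PrimeFitting.Twisted

open Module
open Cfsg.Agent.Lib.FpfHeight.Extraspecial

variable {k : Type*} [Field k] {Q : Type*} [Group Q]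

/-- A nondegenerate commutator pairing on `Q / R` given by the character `μ` of `R`. -/
structure Heis (R : Subgroup Q) (μ : R →* k) : Prop where
  comm : ∀ u y : Q, u * y * u⁻¹ * y⁻¹ ∈ R
  nondeg : ∀ y ∉ R, ∃ u, μ (comEl comm u y) ≠ 1
  ne_top : R ≠ ⊤
  cast_card : (Nat.card Q : k) ≠ 0

variable {R : Subgroup Q} {μ : R →* k}

theorem Heis.setup (H : Heis R μ) : Setup R (1 : MulAut Q) μ 1 where
  comm := H.comm
  nondeg := H.nondeg
  ne_top := H.ne_top
  inv := fun _ hr => hr
  fix := fun _ => rfl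
  pow := pow_one 1
  semireg := fun i h1 h2 => absurd h2 (by omega)
  cast_card := H.cast_card

/-- An automorphism respecting the character. -/
structure Pres (R : Subgroup Q) (μ : R →* k) (γ : MulAut Q) : Prop where
  mem : ∀ r ∈ R, γ r ∈ R
  fix : ∀ r : R, μ ⟨γ r, mem r r.2⟩ = μ r

theorem Pres.one : Pres R μ 1 := ⟨fun _ h => h, fun _ => rfl⟩

theorem Pres.mul {γ δ : MulAut Q} (hγ : Pres R μ γ) (hδ : Pres R μ δ) : Pres R μ (γ * δ) :=
  ⟨fun r hr => hγ.mem _ (hδ.mem r hr), fun r => (hγ.fix ⟨δ r, hδ.mem r r.2⟩).trans (hδ.fix r)⟩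

theorem Pres.pow {γ : MulAut Q} (hγ : Pres R μ γ) (i : ℕ) : Pres R μ (γ ^ i) := by
  induction i with
  | zero => rw [pow_zero]; exact Pres.one
  | succ i ih => rw [pow_succ]; exact ih.mul hγ

/-- `Θ` implements `γ` in `ρ`. -/
def Impl {U : Type*} [AddCommGroup U] [Module k U] (ρ : Q →* Module.End k U) (γ : MulAut Q)
    (Θ : Module.End k U) : Prop :=
  ∀ y, Θ * ρ y = ρ (γ y) * Θ

section Module

variable {U : Type*} [AddCommGroup U] [Module k U] {ρ : Q →* Module.End k U}

theorem Impl.one : Impl ρ 1 1 := fun y => by simp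

theorem Impl.mul {γ δ : MulAut Q} {Θ N : Module.End k U} (h₁ : Impl ρ γ Θ) (h₂ : Impl ρ δ N) :
    Impl ρ (γ * δ) (Θ * N) := fun y => by
  rw [mul_assoc, h₂ y, ← mul_assoc, h₁ (δ y), mul_assoc]; rfl

theorem Impl.pow {γ : MulAut Q} {Θ : Module.End k U} (h : Impl ρ γ Θ) (i : ℕ) :
    Impl ρ (γ ^ i) (Θ ^ i) := by
  induction i with
  | zero => rw [pow_zero, pow_zero]; exact Impl.one
  | succ i ih => rw [pow_succ, pow_succ]; exact ih.mul h

theorem Impl.smul {γ : MulAut Q} {Θ : Module.End k U} (h : Impl ρ γ Θ) (t : k) :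
    Impl ρ γ (t • Θ) := fun y => by rw [smul_mul_assoc, h y, mul_smul_comm]

theorem Impl.conj_eq {γ : MulAut Q} {Θ : Module.End k U} (h : Impl ρ γ Θ) {M i : ℕ} (hi : i ≤ M)
    (hM : Θ ^ M = 1) (y : Q) : Θ ^ i * ρ y * Θ ^ (M - i) = ρ ((γ ^ i) y) := by
  rw [h.pow i y, mul_assoc, ← pow_add, Nat.add_sub_cancel' hi, hM, mul_one]

theorem mul_left_cancel_of_pow {Θ : Module.End k U} {M : ℕ} (hM0 : 0 < M) (hM : Θ ^ M = 1)
    {X Y : Module.End k U} (h : X * Θ = Y * Θ) : X = Y := by
  have h1 : Θ * Θ ^ (M - 1) = 1 := by rw [← pow_succ', Nat.sub_add_cancel hM0, hM]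
  calc X = X * Θ * Θ ^ (M - 1) := by rw [mul_assoc, h1, mul_one]
    _ = Y := by rw [h, mul_assoc, h1, mul_one]

/-- The scalar by which `ρ y` differs from the chosen representative of its class. -/
theorem rho_eq (hρ : IsScalar μ ρ) (y : Q) :
    ρ y = μ ⟨(y : Q ⧸ R).out⁻¹ * y, QuotientGroup.eq.mp (QuotientGroup.out_eq' _)⟩ •
      ρ (y : Q ⧸ R).out := by
  conv_lhs => rw [show y = (y : Q ⧸ R).out * ((y : Q ⧸ R).out⁻¹ * y) by group, map_mul,
    hρ ⟨_, QuotientGroup.eq.mp (QuotientGroup.out_eq' (y : Q ⧸ R))⟩, mul_smul_comm, mul_one]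

/-- An automorphism trivial modulo `R` of order prime to `|Q|` is invisible in `ρ`. -/
theorem rho_eq_of_coprime [Nontrivial U] [Finite Q] (hρ : IsScalar μ ρ) {δ : MulAut Q}
    (hδ : Pres R μ δ) {e : ℕ} (he : δ ^ e = 1) (hcop : e.Coprime (Nat.card Q))
    (htriv : ∀ y, y⁻¹ * δ y ∈ R) (y : Q) : ρ (δ y) = ρ y := by
  set a : R := ⟨y⁻¹ * δ y, htriv y⟩ with ha
  have hpow : ∀ j : ℕ, ρ ((δ ^ j) y) = μ a ^ j • ρ y := by
    intro j
    induction j with
    | zero => simp
    | succ j ih =>
      rw [pow_succ, MulAut.mul_apply, show δ y = y * a by simp [ha], map_mul, map_mul, ih,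
        hρ ⟨_, (hδ.pow j).mem _ a.2⟩, (hδ.pow j).fix a, smul_mul_smul_comm, mul_one, ← pow_succ]
  have h1 : μ a ^ e = 1 := by
    refine smul_rho_inj ρ y ?_
    rw [← hpow, he, one_smul]; rfl
  have h2 : μ a ^ Nat.card Q = 1 := by
    rw [← map_pow, show a ^ Nat.card Q = 1 from Subtype.ext (by
      rw [SubgroupClass.coe_pow]; exact pow_card_eq_one'), map_one]
  have h3 : μ a = 1 := by
    have := pow_gcd_eq_one.mpr ⟨h1, h2⟩
    rwa [Nat.Coprime.gcd_eq_one hcop, pow_one] at this
  have := hpow 1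
  rwa [h3, one_pow, one_smul, pow_one] at this

end Module

variable [Finite Q] [R.Normal] [Fintype (Q ⧸ R)]

/-- A faithful model of the twisted group algebra as a full endomorphism ring. -/
structure Model {U : Type*} [AddCommGroup U] [Module k U] (μ : R →* k)
    (ρ : Q →* Module.End k U) : Prop where
  scalar : IsScalar μ ρ
  bij : Function.Bijective (combo R ρ)

section

variable {U : Type*} [AddCommGroup U] [Module k U] {ρ : Q →* Module.End k U}
  {W : Type*} [AddCommGroup W] [Module k W] {σ : Q →* Module.End k W}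

/-- Coordinates with respect to the representatives. -/
noncomputable def Model.coef (m : Model μ ρ) : Module.End k U ≃ₗ[k] (Q ⧸ R → k) :=
  (LinearEquiv.ofBijective (combo R ρ) m.bij).symm

theorem combo_single [DecidableEq (Q ⧸ R)] (c : Q ⧸ R) (t : k) :
    combo R ρ (Pi.single c t) = t • ρ c.out := by
  rw [combo_apply, Finset.sum_eq_single c]
  · rw [Pi.single_eq_same]
  · intro d _ hd; rw [Pi.single_eq_of_ne hd, zero_smul]
  · intro h; exact absurd (Finset.mem_univ c) h

theorem Model.combo_coef (m : Model μ ρ) (X : Module.End k U) : combo R ρ (m.coef X) = X :=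
  (LinearEquiv.ofBijective (combo R ρ) m.bij).apply_symm_apply X

theorem Model.coef_rho [DecidableEq (Q ⧸ R)] (m : Model μ ρ) (y : Q) :
    m.coef (ρ y) = Pi.single (y : Q ⧸ R)
      (μ ⟨(y : Q ⧸ R).out⁻¹ * y, QuotientGroup.eq.mp (QuotientGroup.out_eq' _)⟩) := by
  refine m.bij.1 ?_
  rw [m.combo_coef, combo_single]
  exact rho_eq m.scalar y

theorem Model.coef_rho_out [DecidableEq (Q ⧸ R)] (m : Model μ ρ) (c : Q ⧸ R) :
    m.coef (ρ c.out) = Pi.single c 1 := by
  refine m.bij.1 ?_
  rw [m.combo_coef, combo_single, one_smul]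

/-- The algebra map to another module carrying the same character. -/
noncomputable def Model.transfer (m : Model μ ρ) (σ : Q →* Module.End k W) :
    Module.End k U →ₗ[k] Module.End k W :=
  (combo R σ).comp m.coef.toLinearMap

theorem Model.transfer_rho (m : Model μ ρ) (hσ : IsScalar μ σ) (y : Q) :
    m.transfer σ (ρ y) = σ y := by
  classical
  rw [Model.transfer, LinearMap.comp_apply, LinearEquiv.coe_coe, m.coef_rho, combo_single]
  exact (rho_eq hσ y).symm

theorem Model.sum_coef (m : Model μ ρ) (X : Module.End k U) :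
    X = ∑ c, m.coef X c • ρ c.out := by
  conv_lhs => rw [← m.combo_coef X]
  rfl

theorem Model.transfer_one (m : Model μ ρ) (hσ : IsScalar μ σ) : m.transfer σ 1 = 1 := by
  have h := m.transfer_rho hσ 1
  rwa [map_one ρ, map_one σ] at h

theorem Model.transfer_mul (m : Model μ ρ) (hσ : IsScalar μ σ) (X Y : Module.End k U) :
    m.transfer σ (X * Y) = m.transfer σ X * m.transfer σ Y := by
  rw [m.sum_coef X, m.sum_coef Y]
  simp only [Finset.sum_mul, Finset.mul_sum, map_sum, smul_mul_smul_comm, map_smul, ← map_mul,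
    m.transfer_rho hσ]

theorem Model.transfer_pow (m : Model μ ρ) (hσ : IsScalar μ σ) (X : Module.End k U) (i : ℕ) :
    m.transfer σ (X ^ i) = m.transfer σ X ^ i := by
  induction i with
  | zero => rw [pow_zero, pow_zero, m.transfer_one hσ]
  | succ i ih => rw [pow_succ, pow_succ, m.transfer_mul hσ, ih]

theorem Model.commute_transfer (m : Model μ ρ) {Z : Module.End k W}
    (h : ∀ y, Commute Z (σ y)) (X : Module.End k U) : Commute Z (m.transfer σ X) := by
  rw [Model.transfer, LinearMap.comp_apply, combo_apply]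
  exact Commute.sum_right _ _ _ fun c _ => (h _).smul_right _

/-- Two operators agreeing with all representatives agree with everything. -/
theorem Model.commute_all (m : Model μ ρ) {Z : Module.End k U} (h : ∀ y, Commute Z (ρ y))
    (X : Module.End k U) : Commute Z X := by
  rw [m.sum_coef X]
  exact Commute.sum_right _ _ _ fun c _ => (h _).smul_right _

theorem Model.irred (m : Model μ ρ) (V : Submodule k U) (hV : ∀ y, ∀ v ∈ V, ρ y v ∈ V) :
    V = ⊥ ∨ V = ⊤ := by
  refine or_iff_not_imp_left.mpr fun hne => ?_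
  obtain ⟨v, hv, hv0⟩ := Submodule.exists_mem_ne_zero_of_ne_bot hne
  obtain ⟨φ, hφ⟩ := Module.Projective.exists_dual_ne_zero k hv0
  refine eq_top_iff.mpr fun w _ => ?_
  have h1 : φ.smulRight w v ∈ V := by
    rw [m.sum_coef (φ.smulRight w), LinearMap.sum_apply]
    exact Submodule.sum_mem _ fun c _ => V.smul_mem _ (hV _ v hv)
  rw [LinearMap.smulRight_apply] at h1
  exact (V.smul_mem_iff hφ).mp h1

theorem Model.card_eq [FiniteDimensional k U] (m : Model μ ρ) :
    Nat.card (Q ⧸ R) = finrank k U * finrank k U := by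
  rw [Nat.card_eq_fintype_card, ← Module.finrank_linearMap k k U U,
    ← (LinearEquiv.ofBijective (combo R ρ) m.bij).finrank_eq, Module.finrank_pi]

theorem Model.nontrivial [FiniteDimensional k U] (m : Model μ ρ) : Nontrivial U := by
  refine Module.nontrivial_of_finrank_pos (R := k) (Nat.pos_of_ne_zero fun h => ?_)
  have := m.card_eq
  rw [h, Nat.card_eq_fintype_card] at this
  exact Fintype.card_ne_zero this

/-- Any nontrivial module with the character contains a model. -/
theorem exists_model [IsAlgClosed k] [FiniteDimensional k W] [Nontrivial W]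
    (H : Heis R μ) (hσ : IsScalar μ σ) :
    ∃ (D : ℕ) (ρ : Q →* Module.End k (Fin D → k)), Model μ ρ := by
  obtain ⟨V, ⟨hVinv, hVne⟩, hVmin⟩ := exists_minimal_of_wellFoundedLT
    (fun V : Submodule k W => (∀ y, ∀ w ∈ V, σ y w ∈ V) ∧ V ≠ ⊥)
    ⟨⊤, fun _ _ _ => Submodule.mem_top, top_ne_bot⟩
  haveI : Nontrivial V := Submodule.nontrivial_iff_ne_bot.mpr hVne
  let e : V ≃ₗ[k] (Fin (finrank k V) → k) := (Module.finBasis k V).equivFun
  haveI : Nontrivial (Fin (finrank k V) → k) := e.symm.toEquiv.nontrivial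
  let ρ : Q →* Module.End k (Fin (finrank k V) → k) :=
    { toFun := fun y => e.conj ((σ y).restrict (hVinv y))
      map_one' := LinearMap.ext fun u => e.symm.injective (Subtype.ext (by
        simp [LinearEquiv.conj_apply, LinearMap.restrict_apply]))
      map_mul' := fun y z => LinearMap.ext fun u => e.symm.injective (Subtype.ext (by
        simp [LinearEquiv.conj_apply, LinearMap.restrict_apply])) }
  have hval : ∀ y u, (e.symm (ρ y u) : W) = σ y (e.symm u : W) := fun y u => by
    simp [ρ, LinearEquiv.conj_apply, LinearMap.restrict_apply]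
  have hscal : IsScalar μ ρ := fun r => LinearMap.ext fun u => e.symm.injective (Subtype.ext (by
    rw [hval, hσ]; simp))
  have hirr : IsIrred ρ := by
    intro X hX
    refine or_iff_not_imp_left.mpr fun hne => ?_
    set X' := (X.map e.symm.toLinearMap).map V.subtype with hX'
    have hle := hVmin (y := X') ⟨fun y w hw => by
        obtain ⟨_, ⟨u, hu, rfl⟩, rfl⟩ := hw
        exact ⟨_, ⟨_, hX y u hu, rfl⟩, hval y u⟩,
      fun h0 => hne (Submodule.map_injective_of_injective e.symm.injective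
        (Submodule.map_injective_of_injective V.subtype_injective (by
          rw [Submodule.map_bot, Submodule.map_bot]; exact h0)))⟩
      (Submodule.map_subtype_le V _)
    refine eq_top_iff.mpr fun u _ => ?_
    obtain ⟨v, ⟨u', hu', rfl⟩, hvu⟩ := hle (e.symm u).2
    rwa [← e.symm.injective (Subtype.ext hvu)]
  exact ⟨_, ρ, hscal, H.setup.combo_injective hscal, H.setup.combo_surjective hscal hirr⟩

end

section Implementer

variable [IsAlgClosed k] {U : Type*} [AddCommGroup U] [Module k U]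
  [FiniteDimensional k U] {ρ : Q →* Module.End k U}

/-- An implementer of exact period `M`. -/
theorem Model.exists_impl (m : Model μ ρ) (H : Heis R μ) {γ : MulAut Q} (hγ : Pres R μ γ) {M : ℕ}
    (hM : 0 < M) (hper : ∀ y, ρ ((γ ^ M) y) = ρ y) :
    ∃ Θ : Module.End k U, Θ ^ M = 1 ∧ Impl ρ γ Θ := by
  haveI := m.nontrivial
  have hρ' : IsScalar μ (ρ.comp γ.toMonoidHom) := fun r => by
    have h := m.scalar ⟨γ r, hγ.mem r r.2⟩
    rw [hγ.fix] at h
    exact h
  obtain ⟨T, hT0, hT⟩ := H.setup.exists_intertwiner m.scalar hρ'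
  have hI : Impl ρ γ T := fun y => (hT y).symm
  have hTinj : Function.Injective T := by
    rw [← LinearMap.ker_eq_bot]
    refine (m.irred _ fun y w hw => ?_).resolve_right fun h => hT0 (LinearMap.ker_eq_top.mp h)
    rw [LinearMap.mem_ker] at hw ⊢
    rw [← Module.End.mul_apply, hI y, Module.End.mul_apply, hw, map_zero]
  have hcomm : ∀ y, Commute (T ^ M) (ρ y) := fun y => by
    rw [commute_iff_eq, hI.pow M y, hper]
  obtain ⟨c, hc⟩ := Prelim.exists_scalar_of_commute_all _ (m.commute_all hcomm)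
  have hc0 : c ≠ 0 := fun h => by
    obtain ⟨v, hv⟩ := exists_ne (0 : U)
    refine hv (((Function.Injective.iterate hTinj M)) ?_)
    rw [← Module.End.coe_pow, map_zero, hc, h, zero_smul]
    rfl
  obtain ⟨z, hz⟩ := IsAlgClosed.exists_pow_nat_eq c⁻¹ hM
  refine ⟨z • T, ?_, hI.smul z⟩
  rw [smul_pow, hz, hc, smul_smul, inv_mul_cancel₀ hc0, one_smul]

omit [IsAlgClosed k] in
/-- Implementers of commuting automorphisms with coprime periods commute. -/
theorem Model.commute_impl (m : Model μ ρ) {γ δ : MulAut Q} {Θ N : Module.End k U} {a b : ℕ}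
    (hΘ : Impl ρ γ Θ) (hN : Impl ρ δ N) (ha : Θ ^ a = 1) (hb : N ^ b = 1) (ha0 : 0 < a)
    (hb0 : 0 < b) (hcop : a.Coprime b) (hcomm : ∀ y, ρ (γ (δ y)) = ρ (δ (γ y))) :
    Commute Θ N := by
  haveI := m.nontrivial
  set Θi := Θ ^ (a - 1) with hΘi
  set Ni := N ^ (b - 1) with hNi
  have hΘ1 : Θ * Θi = 1 := by rw [hΘi, ← pow_succ', Nat.sub_add_cancel ha0, ha]
  have hΘ2 : Θi * Θ = 1 := by rw [hΘi, ← pow_succ, Nat.sub_add_cancel ha0, ha]
  have hN1 : N * Ni = 1 := by rw [hNi, ← pow_succ', Nat.sub_add_cancel hb0, hb]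
  have hN2 : Ni * N = 1 := by rw [hNi, ← pow_succ, Nat.sub_add_cancel hb0, hb]
  have hc : ∀ y, Commute (Ni * Θi * N * Θ) (ρ y) := fun y => by
    have e1 : N * Θ * ρ y = ρ (γ (δ y)) * (N * Θ) := by
      rw [hcomm]; exact hN.mul hΘ y
    have e2 : Θ * N * ρ y = ρ (γ (δ y)) * (Θ * N) := hΘ.mul hN y
    rw [commute_iff_eq]
    calc Ni * Θi * N * Θ * ρ y = Ni * Θi * (N * Θ * ρ y) := by simp only [mul_assoc]
      _ = Ni * Θi * (ρ (γ (δ y)) * (Θ * N)) * (Ni * Θi) * (N * Θ) := by
          rw [e1]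
          simp only [mul_assoc]
          rw [← mul_assoc N Ni, hN1, one_mul, ← mul_assoc Θ Θi, hΘ1, one_mul]
      _ = Ni * Θi * (Θ * N * ρ y) * (Ni * Θi) * (N * Θ) := by rw [e2]
      _ = ρ y * (Ni * Θi * N * Θ) := by
          simp only [mul_assoc]
          rw [← mul_assoc Θi Θ, hΘ2, one_mul, ← mul_assoc Ni N, hN2, one_mul]
  obtain ⟨w, hw⟩ := Prelim.exists_scalar_of_commute_all _ (m.commute_all hc)
  have hNΘ : N * Θ = w • (Θ * N) := by
    calc N * Θ = Θ * N * (Ni * Θi * N * Θ) := by
          simp only [mul_assoc]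
          rw [← mul_assoc N Ni, hN1, one_mul, ← mul_assoc Θ Θi, hΘ1, one_mul]
      _ = w • (Θ * N) := by rw [hw, mul_smul_comm, mul_one]
  have hwa : ∀ i : ℕ, N * Θ ^ i = w ^ i • (Θ ^ i * N) := by
    intro i
    induction i with
    | zero => simp
    | succ i ih =>
      rw [pow_succ, ← mul_assoc, ih, smul_mul_assoc, mul_assoc, hNΘ, mul_smul_comm, smul_smul,
        ← pow_succ, mul_assoc]
  have hwb : ∀ i : ℕ, N ^ i * Θ = w ^ i • (Θ * N ^ i) := by
    intro i
    induction i with
    | zero => simp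
    | succ i ih =>
      rw [pow_succ', mul_assoc, ih, mul_smul_comm, ← mul_assoc, hNΘ, smul_mul_assoc, smul_smul,
        ← pow_succ, mul_assoc]
  have cancel : ∀ (X : Module.End k U), (∃ Y, X * Y = 1) → ∀ t : k, X = t • X → t = 1 := by
    rintro X ⟨Y, hY⟩ t ht
    have h1 := congrArg (· * Y) ht
    simp only [smul_mul_assoc, hY] at h1
    obtain ⟨v, hv⟩ := exists_ne (0 : U)
    have h2 := LinearMap.congr_fun h1 v
    simp only [LinearMap.smul_apply, Module.End.one_apply] at h2
    exact (smul_left_injective k hv ((one_smul k v).trans h2)).symm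
  have h1 : w ^ a = 1 := cancel N ⟨Ni, hN1⟩ _ (by
    have := hwa a
    rwa [ha, mul_one, one_mul] at this)
  have h2 : w ^ b = 1 := cancel Θ ⟨Θi, hΘ1⟩ _ (by
    have := hwb b
    rwa [hb, mul_one, one_mul] at this)
  have h3 : w = 1 := by
    have := pow_gcd_eq_one.mpr ⟨h1, h2⟩
    rwa [Nat.Coprime.gcd_eq_one hcop, pow_one] at this
  rw [h3, one_smul] at hNΘ
  exact hNΘ.symm

end Implementer

section Orbits

variable {U : Type*} [AddCommGroup U] [Module k U]
  {ρ : Q →* Module.End k U}

/-- Hypotheses on a semiregular automorphism with implementer of exact period `M`. -/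
structure Semireg (μ : R →* k) (ρ : Q →* Module.End k U) (γ : MulAut Q) (Θ : Module.End k U)
    (M : ℕ) : Prop where
  pres : Pres R μ γ
  pos : 0 < M
  per : ∀ y, y⁻¹ * (γ ^ M) y ∈ R
  semi : ∀ i, 0 < i → i < M → ∀ y, y⁻¹ * (γ ^ i) y ∈ R → y ∈ R
  pow : Θ ^ M = 1
  impl : Impl ρ γ Θ

variable {γ : MulAut Q} {Θ : Module.End k U} {M : ℕ}

theorem Semireg.exists_perm (S : Semireg μ ρ γ Θ M) :
    ∃ β : Equiv.Perm (Q ⧸ R), (∀ i (y : Q), (β ^ i) (y : Q ⧸ R) = (((γ ^ i) y : Q) : Q ⧸ R)) ∧
      β 1 = 1 ∧ (∀ c, (β ^ M) c = c) ∧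
      ∀ i, 0 < i → i < M → ∀ c, (β ^ i) c = c → c = 1 := by
  have hmap : R.map (γ : Q →* Q) = R := by
    refine Subgroup.eq_of_le_of_card_ge ?_ ?_
    · rintro _ ⟨x, hx, rfl⟩; exact S.pres.mem x hx
    · rw [Subgroup.card_map_of_injective γ.injective]
  set e : (Q ⧸ R) ≃* (Q ⧸ R) := QuotientGroup.congr R R γ hmap
  have he : ∀ y : Q, e.toEquiv (y : Q ⧸ R) = ((γ y : Q) : Q ⧸ R) := fun y => rfl
  have hp : ∀ i (y : Q), (e.toEquiv ^ i) (y : Q ⧸ R) = (((γ ^ i) y : Q) : Q ⧸ R) := by
    intro i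
    induction i with
    | zero => intro y; rfl
    | succ i ih =>
      intro y
      rw [pow_succ, Equiv.Perm.mul_apply, he, ih, pow_succ, MulAut.mul_apply]
  refine ⟨e.toEquiv, hp, map_one e, fun c => ?_, fun i hi hiM c hc => ?_⟩
  · obtain ⟨y, rfl⟩ := QuotientGroup.mk_surjective c
    rw [hp]
    exact (QuotientGroup.eq.mpr (S.per y)).symm
  · obtain ⟨y, rfl⟩ := QuotientGroup.mk_surjective c
    rw [hp] at hc
    exact (QuotientGroup.eq_one_iff y).mpr (S.semi i hi hiM y (QuotientGroup.eq.mp hc.symm))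

/-- Eigenvectors of the conjugation by `Θ` in coordinates. -/
theorem Semireg.coef_rel (S : Semireg μ ρ γ Θ M) (m : Model μ ρ) {β : Equiv.Perm (Q ⧸ R)}
    (hβ : ∀ i (y : Q), (β ^ i) (y : Q ⧸ R) = (((γ ^ i) y : Q) : Q ⧸ R)) {X : Module.End k U}
    {ξ : k} (hX : Θ * X = ξ • (X * Θ)) (c : Q ⧸ R) :
    Θ * (m.coef X c • ρ c.out) = ξ • (m.coef X (β c) • ρ (β c).out * Θ) := by
  classical
  have hcls : ∀ d : Q ⧸ R, ((γ d.out : Q) : Q ⧸ R) = β d := fun d => by
    have := hβ 1 d.out
    rw [pow_one, pow_one, QuotientGroup.out_eq'] at this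
    exact this.symm
  have h1 : ∑ d, (m.coef X d • ρ (γ d.out)) = ξ • X := by
    refine mul_left_cancel_of_pow S.pos S.pow ?_
    rw [Finset.sum_mul, smul_mul_assoc, ← hX]
    conv_rhs => rw [m.sum_coef X, Finset.mul_sum]
    exact Finset.sum_congr rfl fun d _ => by rw [mul_smul_comm, S.impl, smul_mul_assoc]
  have h2 := congrFun (congrArg m.coef h1) (β c)
  rw [map_sum, Finset.sum_apply, map_smul, Pi.smul_apply] at h2
  simp only [map_smul, Pi.smul_apply, m.coef_rho] at h2
  rw [Finset.sum_eq_single c] at h2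
  · rw [mul_smul_comm, S.impl]
    have h3 : m.coef X c • ρ (γ c.out) = ξ • (m.coef X (β c) • ρ (β c).out) := by
      refine m.coef.injective (funext fun d => ?_)
      simp only [map_smul, Pi.smul_apply, m.coef_rho_out]
      rw [m.coef_rho]
      rcases eq_or_ne d (β c) with rfl | hd
      · rw [Pi.single_eq_same, Pi.single_apply, if_pos (hcls c).symm]
        rw [Pi.single_apply, if_pos (hcls c).symm] at h2
        simp only [smul_eq_mul, mul_one] at h2 ⊢
        exact h2
      · rw [Pi.single_eq_of_ne hd, Pi.single_eq_of_ne (hcls c ▸ hd)]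
        simp
    rw [← smul_mul_assoc, h3, smul_mul_assoc]
  · intro d _ hd
    rw [Pi.single_eq_of_ne, smul_zero]
    rw [hcls]
    exact fun h => hd (β.injective h).symm
  · intro h; exact absurd (Finset.mem_univ c) h

/-- Fixed operators are scalars plus norms. -/
theorem Semireg.fixed_eq (S : Semireg μ ρ γ Θ M) (m : Model μ ρ) {X : Module.End k U}
    (hX : Commute Θ X) :
    ∃ (x : k) (Y : Module.End k U),
      X = x • 1 + ∑ i ∈ Finset.range M, Θ ^ i * Y * Θ ^ (M - i) := by
  classical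
  obtain ⟨β, hβ, hβ1, hβM, hβs⟩ := S.exists_perm
  obtain ⟨T, hinj, hrange, -⟩ := Prelim.exists_transversal β 1 S.pos hβ1 hβM hβs
  set F : Q ⧸ R → Module.End k U := fun c => m.coef X c • ρ c.out with hF
  have hstep : ∀ c, Θ * F c = F (β c) * Θ := fun c => by
    have h := S.coef_rel m hβ (ξ := 1) (X := X) (by rw [one_smul]; exact hX) c
    rwa [one_smul] at h
  have hF2 : ∀ (i : ℕ) c, i ≤ M → Θ ^ i * F c * Θ ^ (M - i) = F ((β ^ i) c) := by
    intro i
    induction i with
    | zero => intro c _; simp [S.pow]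
    | succ i ih =>
      intro c hi
      have h1 : Θ ^ (i + 1) * F c * Θ ^ (M - (i + 1)) = Θ ^ i * F (β c) * Θ ^ (M - i) := by
        rw [show M - i = (M - (i + 1)) + 1 by omega, pow_succ Θ i, mul_assoc (Θ ^ i) Θ, hstep,
          pow_succ' Θ (M - (i + 1))]
        simp only [mul_assoc]
      rw [h1, ih (β c) (by omega), pow_succ, Equiv.Perm.mul_apply]
  obtain ⟨r, hr⟩ := QuotientGroup.mk_out_eq_mul R (1 : Q)
  refine ⟨m.coef X 1 * μ r, ∑ t ∈ T, F t, ?_⟩
  have h0 : F 1 = (m.coef X 1 * μ r) • 1 := by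
    show m.coef X 1 • ρ (1 : Q ⧸ R).out = _
    rw [show (1 : Q ⧸ R).out = r by rw [← QuotientGroup.mk_one R, hr, one_mul], m.scalar,
      smul_smul]
  conv_lhs => rw [m.sum_coef X]
  show ∑ c, F c = _
  rw [← Finset.add_sum_erase _ _ (Finset.mem_univ (1 : Q ⧸ R)), h0]
  congr 1
  simp only [Finset.mul_sum, Finset.sum_mul]
  rw [Finset.sum_congr rfl fun i hi => Finset.sum_congr rfl fun t _ =>
    hF2 i t (Finset.mem_range.mp hi).le]
  rw [Finset.sum_comm, ← Finset.sum_product']
  have himg : Finset.univ.erase (1 : Q ⧸ R) =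
      (T ×ˢ Finset.range M).image fun p => (β ^ p.2) p.1 := by
    ext c
    simp only [Finset.mem_erase, Finset.mem_univ, and_true, Finset.mem_image, Finset.mem_product,
      Finset.mem_range]
    constructor
    · intro hc
      obtain ⟨⟨t, i⟩, hti⟩ : c ∈ Set.range (fun p : T × Fin M => (β ^ (p.2 : ℕ)) (p.1 : Q ⧸ R)) :=
        hrange ▸ hc
      exact ⟨(t, i), ⟨t.2, i.isLt⟩, hti⟩
    · rintro ⟨⟨t, i⟩, ⟨ht, hi⟩, rfl⟩
      have : (β ^ i) t ∈ Set.range (fun p : T × Fin M => (β ^ (p.2 : ℕ)) (p.1 : Q ⧸ R)) :=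
        ⟨(⟨t, ht⟩, ⟨i, hi⟩), rfl⟩
      rw [hrange] at this
      exact this
  rw [himg, Finset.sum_image]
  rintro ⟨t, i⟩ hp ⟨t', i'⟩ hp' h
  obtain ⟨ht, hi⟩ := Finset.mem_product.mp hp
  obtain ⟨ht', hi'⟩ := Finset.mem_product.mp hp'
  have := hinj (a₁ := (⟨t, ht⟩, ⟨i, Finset.mem_range.mp hi⟩))
    (a₂ := (⟨t', ht'⟩, ⟨i', Finset.mem_range.mp hi'⟩)) h
  exact Prod.ext (congrArg (fun q => (q.1 : Q ⧸ R)) this) (congrArg (fun q => (q.2 : ℕ)) this)

/-- The number of coincident eigenvalue pairs of a semiregular implementer. -/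
theorem Semireg.pairs_count [FiniteDimensional k U] [DecidableEq k] (S : Semireg μ ρ γ Θ M)
    (m : Model μ ρ) {ι : Type*} [Fintype ι] (b : Basis ι k U) (ν : ι → k)
    (hν : ∀ i, Θ (b i) = ν i • b i) (hνM : ∀ i, ν i ^ M = 1) :
    ∃ J, Fintype.card ι * Fintype.card ι = 1 + M * J ∧
      (Finset.univ.filter fun p : ι × ι => ν p.1 = ν p.2).card = 1 + J := by
  classical
  obtain ⟨β, hβ, hβ1, hβM, hβs⟩ := S.exists_perm
  obtain ⟨T, hinj, hrange, hcard⟩ := Prelim.exists_transversal β 1 S.pos hβ1 hβM hβs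
  have htot : Fintype.card ι * Fintype.card ι = 1 + M * T.card := by
    rw [← hcard, ← Nat.card_eq_fintype_card, ← Nat.card_eq_fintype_card (α := Q ⧸ R), m.card_eq,
      finrank_eq_card_basis b, Nat.card_eq_fintype_card]
  refine ⟨T.card, htot, ?_⟩
  set P : k → Finset (ι × ι) := fun ξ => Finset.univ.filter fun p => ν p.1 = ξ * ν p.2 with hP
  let E : ι × ι → Module.End k U := fun p => (b.coord p.2).smulRight (b p.1)
  have hν0 : ∀ i, ν i ≠ 0 := fun i h => by
    have := hνM i
    rw [h, zero_pow S.pos.ne'] at this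
    exact zero_ne_one this
  have hE : ∀ p ξ, p ∈ P ξ → Θ * E p = ξ • (E p * Θ) := by
    intro p ξ hp
    have hp' := (Finset.mem_filter.mp hp).2
    refine b.ext fun l => ?_
    simp only [Module.End.mul_apply, LinearMap.smul_apply, hν, map_smul, E,
      LinearMap.smulRight_apply, Basis.coord_apply, Basis.repr_self]
    rcases eq_or_ne l p.2 with rfl | hl
    · rw [Finsupp.single_eq_same, one_smul, one_smul, hp', smul_smul]
    · rw [Finsupp.single_eq_of_ne hl.symm]; simp
  have hbound : ∀ ξ, (P ξ).card ≤ (if ξ = 1 then 1 else 0) + T.card := by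
    intro ξ
    let L : (P ξ → k) →ₗ[k] Module.End k U :=
      Fintype.linearCombination k (fun p : P ξ => E p.1)
    have hLinj : Function.Injective L := by
      refine (injective_iff_map_eq_zero L).mpr fun f hf => funext fun p => ?_
      have h := congrArg (fun v => b.coord p.1.1 v) (LinearMap.congr_fun hf (b p.1.2))
      simp only [L, Fintype.linearCombination_apply, LinearMap.sum_apply, map_sum,
        LinearMap.smul_apply, map_smul, LinearMap.zero_apply, map_zero, smul_eq_mul] at h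
      rw [Finset.sum_eq_single p] at h
      · simpa [E] using h
      · intro q _ hqp
        simp only [E, LinearMap.smulRight_apply, map_smul, Basis.coord_apply, Basis.repr_self,
          smul_eq_mul]
        rcases eq_or_ne q.1.2 p.1.2 with h2 | h2
        · rw [Finsupp.single_eq_of_ne (a' := p.1.1) (fun h1 => hqp (Subtype.ext (Prod.ext h1.symm h2)))]
          simp
        · rw [Finsupp.single_eq_of_ne (a' := q.1.2) h2]
          simp
      · intro h'; exact absurd (Finset.mem_univ p) h'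
    have hLeig : ∀ f, Θ * L f = ξ • (L f * Θ) := fun f => by
      simp only [L, Fintype.linearCombination_apply, Finset.mul_sum, Finset.sum_mul,
        Finset.smul_sum, mul_smul_comm, smul_mul_assoc]
      exact Finset.sum_congr rfl fun p _ => by rw [hE p.1 ξ p.2, smul_comm]
    set S' : Finset (Q ⧸ R) := if ξ = 1 then insert 1 T else T
    let g : (P ξ → k) →ₗ[k] (S' → k) :=
      (LinearMap.funLeft k k (fun c : S' => (c : Q ⧸ R))).comp (m.coef.toLinearMap.comp L)
    have hg : Function.Injective g := by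
      refine (injective_iff_map_eq_zero g).mpr fun f hf => hLinj ?_
      rw [map_zero]
      refine m.coef.injective (funext fun c => ?_)
      rw [map_zero, Pi.zero_apply]
      have hz : ∀ c ∈ S', m.coef (L f) c = 0 := fun c hc => congrFun hf ⟨c, hc⟩
      by_cases hξ0 : ξ = 0
      · have h1 := hLeig f
        have h1' : Θ * L f = 0 := by rw [h1]; exact smul_eq_zero_of_left hξ0 _
        clear h1
        rename Θ * L f = 0 => h1
        have h2 : L f = 0 := by
          calc L f = Θ ^ (M - 1) * (Θ * L f) := by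
                rw [← mul_assoc, ← pow_succ, Nat.sub_add_cancel S.pos, S.pow, one_mul]
            _ = 0 := by rw [h1, mul_zero]
        rw [h2, map_zero]; rfl
      have hrel : ∀ d, m.coef (L f) d = 0 → m.coef (L f) (β d) = 0 := fun d hd => by
        have h1 := S.coef_rel m hβ (hLeig f) d
        rw [hd, zero_smul, mul_zero] at h1
        haveI := m.nontrivial
        by_contra hne
        have h2 : ρ (β d).out = 0 := by
          refine mul_left_cancel_of_pow S.pos S.pow ?_
          rw [zero_mul]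
          rw [smul_mul_assoc, smul_smul] at h1
          exact (smul_eq_zero.mp h1.symm).resolve_left (mul_ne_zero hξ0 hne)
        obtain ⟨v, hv⟩ := exists_ne (0 : U)
        refine hv ?_
        have h3 := LinearMap.congr_fun (rho_inv_mul ρ (β d).out) v
        rw [Module.End.mul_apply, h2, LinearMap.zero_apply, map_zero] at h3
        exact h3.symm
      rcases eq_or_ne c 1 with rfl | hc
      · rcases eq_or_ne ξ 1 with hξ | hξ
        · exact hz 1 (by simp [S', hξ])
        · obtain ⟨r, hr⟩ := QuotientGroup.mk_out_eq_mul R (1 : Q)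
          have h1 := S.coef_rel m hβ (hLeig f) 1
          have h3 : ρ (1 : Q ⧸ R).out = μ r • 1 := by
            rw [show (1 : Q ⧸ R).out = r by rw [← QuotientGroup.mk_one R, hr, one_mul], m.scalar]
          rw [hβ1, h3, smul_smul, mul_smul_comm, mul_one, smul_mul_assoc, one_mul, smul_smul] at h1
          haveI := m.nontrivial
          have hΘ0 : Θ ≠ 0 := fun h => by
            have := S.pow
            rw [h, zero_pow S.pos.ne'] at this
            exact zero_ne_one this
          have h2 := smul_left_injective k hΘ0 h1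
          by_contra hne
          refine hξ ?_
          have h5 : m.coef (L f) 1 * μ r ≠ 0 := mul_ne_zero hne (mu_ne_zero μ r)
          exact (mul_eq_right₀ h5).mp h2.symm
      · obtain ⟨⟨t, i⟩, rfl⟩ : c ∈ Set.range (fun p : T × Fin M => (β ^ (p.2 : ℕ)) (p.1 : Q ⧸ R)) :=
          hrange ▸ hc
        have : ∀ j : ℕ, m.coef (L f) ((β ^ j) (t : Q ⧸ R)) = 0 := fun j => by
          induction j with
          | zero => exact hz _ (by
              simp only [S']
              split
              · exact Finset.mem_insert_of_mem t.2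
              · exact t.2)
          | succ j ih => rw [pow_succ', Equiv.Perm.mul_apply]; exact hrel _ ih
        exact this _
    have h := LinearMap.finrank_le_finrank_of_injective hg
    rw [Module.finrank_pi, Module.finrank_pi, Fintype.card_coe, Fintype.card_coe] at h
    refine h.trans ?_
    simp only [S']
    split
    · exact (Finset.card_insert_le _ _).trans (by omega)
    · omega
  set Z := (Polynomial.nthRootsFinset M (1 : k)) with hZ
  have h1Z : (1 : k) ∈ Z := by rw [hZ, Polynomial.mem_nthRootsFinset S.pos, one_pow]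
  have hmaps : ∀ p ∈ (Finset.univ : Finset (ι × ι)), ν p.1 / ν p.2 ∈ Z := fun p _ => by
    rw [hZ, Polynomial.mem_nthRootsFinset S.pos, div_pow, hνM, hνM, div_one]
  have hsum : Fintype.card ι * Fintype.card ι = ∑ ξ ∈ Z, (P ξ).card := by
    rw [← Fintype.card_prod, ← Finset.card_univ, Finset.card_eq_sum_card_fiberwise hmaps]
    refine Finset.sum_congr rfl fun ξ _ => ?_
    congr 1
    ext p
    simp [P, div_eq_iff (hν0 p.2)]
  have hZcard : Z.card ≤ M := by
    rw [hZ, Polynomial.nthRootsFinset_def]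
    exact (Multiset.toFinset_card_le _).trans (Polynomial.card_nthRoots M 1)
  have hP1 : (Finset.univ.filter fun p : ι × ι => ν p.1 = ν p.2) = P 1 := by
    simp [P]
  rw [hP1]
  rw [← Finset.add_sum_erase _ _ h1Z] at hsum
  have hrest : ∑ ξ ∈ Z.erase 1, (P ξ).card ≤ (M - 1) * T.card := by
    refine (Finset.sum_le_card_nsmul _ _ T.card fun ξ hξ => ?_).trans ?_
    · have := hbound ξ
      rwa [if_neg (Finset.ne_of_mem_erase hξ), zero_add] at this
    · rw [smul_eq_mul, Finset.card_erase_of_mem h1Z]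
      exact Nat.mul_le_mul_right _ (by omega)
  have h1 := hbound 1
  rw [if_pos rfl] at h1
  obtain ⟨M', rfl⟩ : ∃ M', M = M' + 1 := ⟨M - 1, (Nat.sub_add_cancel S.pos).symm⟩
  rw [Nat.add_sub_cancel] at hrest
  rw [htot, Nat.add_mul, one_mul] at hsum
  omega

/-- An operator commuting with the fixed operators of `Θ` fixes each orbit of `γ` modulo `R`. -/
theorem Semireg.orbit_eq (S : Semireg μ ρ γ Θ M) (m : Model μ ρ) {n : MulAut Q}
    (hn : Pres R μ n) {N : Module.End k U} {e : ℕ} (he : 0 < e) (hNe : N ^ e = 1)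
    (hN : Impl ρ n N) (hcomm : ∀ X, Commute Θ X → Commute N X) (y : Q) :
    ∃ i, i < M ∧ (n y)⁻¹ * (γ ^ i) y ∈ R := by
  classical
  by_cases hy : y ∈ R
  · exact ⟨0, S.pos, mul_mem (inv_mem (hn.mem y hy)) hy⟩
  set X : Module.End k U := ∑ i ∈ Finset.range M, ρ ((γ ^ i) y) with hXdef
  have hper : ρ ((γ ^ M) y) = ρ y := by
    have := S.impl.pow M y
    rwa [S.pow, one_mul, mul_one, eq_comm] at this
  have hX : Commute Θ X := by
    rw [commute_iff_eq, hXdef, Finset.mul_sum, Finset.sum_mul]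
    simp only [S.impl _, ← MulAut.mul_apply, ← pow_succ']
    rw [← Finset.sum_mul, ← Finset.sum_mul]
    congr 1
    have h1 := Finset.sum_range_succ' (fun i => ρ ((γ ^ i) y)) M
    rw [Finset.sum_range_succ, hper, pow_zero] at h1
    exact add_right_cancel h1.symm
  have h1 : ∑ i ∈ Finset.range M, ρ (n ((γ ^ i) y)) = X := by
    refine mul_left_cancel_of_pow he hNe ?_
    rw [← (hcomm X hX).eq, hXdef, Finset.mul_sum, Finset.sum_mul]
    exact Finset.sum_congr rfl fun i _ => (hN _).symm
  by_contra hcon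
  have hne : ∀ i, i < M → (n y)⁻¹ * (γ ^ i) y ∉ R := fun i hi h => hcon ⟨i, hi, h⟩
  have h2 := congrFun (congrArg m.coef h1) (n y : Q ⧸ R)
  rw [hXdef, map_sum, map_sum, Finset.sum_apply, Finset.sum_apply] at h2
  simp only [m.coef_rho] at h2
  rw [Finset.sum_eq_single 0, Finset.sum_eq_zero (fun i hi => Pi.single_eq_of_ne (fun h =>
    hne i (Finset.mem_range.mp hi) (QuotientGroup.eq.mp h)) _)] at h2
  · simp only [pow_zero, MulAut.one_apply] at h2
    rw [Pi.single_eq_same] at h2
    exact mu_ne_zero μ _ h2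
  · intro i hi hi0
    refine Pi.single_eq_of_ne (fun h => hy (S.semi i (Nat.pos_of_ne_zero hi0)
      (Finset.mem_range.mp hi) y ?_)) _
    have h3 : n (y⁻¹ * (γ ^ i) y) ∈ R := by
      rw [map_mul, map_inv]; exact QuotientGroup.eq.mp h
    have hmap : R.map (n : Q →* Q) = R := by
      refine Subgroup.eq_of_le_of_card_ge ?_ ?_
      · rintro _ ⟨x, hx, rfl⟩; exact hn.mem x hx
      · rw [Subgroup.card_map_of_injective n.injective]
    rw [← hmap] at h3
    exact (Subgroup.mem_map_iff_mem n.injective).mp h3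
  · intro h; exact absurd (Finset.mem_range.mpr S.pos) h

end Orbits

end Cfsg.Agent.Lib.PrimeFitting.Twisted
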