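/-
Modules of a nondegenerate pair fixed by an automorphism of prime order: eigenvalues, detection
by fixed vectors, and commuting automorphisms trivial on the fixed vectors.
-/
import Cfsg.Agent.Lib.PrimeFitting.Twisted
import Mathlib.LinearAlgebra.Charpoly.Basic
import Mathlib.LinearAlgebra.Eigenspace.Zero
import Mathlib.LinearAlgebra.Trace
import Mathlib.RingTheory.RootsOfUnity.AlgebraicallyClosed

set_option autoImplicit false
set_option linter.style.haveILetI false
set_option linter.unusedSectionVars false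

namespace Cfsg.Agent.Lib.PrimeFitting.Fixed

open Module
open Cfsg.Agent.Lib.FpfHeight.Extraspecial
open Twisted

/-- The number of indices with a given value. -/
noncomputable def mult {ι α : Type*} [Fintype ι] (ν : ι → α) (a : α) : ℕ :=
  haveI := Classical.decEq α
  (Finset.univ.filter fun i => ν i = a).card

theorem mult_def {ι α : Type*} [Fintype ι] [DecidableEq α] (ν : ι → α) (a : α) :
    mult ν a = (Finset.univ.filter fun i => ν i = a).card := by
  rw [mult]; congr!

theorem mult_pos_iff {ι α : Type*} [Fintype ι] (ν : ι → α) (a : α) :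
    0 < mult ν a ↔ ∃ i, ν i = a := by
  classical
  simp [mult_def, Finset.card_pos, Finset.filter_nonempty_iff]

theorem eq_of_mult_le_one {ι α : Type*} [Fintype ι] {ν : ι → α} {a : α} (h : mult ν a ≤ 1)
    {i j : ι} (hi : ν i = a) (hj : ν j = a) : i = j := by
  classical
  rw [mult_def] at h
  exact Finset.card_le_one.mp h i (by simp [hi]) j (by simp [hj])

section Roots

variable {k : Type*} [Field k]

/-- The `r`-th roots of unity. -/
noncomputable def roots (k : Type*) [Field k] (r : ℕ) : Finset k :=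
  Polynomial.nthRootsFinset r (1 : k)

theorem mem_roots {r : ℕ} (hr : 0 < r) {a : k} : a ∈ roots k r ↔ a ^ r = 1 :=
  Polynomial.mem_nthRootsFinset hr 1

variable [IsAlgClosed k]

theorem card_roots {r : ℕ} (hr : (r : k) ≠ 0) : (roots k r).card = r := by
  haveI : NeZero (r : k) := ⟨hr⟩
  obtain ⟨ζ, hζ⟩ := HasEnoughRootsOfUnity.exists_primitiveRoot k r
  exact hζ.card_nthRootsFinset

variable {ι : Type*} [Fintype ι] [DecidableEq k]

theorem sum_mult {r : ℕ} (hr : 0 < r) (ν : ι → k) (hν : ∀ i, ν i ^ r = 1) :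
    ∑ a ∈ roots k r, mult ν a = Fintype.card ι := by
  simp only [mult_def]
  rw [← Finset.card_univ, Finset.card_eq_sum_card_fiberwise (t := roots k r) (f := ν)]
  intro i _
  exact (mem_roots hr).mpr (hν i)

theorem sum_mult_sq {r : ℕ} (hr : 0 < r) (ν : ι → k) (hν : ∀ i, ν i ^ r = 1) :
    ∑ a ∈ roots k r, mult ν a ^ 2 =
      (Finset.univ.filter fun p : ι × ι => ν p.1 = ν p.2).card := by
  rw [Finset.card_eq_sum_card_fiberwise (t := roots k r) (f := fun p : ι × ι => ν p.1)
    (fun p _ => (mem_roots hr).mpr (hν p.1))]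
  refine Finset.sum_congr rfl fun a _ => ?_
  rw [mult_def, sq, ← Finset.card_product]
  congr 1
  ext p
  simp only [Finset.mem_product, Finset.mem_filter, Finset.mem_univ, true_and]
  constructor
  · rintro ⟨h1, h2⟩; exact ⟨h1.trans h2.symm, h1⟩
  · rintro ⟨h1, h2⟩; exact ⟨h2, h1 ▸ h2⟩

/-- Squared spread of multiplicities. -/
theorem spread {r : ℕ} (hr : (r : k) ≠ 0) (hr0 : 0 < r) (ν : ι → k) (hν : ∀ i, ν i ^ r = 1) {J : ℕ}
    (hcard : Fintype.card ι * Fintype.card ι = 1 + r * J)
    (hpairs : (Finset.univ.filter fun p : ι × ι => ν p.1 = ν p.2).card = 1 + J) :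
    ∑ a ∈ roots k r, ∑ b ∈ roots k r, ((mult ν a : ℤ) - mult ν b) ^ 2 =
      2 * (((roots k r).card : ℤ) - 1) := by
  rw [Prelim.sum_sq_diff, card_roots hr]
  have h1 : ∑ a ∈ roots k r, (mult ν a : ℤ) ^ 2 = 1 + J := by
    have := sum_mult_sq hr0 ν hν
    rw [hpairs] at this
    exact_mod_cast this
  have h2 : ∑ a ∈ roots k r, (mult ν a : ℤ) = Fintype.card ι := by
    exact_mod_cast sum_mult hr0 ν hν
  have h3 : (Fintype.card ι : ℤ) * Fintype.card ι = 1 + r * J := by exact_mod_cast hcard
  rw [h1, h2]
  linear_combination (-2 : ℤ) * h3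

end Roots

variable {k : Type*} [Field k] [IsAlgClosed k] {Q : Type*} [Group Q] [Finite Q] {R : Subgroup Q}
  [R.Normal] [Fintype (Q ⧸ R)] {μ : R →* k} {β : MulAut Q} {r : ℕ}
  {W : Type*} [AddCommGroup W] [Module k W] [FiniteDimensional k W] [Nontrivial W]
  {σ : Q →* Module.End k W} {sW : Module.End k W}

/-- A module of a nondegenerate pair with an implementer of an automorphism of prime order. -/
structure Datum (μ : R →* k) (β : MulAut Q) (r : ℕ) (σ : Q →* Module.End k W)
    (sW : Module.End k W) : Prop where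
  heis : Heis R μ
  scalar : IsScalar μ σ
  pres : Pres R μ β
  prime : r.Prime
  cast : (r : k) ≠ 0
  pow : β ^ r = 1
  semi : ∀ i, 0 < i → i < r → ∀ y, y⁻¹ * (β ^ i) y ∈ R → y ∈ R
  impl : Impl σ β sW
  powW : sW ^ r = 1

/-- A model with an eigenbasis of the implementer. -/
structure Frame (μ : R →* k) (β : MulAut Q) (r : ℕ) (σ : Q →* Module.End k W)
    (sW : Module.End k W) where
  D : ℕ
  ρ : Q →* Module.End k (Fin D → k)
  model : Model μ ρ
  T : Module.End k (Fin D → k)
  sreg : Semireg μ ρ β T r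
  n : ℕ
  b : Basis (Fin n) k (Fin D → k)
  ν : Fin n → k
  hν : ∀ i, T (b i) = ν i • b i
  hνr : ∀ i, ν i ^ r = 1

namespace Datum

theorem nonempty_frame (d : Datum μ β r σ sW) : Nonempty (Frame μ β r σ sW) := by
  obtain ⟨D, ρ, m⟩ := exists_model d.heis d.scalar
  obtain ⟨T, hT, hI⟩ := m.exists_impl d.heis d.pres d.prime.pos fun y => by rw [d.pow]; rfl
  obtain ⟨b, ν, h1, h2⟩ := Prelim.exists_eigenbasis T d.cast hT
  exact ⟨⟨D, ρ, m, T, ⟨d.pres, d.prime.pos, fun y => by simp [d.pow], d.semi, hT, hI⟩, _, b, ν,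
    h1, h2⟩⟩

end Datum

namespace Frame

variable (F : Frame μ β r σ sW)

theorem spread_eq [DecidableEq k] (d : Datum μ β r σ sW) :
    ∑ a ∈ roots k r, ∑ b ∈ roots k r, ((mult F.ν a : ℤ) - mult F.ν b) ^ 2 =
      2 * (((roots k r).card : ℤ) - 1) := by
  obtain ⟨J, hJ1, hJ2⟩ := F.sreg.pairs_count F.model F.b F.ν F.hν F.hνr
  exact spread d.cast d.prime.pos F.ν F.hνr hJ1 hJ2

theorem card_eq : Nat.card (Q ⧸ R) = F.n * F.n := by
  rw [F.model.card_eq, finrank_eq_card_basis F.b, Fintype.card_fin]

theorem mult_close (d : Datum μ β r σ sW) {a b : k} (ha : a ^ r = 1) (hb : b ^ r = 1) :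
    mult F.ν a ≤ mult F.ν b + 1 := by
  classical
  have h := (Prelim.two_level (roots k r) (fun a => (mult F.ν a : ℤ))
    (by rw [card_roots d.cast]; exact d.prime.two_le) (F.spread_eq d)).1 a
    ((mem_roots d.prime.pos).mpr ha) b ((mem_roots d.prime.pos).mpr hb)
  have h2 : |(mult F.ν a : ℤ) - mult F.ν b| ≤ 1 := (sq_le_one_iff_abs_le_one _).mp h
  have := abs_le.mp h2
  omega

theorem two_le_n (d : Datum μ β r σ sW) : 2 ≤ F.n := by
  by_contra h
  have h1 : Nat.card (Q ⧸ R) ≤ 1 := by
    rw [F.card_eq]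
    have : F.n ≤ 1 := by omega
    exact Nat.mul_le_mul this this
  refine d.heis.ne_top (eq_top_iff.mpr fun y _ => ?_)
  haveI := (Finite.card_le_one_iff_subsingleton (α := Q ⧸ R)).mp h1
  exact (QuotientGroup.eq_one_iff y).mp (Subsingleton.elim _ _)

/-- A missing eigenvalue forces simple spectrum and dimension `r - 1`. -/
theorem of_missing (d : Datum μ β r σ sW) {a : k} (ha : a ^ r = 1) (h0 : mult F.ν a = 0) :
    (∀ b, mult F.ν b ≤ 1) ∧ F.n = r - 1 := by
  classical
  have hle : ∀ b, mult F.ν b ≤ 1 := fun b => by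
    by_cases hb : b ^ r = 1
    · have := F.mult_close d hb ha
      omega
    · have : mult F.ν b = 0 := by
        rw [← Nat.le_zero, ← not_lt, mult_pos_iff]
        rintro ⟨i, rfl⟩
        exact hb (F.hνr i)
      omega
  refine ⟨hle, ?_⟩
  have hZ := card_roots (k := k) d.cast
  have haZ : a ∈ roots k r := (mem_roots d.prime.pos).mpr ha
  obtain ⟨a₀, ha₀, hall⟩ := (Prelim.two_level (roots k r) (fun a => (mult F.ν a : ℤ))
    (by rw [hZ]; exact d.prime.two_le) (F.spread_eq d)).2
  have hsum := sum_mult d.prime.pos F.ν F.hνr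
  rw [Fintype.card_fin, ← Finset.add_sum_erase _ _ ha₀] at hsum
  have h2 := F.two_le_n d
  by_cases hac : a = a₀
  · subst hac
    rw [h0, zero_add] at hsum
    obtain ⟨b, hb, hb1⟩ : ∃ b ∈ (roots k r).erase a, mult F.ν b = 1 := by
      by_contra hcon
      push Not at hcon
      rw [Finset.sum_eq_zero fun b hb => by have := hle b; have := hcon b hb; omega] at hsum
      omega
    rw [Finset.sum_congr rfl fun c hc => show mult F.ν c = 1 by
      have := hall b (Finset.mem_of_mem_erase hb) (Finset.ne_of_mem_erase hb) c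
        (Finset.mem_of_mem_erase hc) (Finset.ne_of_mem_erase hc)
      omega, Finset.sum_const, smul_eq_mul, mul_one, Finset.card_erase_of_mem ha₀, hZ] at hsum
    exact hsum.symm
  · exfalso
    rw [Finset.sum_eq_zero fun b hb => show mult F.ν b = 0 by
      have := hall a haZ hac b (Finset.mem_of_mem_erase hb) (Finset.ne_of_mem_erase hb)
      omega] at hsum
    have := hle a₀
    omega

theorem missing_iff (d : Datum μ β r σ sW) :
    (∃ a : k, a ^ r = 1 ∧ mult F.ν a = 0) ↔ Nat.card (Q ⧸ R) < r * r := by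
  classical
  rw [F.card_eq]
  constructor
  · rintro ⟨a, ha, h0⟩
    rw [(F.of_missing d ha h0).2]
    have := d.prime.pos
    exact Nat.mul_lt_mul'' (by omega) (by omega)
  · intro h
    by_contra hcon
    push Not at hcon
    have hsum := sum_mult d.prime.pos F.ν F.hνr
    rw [Fintype.card_fin] at hsum
    have h1 : (roots k r).card • 1 ≤ ∑ a ∈ roots k r, mult F.ν a :=
      Finset.card_nsmul_le_sum _ _ _ fun a ha =>
        Nat.pos_of_ne_zero (hcon a ((mem_roots d.prime.pos).mp ha))
    rw [card_roots d.cast, smul_eq_mul, mul_one, hsum] at h1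
    have := Nat.mul_le_mul h1 h1
    omega

theorem exists_index (d : Datum μ β r σ sW) (hbig : r * r ≤ Nat.card (Q ⧸ R)) {a : k}
    (ha : a ^ r = 1) : ∃ i, F.ν i = a := by
  rw [← mult_pos_iff]
  refine Nat.pos_of_ne_zero fun h => ?_
  have := (F.missing_iff d).mp ⟨a, ha, h⟩
  omega

/-- The part of `sW` commuting with the twisted group algebra. -/
noncomputable def tau : Module.End k W := F.model.transfer σ (F.T ^ (r - 1)) * sW

end Frame

theorem transfer_conj {D : ℕ} {ρ : Q →* Module.End k (Fin D → k)} (m : Model μ ρ)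
    (hσ : IsScalar μ σ) {γ : MulAut Q} {Θ : Module.End k (Fin D → k)} {Y : Module.End k W} {M : ℕ}
    (hM : 0 < M) (hΘ : Θ ^ M = 1) (hI : Impl ρ γ Θ) (hY : Impl σ γ Y) :
    ∀ X, Commute (m.transfer σ (Θ ^ (M - 1)) * Y) (m.transfer σ X) := by
  refine m.commute_transfer fun y => ?_
  have h1 : Θ ^ (M - 1) * ρ (γ y) = ρ y * Θ ^ (M - 1) := by
    calc Θ ^ (M - 1) * ρ (γ y) = Θ ^ (M - 1) * (ρ (γ y) * Θ) * Θ ^ (M - 1) := by
          rw [mul_assoc, mul_assoc, ← pow_succ', Nat.sub_add_cancel hM, hΘ, mul_one]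
      _ = ρ y * Θ ^ (M - 1) := by
          rw [← hI, ← mul_assoc, ← pow_succ, Nat.sub_add_cancel hM, hΘ, one_mul]
  rw [commute_iff_eq]
  calc m.transfer σ (Θ ^ (M - 1)) * Y * σ y
      = m.transfer σ (Θ ^ (M - 1) * ρ (γ y)) * Y := by
        rw [mul_assoc, hY, m.transfer_mul hσ, m.transfer_rho hσ, mul_assoc]
    _ = σ y * (m.transfer σ (Θ ^ (M - 1)) * Y) := by
        rw [h1, m.transfer_mul hσ, m.transfer_rho hσ, mul_assoc]

namespace Frame

variable (F : Frame μ β r σ sW)

theorem tau_commute (d : Datum μ β r σ sW) (X : Module.End k (Fin F.D → k)) :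
    Commute F.tau (F.model.transfer σ X) :=
  transfer_conj F.model d.scalar d.prime.pos F.sreg.pow F.sreg.impl d.impl X

theorem sW_eq (d : Datum μ β r σ sW) : sW = F.model.transfer σ F.T * F.tau := by
  rw [tau, ← mul_assoc, ← F.model.transfer_mul d.scalar, ← pow_succ',
    Nat.sub_add_cancel d.prime.pos, F.sreg.pow, F.model.transfer_one d.scalar, one_mul]

theorem tau_pow (d : Datum μ β r σ sW) : F.tau ^ r = 1 := by
  have h := d.powW
  rwa [F.sW_eq d, ((F.tau_commute d F.T).symm).mul_pow, ← F.model.transfer_pow d.scalar,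
    F.sreg.pow, F.model.transfer_one d.scalar, one_mul] at h

theorem apply_eigen (d : Datum μ β r σ sW) {X : Module.End k (Fin F.D → k)} {a c : k}
    (hX : F.T * X = a • X) {w : W} (hw : F.tau w = c • w) :
    sW (F.model.transfer σ X w) = (a * c) • F.model.transfer σ X w := by
  rw [LinearMap.congr_fun (F.sW_eq d) (F.model.transfer σ X w), Module.End.mul_apply,
    ← Module.End.mul_apply F.tau, (F.tau_commute d X).eq, Module.End.mul_apply, hw, map_smul,
    map_smul, ← Module.End.mul_apply, ← F.model.transfer_mul d.scalar, hX, map_smul,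
    LinearMap.smul_apply, smul_smul, mul_comm]

theorem sandwich (hσ : IsScalar μ σ) (ψ : (Fin F.D → k) →ₗ[k] k) (x : Fin F.D → k) (w : W) :
    ∑ j, F.model.transfer σ (ψ.smulRight (F.b j))
      (F.model.transfer σ ((F.b.coord j).smulRight x) w) = ψ x • w := by
  have h : ∑ j, ψ.smulRight (F.b j) * (F.b.coord j).smulRight x =
      ψ x • (1 : Module.End k (Fin F.D → k)) := by
    refine F.b.ext fun l => ?_
    simp only [LinearMap.sum_apply, Module.End.mul_apply, LinearMap.smulRight_apply,
      LinearMap.smul_apply, Module.End.one_apply, map_smul, Basis.coord_apply, Basis.repr_self,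
      smul_smul]
    rw [Finset.sum_eq_single l]
    · simp
    · intro j _ hj; simp [Finsupp.single_eq_of_ne hj]
    · intro h; exact absurd (Finset.mem_univ l) h
  calc ∑ j, F.model.transfer σ (ψ.smulRight (F.b j))
        (F.model.transfer σ ((F.b.coord j).smulRight x) w)
      = F.model.transfer σ (∑ j, ψ.smulRight (F.b j) * (F.b.coord j).smulRight x) w := by
        rw [map_sum, LinearMap.sum_apply]
        exact Finset.sum_congr rfl fun j _ => by rw [F.model.transfer_mul hσ]; rfl
    _ = ψ x • w := by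
        rw [h, map_smul, F.model.transfer_one hσ]; rfl

theorem T_mul_smulRight {v : Fin F.D → k} {a : k} (hv : F.T v = a • v)
    (φ : (Fin F.D → k) →ₗ[k] k) : F.T * φ.smulRight v = a • φ.smulRight v :=
  LinearMap.ext fun u => by simp [Module.End.mul_apply, hv, smul_comm a]

end Frame

namespace Datum

theorem card_small (d : Datum μ β r σ sW) (h : Nat.card (Q ⧸ R) < r * r) :
    Nat.card (Q ⧸ R) = (r - 1) * (r - 1) := by
  obtain ⟨F⟩ := d.nonempty_frame
  obtain ⟨a, ha, h0⟩ := (F.missing_iff d).mpr h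
  rw [F.card_eq, (F.of_missing d ha h0).2]

/-- Every eigenvalue occurs once the pair is large. -/
theorem exists_eigenvector (d : Datum μ β r σ sW) (hbig : r * r ≤ Nat.card (Q ⧸ R)) {a : k}
    (ha : a ^ r = 1) : ∃ w : W, w ≠ 0 ∧ sW w = a • w := by
  obtain ⟨F⟩ := d.nonempty_frame
  obtain ⟨bt, νt, hνt, hνtr⟩ := Prelim.exists_eigenbasis F.tau d.cast (F.tau_pow d)
  haveI : Nonempty (Fin (finrank k W)) := ⟨⟨0, finrank_pos⟩⟩
  obtain ⟨i₀⟩ := (inferInstance : Nonempty (Fin (finrank k W)))
  have hc0 : νt i₀ ≠ 0 := fun h => by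
    have := hνtr i₀
    rw [h, zero_pow d.prime.ne_zero] at this
    exact zero_ne_one this
  obtain ⟨i, hi⟩ := F.exists_index d hbig (a := a / νt i₀) (by rw [div_pow, ha, hνtr, div_one])
  by_contra hcon
  push Not at hcon
  refine bt.ne_zero i₀ ?_
  have h := F.sandwich d.scalar (F.b.coord i) (F.b i) (bt i₀)
  rw [Finset.sum_eq_zero fun j _ => ?_] at h
  · simpa using h.symm
  · have h1 := F.apply_eigen d (F.T_mul_smulRight (F.hν i) (F.b.coord j)) (hνt i₀)
    rw [hi, div_mul_cancel₀ _ hc0] at h1
    by_contra hne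
    exact hcon _ (fun h0 => hne (by rw [h0, map_zero])) h1

/-- An operator commuting with the pair and the implementer is detected on fixed vectors. -/
theorem eq_zero_of_fixed (d : Datum μ β r σ sW) (hbig : r * r ≤ Nat.card (Q ⧸ R))
    {Z : Module.End k W} (hZ : ∀ y, Commute Z (σ y)) (hZs : Commute Z sW)
    (hfix : ∀ w, sW w = w → Z w = 0) : Z = 0 := by
  obtain ⟨F⟩ := d.nonempty_frame
  obtain ⟨bt, νt, hνt, hνtr⟩ := Prelim.exists_eigenbasis F.tau d.cast (F.tau_pow d)
  refine bt.ext fun i₀ => ?_
  have hc0 : νt i₀ ≠ 0 := fun h => by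
    have := hνtr i₀
    rw [h, zero_pow d.prime.ne_zero] at this
    exact zero_ne_one this
  obtain ⟨i, hi⟩ := F.exists_index d hbig (a := (νt i₀)⁻¹) (by rw [inv_pow, hνtr, inv_one])
  have hcomm := F.model.commute_transfer hZ
  have h := F.sandwich d.scalar (F.b.coord i) (F.b i) (Z (bt i₀))
  rw [Finset.sum_eq_zero fun j _ => ?_] at h
  · simpa using h.symm
  · have h1 := F.apply_eigen d (F.T_mul_smulRight (F.hν i) (F.b.coord j)) (hνt i₀)
    rw [hi, inv_mul_cancel₀ hc0, one_smul] at h1
    rw [← Module.End.mul_apply _ Z, ← (hcomm _).eq, Module.End.mul_apply, hfix _ h1, map_zero]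

end Datum

/-- Operators commuting with a multiplicity-free diagonal operator are diagonal. -/
theorem exists_diag {U : Type*} [AddCommGroup U] [Module k U] {ι : Type*} (b : Basis ι k U)
    (ν : ι → k) {T : Module.End k U} (hν : ∀ i, T (b i) = ν i • b i) (hinj : Function.Injective ν)
    {X : Module.End k U} (hX : Commute T X) (i : ι) : ∃ c : k, X (b i) = c • b i := by
  refine ⟨b.coord i (X (b i)), b.ext_elem fun l => ?_⟩
  rcases eq_or_ne l i with rfl | hl
  · simp
  · have h1 : T (X (b i)) = ν i • X (b i) := by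
      rw [← Module.End.mul_apply, hX.eq, Module.End.mul_apply, hν, map_smul]
    have h2 : ∀ v, b.coord l (T v) = ν l * b.coord l v := by
      intro v
      have : (b.coord l).comp T = ν l • b.coord l := b.ext fun p => by
        rcases eq_or_ne p l with rfl | hp
        · simp [hν]
        · simp [hν, Finsupp.single_eq_of_ne hp.symm]
      exact LinearMap.congr_fun this v
    have h3 := congrArg (b.coord l) h1
    rw [h2, map_smul, smul_eq_mul, mul_eq_mul_right_iff] at h3
    have h4 := h3.resolve_left fun h => hl (hinj h)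
    simp only [Basis.coord_apply] at h4
    simp [h4, Finsupp.single_eq_of_ne hl]

theorem commute_of_simple {U : Type*} [AddCommGroup U] [Module k U] {ι : Type*} (b : Basis ι k U)
    (ν : ι → k) {T : Module.End k U} (hν : ∀ i, T (b i) = ν i • b i) (hinj : Function.Injective ν)
    {X Y : Module.End k U} (hX : Commute T X) (hY : Commute T Y) : Commute X Y :=
  b.ext fun i => by
    obtain ⟨c, hc⟩ := exists_diag b ν hν hinj hX i
    obtain ⟨c', hc'⟩ := exists_diag b ν hν hinj hY i
    rw [Module.End.mul_apply, Module.End.mul_apply, hc, hc', map_smul, map_smul, hc, hc', smul_comm]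

/-- Congruence modulo `R`. -/
def Cong (R : Subgroup Q) (x y : Q) : Prop := x⁻¹ * y ∈ R

theorem Cong.symm {x y : Q} (h : Cong R x y) : Cong R y x := by
  have := inv_mem h
  rwa [mul_inv_rev, inv_inv] at this

theorem Cong.trans {x y z : Q} (h : Cong R x y) (h' : Cong R y z) : Cong R x z := by
  have := mul_mem h h'
  rwa [mul_assoc, mul_inv_cancel_left] at this

theorem Cong.map {γ : MulAut Q} (hγ : Pres R μ γ) {x y : Q} (h : Cong R x y) :
    Cong R (γ x) (γ y) := by
  have := hγ.mem _ h
  rwa [map_mul, map_inv] at this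

theorem cong_mul_iter {γ : MulAut Q} (hγ : Pres R μ γ) {y : Q} {i : ℕ}
    (h : Cong R y ((γ ^ i) y)) : ∀ j, Cong R y ((γ ^ (i * j)) y) := by
  intro j
  induction j with
  | zero => simp [Cong]
  | succ j ih =>
    rw [Nat.mul_succ, Nat.add_comm, pow_add, MulAut.mul_apply]
    exact h.trans (ih.map (hγ.pow i))

theorem mem_of_not_dvd {D : ℕ} {ρ : Q →* Module.End k (Fin D → k)} {γ : MulAut Q}
    {Θ : Module.End k (Fin D → k)} {M : ℕ} (S : Semireg μ ρ γ Θ M) {i : ℕ} (hi : ¬ M ∣ i) {y : Q}
    (h : Cong R y ((γ ^ i) y)) : y ∈ R := by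
  have hper : ∀ (j : ℕ) (z : Q), Cong R z ((γ ^ (M * j)) z) := fun j z =>
    cong_mul_iter S.pres (S.per z) j
  refine S.semi (i % M) (Nat.pos_of_ne_zero fun h0 => hi (Nat.dvd_of_mod_eq_zero h0))
    (Nat.mod_lt i S.pos) y ?_
  have h1 : Cong R ((γ ^ (i % M)) y) ((γ ^ i) y) := by
    have := hper (i / M) ((γ ^ (i % M)) y)
    rwa [← MulAut.mul_apply, ← pow_add, Nat.add_comm, Nat.mod_add_div] at this
  exact h.trans h1.symm

theorem cong_iter_of_commute {γ n : MulAut Q} (hγ : Pres R μ γ) (hn : Pres R μ n)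
    (hc : Commute n γ) {y : Q} {i : ℕ} (h : Cong R (n y) ((γ ^ i) y)) :
    ∀ j, Cong R ((n ^ j) y) ((γ ^ (i * j)) y) := by
  intro j
  induction j with
  | zero => simp [Cong]
  | succ j ih =>
    rw [pow_succ', MulAut.mul_apply, Nat.mul_succ, pow_add, MulAut.mul_apply]
    refine (ih.map hn).trans ?_
    rw [← MulAut.mul_apply, (hc.pow_right (i * j)).eq, MulAut.mul_apply]
    exact h.map (hγ.pow _)

namespace Datum

/-- With simple spectrum, commuting automorphisms of order prime to `r` are trivial. -/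
theorem trivial_of_small (d : Datum μ β r σ sW) (hsmall : Nat.card (Q ⧸ R) < r * r)
    {n : MulAut Q} (hn : Pres R μ n) {e : ℕ} (he : 0 < e) (hne : n ^ e = 1) (her : r.Coprime e)
    (hc : Commute β n) (y : Q) : Cong R y (n y) := by
  obtain ⟨F⟩ := d.nonempty_frame
  obtain ⟨a, ha, h0⟩ := (F.missing_iff d).mpr hsmall
  have hinj : Function.Injective F.ν := fun i j hij =>
    eq_of_mult_le_one ((F.of_missing d ha h0).1 (F.ν j)) hij rfl
  obtain ⟨N, hN1, hN⟩ := F.model.exists_impl d.heis hn he fun y => by rw [hne]; rfl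
  have hTN : Commute F.T N := F.model.commute_impl F.sreg.impl hN F.sreg.pow hN1 d.prime.pos he her
    fun y => congrArg F.ρ (DFunLike.congr_fun hc.eq y)
  obtain ⟨i, hi, hmem⟩ := F.sreg.orbit_eq F.model hn he hN1 hN
    (fun X hX => commute_of_simple F.b F.ν F.hν hinj hTN hX) y
  by_cases hy : y ∈ R
  · exact mul_mem (inv_mem hy) (hn.mem y hy)
  have h1 := cong_iter_of_commute d.pres hn hc.symm hmem e
  rw [hne, MulAut.one_apply] at h1
  have h2 : r ∣ i * e := by
    by_contra hnd
    exact hy (mem_of_not_dvd F.sreg hnd h1)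
  have h3 : i = 0 := Nat.eq_zero_of_dvd_of_lt (her.dvd_of_dvd_mul_right h2) hi
  subst h3
  rw [pow_zero, MulAut.one_apply] at hmem
  exact Cong.symm hmem

end Datum

/-- A further automorphism of prime order `o` semiregular modulo `R`, commuting with `β`, whose
implementer is trivial on the fixed vectors. -/
structure Fpf (μ : R →* k) (β : MulAut Q) (σ : Q →* Module.End k W) (sW : Module.End k W) (r : ℕ)
    (n : MulAut Q) (o e : ℕ) (nW : Module.End k W) : Prop where
  pres : Pres R μ n
  prime : o.Prime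
  ne : o ≠ r
  per : ∀ y, Cong R y ((n ^ o) y)
  semi : ∀ i, 0 < i → i < o → ∀ y, Cong R y ((n ^ i) y) → y ∈ R
  pow : n ^ e = 1
  cop : e.Coprime (Nat.card Q)
  comm : Commute β n
  impl : Impl σ n nW
  commW : Commute nW sW
  triv : ∀ w, sW w = w → nW w = w

variable {n : MulAut Q} {o e : ℕ} {nW : Module.End k W}

/-- `N` is a scalar on the `a`-eigenspace of `T`, which is nonzero. -/
def IsBlock (F : Frame μ β r σ sW) (N : Module.End k (Fin F.D → k)) (a : k) : Prop :=
  (∃ i, F.ν i = a) ∧ ∃ c : k, ∀ v, F.T v = a • v → N v = c • v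

namespace Fpf

theorem exists_impl (f : Fpf μ β σ sW r n o e nW) (d : Datum μ β r σ sW)
    (F : Frame μ β r σ sW) : ∃ N, N ^ o = 1 ∧ Impl F.ρ n N ∧ Commute F.T N ∧
      Semireg μ F.ρ (β * n) (F.T * N) (r * o) := by
  haveI := F.model.nontrivial
  have hper : ∀ y, F.ρ ((n ^ o) y) = F.ρ y := rho_eq_of_coprime F.model.scalar (f.pres.pow o)
    (e := e) (by rw [← pow_mul, Nat.mul_comm, pow_mul, f.pow, one_pow]) f.cop f.per
  obtain ⟨N, hN1, hN⟩ := F.model.exists_impl d.heis f.pres f.prime.pos hper
  have hcop : r.Coprime o := (Nat.coprime_primes d.prime f.prime).mpr f.ne.symm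
  have hTN := F.model.commute_impl F.sreg.impl hN F.sreg.pow hN1 d.prime.pos f.prime.pos hcop
    fun y => congrArg F.ρ (DFunLike.congr_fun f.comm.eq y)
  refine ⟨N, hN1, hN, hTN, ⟨d.pres.mul f.pres, Nat.mul_pos d.prime.pos f.prime.pos, fun y => ?_,
    fun i hi hi' y hy => ?_, ?_, F.sreg.impl.mul hN⟩⟩
  · show Cong R y _
    rw [f.comm.mul_pow, MulAut.mul_apply, pow_mul β, d.pow, one_pow, MulAut.one_apply,
      Nat.mul_comm]
    exact cong_mul_iter f.pres (f.per y) r
  · replace hy : Cong R y (((β * n) ^ i) y) := hy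
    have hiM : ¬ (r * o) ∣ i := fun h => absurd (Nat.le_of_dvd hi h) (not_le.mpr hi')
    by_cases hoi : o ∣ i
    · obtain ⟨j, rfl⟩ := hoi
      rw [f.comm.mul_pow, MulAut.mul_apply] at hy
      have h1 := ((cong_mul_iter f.pres (f.per y) j).map (d.pres.pow (o * j))).symm
      exact mem_of_not_dvd F.sreg (fun h => hiM (hcop.mul_dvd_of_dvd_of_dvd h ⟨j, rfl⟩))
        (hy.trans h1)
    · have h1 := cong_mul_iter (d.pres.mul f.pres) hy r
      rw [f.comm.mul_pow, MulAut.mul_apply, Nat.mul_comm i r, pow_mul β, d.pow, one_pow,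
        MulAut.one_apply] at h1
      have hper : ∀ (j : ℕ) (z : Q), Cong R z ((n ^ (o * j)) z) := fun j z =>
        cong_mul_iter f.pres (f.per z) j
      have hnd : ¬ o ∣ r * i := fun h => hoi (hcop.symm.dvd_of_dvd_mul_left h)
      refine f.semi (r * i % o) (Nat.pos_of_ne_zero fun h => hnd (Nat.dvd_of_mod_eq_zero h))
        (Nat.mod_lt _ f.prime.pos) y ?_
      have h2 : Cong R ((n ^ (r * i % o)) y) ((n ^ (r * i)) y) := by
        have := hper (r * i / o) ((n ^ (r * i % o)) y)
        rwa [← MulAut.mul_apply, ← pow_add, Nat.add_comm, Nat.mod_add_div] at this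
      exact h1.trans h2.symm
  · rw [hTN.mul_pow, pow_mul, F.sreg.pow, one_pow, one_mul, Nat.mul_comm, pow_mul, hN1, one_pow]

end Fpf

namespace Frame

variable (F : Frame μ β r σ sW) {N : Module.End k (Fin F.D → k)}

theorem coord_T (l : Fin F.n) (v : Fin F.D → k) :
    F.b.coord l (F.T v) = F.ν l * F.b.coord l v := by
  have : (F.b.coord l).comp F.T = F.ν l • F.b.coord l := F.b.ext fun p => by
    rcases eq_or_ne p l with rfl | hp
    · simp [F.hν]
    · simp [F.hν, Finsupp.single_eq_of_ne hp.symm]
  exact LinearMap.congr_fun this v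

/-- The projection on an eigenspace. -/
noncomputable def proj (a : k) : Module.End k (Fin F.D → k) :=
  haveI := Classical.decEq k
  F.b.constr k fun i => if F.ν i = a then F.b i else 0

theorem proj_apply [DecidableEq k] (a : k) (i : Fin F.n) :
    F.proj a (F.b i) = if F.ν i = a then F.b i else 0 := by
  rw [proj, Basis.constr_basis]; congr

theorem T_proj (a : k) (v : Fin F.D → k) : F.T (F.proj a v) = a • F.proj a v := by
  classical
  have : F.T.comp (F.proj a) = a • F.proj a := F.b.ext fun i => by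
    rw [LinearMap.comp_apply, LinearMap.smul_apply, F.proj_apply]
    split_ifs with h
    · rw [F.hν, h]
    · simp
  exact LinearMap.congr_fun this v

theorem proj_eq_self {a : k} {v : Fin F.D → k} (hv : F.T v = a • v) : F.proj a v = v := by
  classical
  refine F.b.ext_elem fun l => ?_
  have h1 : F.ν l * F.b.coord l v = a * F.b.coord l v := by
    rw [← F.coord_T, hv, map_smul, smul_eq_mul]
  have h2 : (F.b.coord l).comp (F.proj a) =
      (if F.ν l = a then (1 : k) else 0) • F.b.coord l := F.b.ext fun i => by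
    rw [LinearMap.comp_apply, LinearMap.smul_apply, F.proj_apply]
    rcases eq_or_ne i l with rfl | hi
    · split_ifs <;> simp
    · split_ifs <;> simp [Finsupp.single_eq_of_ne hi.symm]
  have h3 := LinearMap.congr_fun h2 v
  simp only [LinearMap.comp_apply, LinearMap.smul_apply, Basis.coord_apply, smul_eq_mul] at h3
  rw [h3]
  split_ifs with h
  · rw [one_mul]
  · simp only [Basis.coord_apply, mul_eq_mul_right_iff] at h1
    rw [h1.resolve_left h, mul_zero]

theorem proj_commute (hTN : Commute F.T N) (a : k) : Commute (F.proj a) N := by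
  classical
  refine F.b.ext fun i => ?_
  rw [Module.End.mul_apply, Module.End.mul_apply, F.proj_apply]
  have h1 : F.T (N (F.b i)) = F.ν i • N (F.b i) := by
    rw [← Module.End.mul_apply, hTN.eq, Module.End.mul_apply, F.hν, map_smul]
  have h2 := F.proj_eq_self h1
  split_ifs with h
  · rw [← h]; exact h2
  · rw [map_zero]
    refine F.b.ext_elem fun l => ?_
    rw [← h2]
    have hz : (F.proj a).comp (F.proj (F.ν i)) = 0 := F.b.ext fun p => by
      rw [LinearMap.comp_apply, F.proj_apply]
      split_ifs with hp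
      · rw [F.proj_apply, if_neg (hp ▸ h)]; rfl
      · simp
    rw [← LinearMap.comp_apply, hz]; simp

theorem proj_commute_T (a : k) : Commute (F.proj a) F.T := F.proj_commute (Commute.refl F.T) a

theorem trace_proj (a : k) : LinearMap.trace k _ (F.proj a) = (mult F.ν a : k) := by
  classical
  rw [LinearMap.trace_eq_matrix_trace k F.b, Matrix.trace]
  simp only [Matrix.diag_apply, LinearMap.toMatrix_apply, F.proj_apply]
  rw [mult_def, Finset.card_filter, Nat.cast_sum]
  refine Finset.sum_congr rfl fun i _ => ?_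
  split_ifs <;> simp

end Frame

theorem root_of_eigen {U : Type*} [AddCommGroup U] [Module k U] {X : Module.End k U} {v : U}
    {c : k} (hv : X v = c • v) (hv0 : v ≠ 0) {j : ℕ} (hj : X ^ j = 1) : c ^ j = 1 := by
  have h : ∀ l : ℕ, (X ^ l) v = c ^ l • v := fun l => by
    induction l with
    | zero => simp
    | succ l ih => rw [pow_succ', Module.End.mul_apply, ih, map_smul, hv, smul_smul, pow_succ]
  have := h j
  rw [hj, Module.End.one_apply] at this
  exact smul_left_injective k hv0 (this.symm.trans (one_smul k v).symm)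

theorem repr_diag {U : Type*} [AddCommGroup U] [Module k U] {ι : Type*} (b : Basis ι k U)
    (ξ : ι → k) {X : Module.End k U} (hξ : ∀ i, X (b i) = ξ i • b i) (v : U) (i : ι) :
    b.repr (X v) i = ξ i * b.repr v i := by
  have : (b.coord i).comp X = ξ i • b.coord i := b.ext fun p => by
    rcases eq_or_ne p i with rfl | hp
    · simp [hξ]
    · simp [hξ, Finsupp.single_eq_of_ne hp.symm]
  exact LinearMap.congr_fun this v

theorem mult_eq_finrank {U : Type*} [AddCommGroup U] [Module k U] {ι : Type*} [Fintype ι]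
    (b : Basis ι k U) (ξ : ι → k) {X : Module.End k U} (hξ : ∀ i, X (b i) = ξ i • b i) (x : k) :
    mult ξ x = finrank k (Module.End.eigenspace X x) := by
  classical
  have hspan : Module.End.eigenspace X x =
      Submodule.span k (Set.range fun i : {i // ξ i = x} => b i) := by
    refine le_antisymm (fun v hv => ?_) (Submodule.span_le.mpr ?_)
    · rw [← b.sum_repr v]
      refine Submodule.sum_mem _ fun i _ => ?_
      by_cases hi : ξ i = x
      · exact Submodule.smul_mem _ _ (Submodule.subset_span ⟨⟨i, hi⟩, rfl⟩)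
      · have h1 := congrArg (fun u => b.repr u i) (Module.End.mem_eigenspace_iff.mp hv)
        simp only [repr_diag b ξ hξ, map_smul, Finsupp.smul_apply, smul_eq_mul,
          mul_eq_mul_right_iff] at h1
        rw [h1.resolve_left hi, zero_smul]
        exact zero_mem _
    · rintro _ ⟨⟨i, hi⟩, rfl⟩
      exact Module.End.mem_eigenspace_iff.mpr (show X (b i) = x • b i from (hξ i).trans (congrArg (· • b i) hi))
  rw [hspan, finrank_span_eq_card (b := fun i : {i // ξ i = x} => b i)
    (b.linearIndependent.comp _ Subtype.val_injective), mult_def, Fintype.card_subtype]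

namespace Fpf

set_option maxHeartbeats 1000000 in
/-- A block is one-dimensional and the other multiplicities are divisible by `o`. -/
theorem block (f : Fpf μ β σ sW r n o e nW) (d : Datum μ β r σ sW) (F : Frame μ β r σ sW)
    {N : Module.End k (Fin F.D → k)} (hN1 : N ^ o = 1) (hTN : Commute F.T N)
    (hS : Semireg μ F.ρ (β * n) (F.T * N) (r * o)) {a : k} (hblk : IsBlock F N a) :
    mult F.ν a = 1 ∧ ∀ b : k, b ^ r = 1 → b ≠ a → o ∣ mult F.ν b ∧
      ((o : k) ≠ 0 → ∀ v w : Fin F.D → k, F.T v = b • v → F.T w = b • w → ∀ c : k, N v = c • v → N w = c • w →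
        mult F.ν b = o → v ≠ 0 → ∃ t : k, w = t • v) := by
  classical
  obtain ⟨⟨i₀, hi₀⟩, c, hc⟩ := hblk
  have har : a ^ r = 1 := hi₀ ▸ F.hνr i₀
  have hco : c ^ o = 1 := by
    have hp : ∀ j : ℕ, (N ^ j) (F.b i₀) = c ^ j • F.b i₀ := fun j => by
      induction j with
      | zero => simp
      | succ j ih =>
        rw [pow_succ', Module.End.mul_apply, ih, map_smul, hc _ (by rw [F.hν, hi₀]), smul_smul,
          pow_succ]
    have := hp o
    rw [hN1, Module.End.one_apply] at this
    exact smul_left_injective k (F.b.ne_zero i₀) (this.symm.trans (one_smul k _).symm)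
  by_cases ho : (o : k) = 0
  · -- the field has characteristic `o`
    have hMk : ((r * o : ℕ) : k) = 0 := by rw [Nat.cast_mul, ho, mul_zero]
    have hM : (F.T * N) ^ (r * o) = 1 := hS.pow
    have htr : ∀ P X : Module.End k (Fin F.D → k), Commute (F.T * N) P →
        ∀ (x : k) (Y : Module.End k (Fin F.D → k)),
        X = x • 1 + ∑ i ∈ Finset.range (r * o), (F.T * N) ^ i * Y * (F.T * N) ^ (r * o - i) →
        LinearMap.trace k _ (P * X) = x * LinearMap.trace k _ P := by
      intro P X hP x Y hX
      rw [hX, mul_add, map_add, mul_smul_comm, mul_one, map_smul, smul_eq_mul, add_eq_left,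
        Finset.mul_sum, map_sum]
      rw [Finset.sum_congr rfl fun i hi => show LinearMap.trace k _
          (P * ((F.T * N) ^ i * Y * (F.T * N) ^ (r * o - i))) = LinearMap.trace k _ (P * Y) by
        rw [← mul_assoc, ← mul_assoc, ← (hP.pow_left i).eq, LinearMap.trace_mul_comm, ← mul_assoc,
          ← mul_assoc, ← pow_add, Nat.sub_add_cancel (Finset.mem_range.mp hi).le, hM, one_mul]]
      rw [Finset.sum_const, Finset.card_range, nsmul_eq_mul, hMk, zero_mul]
    have hPc : ∀ b, Commute (F.T * N) (F.proj b) := fun b =>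
      ((F.proj_commute_T b).mul_right (F.proj_commute hTN b)).symm
    have ha1 : mult F.ν a = 1 := by
      refine le_antisymm ?_ ((mult_pos_iff F.ν a).mpr ⟨i₀, hi₀⟩)
      rw [mult_def, Finset.card_le_one]
      intro i hi l hl
      by_contra hne
      replace hi := (Finset.mem_filter.mp hi).2
      replace hl := (Finset.mem_filter.mp hl).2
      set X : Module.End k (Fin F.D → k) := (F.b.coord i).smulRight (F.b l) with hXdef
      have hcoord : ∀ {j : Fin F.n}, F.ν j = a → ∀ v, F.b.coord j ((F.T * N) v) =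
          a * c * F.b.coord j v := by
        intro j hj v
        have h0 : (F.b.coord j).comp (F.proj a) = F.b.coord j := F.b.ext fun p => by
          rw [LinearMap.comp_apply, F.proj_apply]
          split_ifs with h
          · rfl
          · have hpj : p ≠ j := fun h' => h (h' ▸ hj)
            simp [Finsupp.single_eq_of_ne hpj.symm]
        have h1 : N (F.proj a v) = c • F.proj a v := hc _ (F.T_proj a v)
        rw [Module.End.mul_apply, F.coord_T, hj]
        conv_lhs => rw [← LinearMap.congr_fun h0 (N v), LinearMap.comp_apply,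
          ← Module.End.mul_apply, (F.proj_commute hTN a).eq, Module.End.mul_apply, h1, map_smul,
          ← LinearMap.comp_apply, h0, smul_eq_mul, ← mul_assoc]
      have hXc : Commute (F.T * N) X := LinearMap.ext fun v => by
        simp only [hXdef, Module.End.mul_apply, LinearMap.smulRight_apply, map_smul]
        rw [show F.b.coord i (F.T (N v)) = _ from hcoord hi v, hc _ (by rw [F.hν, hl]), map_smul,
          F.hν, hl, smul_smul, smul_smul]
        congr 1
        ring
      obtain ⟨x, Y, hXY⟩ := hS.fixed_eq F.model hXc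
      have h1 := congrArg (fun Z => F.b.coord l (Z (F.b i))) hXY
      have hΘb : ∀ j : ℕ, ((F.T * N) ^ j) (F.b i) = (a * c) ^ j • F.b i := fun j => by
        induction j with
        | zero => simp
        | succ j ih =>
          rw [pow_succ', Module.End.mul_apply, ih, map_smul, Module.End.mul_apply,
            hc _ (by rw [F.hν, hi]), map_smul, F.hν, hi, smul_smul, smul_smul, pow_succ]
          congr 1; ring
      have hΘl : ∀ (j : ℕ) v, F.b.coord l (((F.T * N) ^ j) v) = (a * c) ^ j * F.b.coord l v :=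
        fun j => by
        induction j with
        | zero => intro v; simp
        | succ j ih =>
          intro v
          rw [pow_succ, Module.End.mul_apply, ih, hcoord hl, pow_succ]
          ring
      simp only [hXdef, LinearMap.smulRight_apply, LinearMap.add_apply, LinearMap.smul_apply,
        Module.End.one_apply, LinearMap.sum_apply, map_add, map_sum, map_smul,
        Module.End.mul_apply, hΘb, hΘl] at h1
      rw [Finset.sum_congr rfl fun j hj => show (a * c) ^ (r * o - j) •
          ((a * c) ^ j * F.b.coord l (Y (F.b i))) = F.b.coord l (Y (F.b i)) by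
        rw [smul_eq_mul, ← mul_assoc, ← pow_add, Nat.sub_add_cancel (Finset.mem_range.mp hj).le,
          mul_pow, pow_mul, pow_mul c, har, one_pow, one_mul, ← pow_mul, Nat.mul_comm r o,
          pow_mul, hco, one_pow, one_mul], Finset.sum_const, Finset.card_range, nsmul_eq_mul,
        hMk, zero_mul, add_zero] at h1
      simp [Finsupp.single_eq_of_ne (Ne.symm hne)] at h1
    refine ⟨ha1, fun b hb hba => ⟨?_, fun h => absurd ho h⟩⟩
    obtain ⟨x, Y, hXY⟩ := hS.fixed_eq F.model (hPc a)
    have h1 := htr (F.proj a) (F.proj a) (hPc a) x Y hXY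
    have hpp : F.proj a * F.proj a = F.proj a :=
      LinearMap.ext fun v => F.proj_eq_self (F.T_proj a v)
    have hpq : F.proj b * F.proj a = 0 := F.b.ext fun p => by
      rw [Module.End.mul_apply, F.proj_apply, LinearMap.zero_apply]
      split_ifs with h
      · rw [F.proj_apply, if_neg (h ▸ hba.symm)]
      · simp
    rw [hpp, F.trace_proj, ha1, Nat.cast_one, mul_one] at h1
    have h2 := htr (F.proj b) (F.proj a) (hPc b) x Y hXY
    rw [hpq, map_zero, F.trace_proj, ← h1, one_mul] at h2
    haveI := Fact.mk f.prime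
    haveI : CharP k o := (CharP.charP_iff_prime_eq_zero f.prime).mpr ho
    exact (CharP.cast_eq_zero_iff k o _).mp h2.symm
  · -- a joint eigenbasis
    have hM : ((r * o : ℕ) : k) ≠ 0 := by rw [Nat.cast_mul]; exact mul_ne_zero d.cast ho
    obtain ⟨bz, ζ, hζ, hζM⟩ := Prelim.exists_eigenbasis (F.T * N) hM hS.pow
    have hcop : r.Coprime o := (Nat.coprime_primes d.prime f.prime).mpr f.ne.symm
    obtain ⟨u, hu1, hu2⟩ := Nat.chineseRemainder hcop 1 0
    obtain ⟨w, hw1, hw2⟩ := Nat.chineseRemainder hcop 0 1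
    have hpowT : ∀ {j l : ℕ}, j ≡ l [MOD r] → F.T ^ j = F.T ^ l := fun h =>
      pow_eq_pow_of_modEq h F.sreg.pow
    have hpowN : ∀ {j l : ℕ}, j ≡ l [MOD o] → N ^ j = N ^ l := fun h =>
      pow_eq_pow_of_modEq h hN1
    have hTu : (F.T * N) ^ u = F.T := by
      rw [hTN.mul_pow, hpowT hu1, hpowN hu2, pow_one, pow_zero, mul_one]
    have hNw : (F.T * N) ^ w = N := by
      rw [hTN.mul_pow, hpowT hw1, hpowN hw2, pow_zero, pow_one, one_mul]
    have hΘp : ∀ (j : ℕ) i, ((F.T * N) ^ j) (bz i) = ζ i ^ j • bz i := fun j i => by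
      induction j with
      | zero => simp
      | succ j ih =>
        rw [pow_succ', Module.End.mul_apply, ih, map_smul, hζ, smul_smul, pow_succ]
    set ν := fun i => ζ i ^ u with hνdef
    set η := fun i => ζ i ^ w with hηdef
    have hTb : ∀ i, F.T (bz i) = ν i • bz i := fun i => by rw [← hTu]; exact hΘp u i
    have hNb : ∀ i, N (bz i) = η i • bz i := fun i => by rw [← hNw]; exact hΘp w i
    have hζeq : ∀ i, ζ i = ν i * η i := fun i => by
      refine smul_left_injective k (bz.ne_zero i) ?_
      show ζ i • bz i = (ν i * η i) • bz i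
      rw [← hζ, Module.End.mul_apply, hNb, map_smul, hTb, smul_smul, mul_comm]
    have hνr : ∀ i, ν i ^ r = 1 := fun i => root_of_eigen (hTb i) (bz.ne_zero i) F.sreg.pow
    have hηo : ∀ i, η i ^ o = 1 := fun i => root_of_eigen (hNb i) (bz.ne_zero i) hN1
    obtain ⟨J, hJ1, hJ2⟩ := hS.pairs_count F.model bz ζ hζ hζM
    obtain ⟨JT, hT1, hT2⟩ := F.sreg.pairs_count F.model bz ν hTb hνr
    have hJT : JT = o * J := by
      have : r * JT = r * (o * J) := by rw [← Nat.mul_assoc]; omega
      exact Nat.eq_of_mul_eq_mul_left d.prime.pos this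
    set Zr := roots k r
    set Zo := roots k o
    let g : k → k → ℕ := fun x y => mult (fun i => (ν i, η i)) (x, y)
    have hg : ∀ x, ∑ y ∈ Zo, g x y = mult ν x := fun x => by
      simp only [g, mult_def]
      rw [Finset.card_eq_sum_card_fiberwise (t := Zo) (f := η) (s := Finset.univ.filter fun i =>
        ν i = x) (fun i _ => (mem_roots f.prime.pos).mpr (hηo i))]
      refine Finset.sum_congr rfl fun y _ => congrArg Finset.card ?_
      ext i; simp [Prod.ext_iff]
    have hg2 : ∑ x ∈ Zr, ∑ y ∈ Zo, g x y ^ 2 = 1 + J := by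
      rw [← hJ2, ← Finset.sum_product', Finset.card_eq_sum_card_fiberwise (t := Zr ×ˢ Zo)
        (f := fun p => (ν p.1, η p.1)) (fun p _ => Finset.mem_product.mpr
          ⟨(mem_roots d.prime.pos).mpr (hνr p.1), (mem_roots f.prime.pos).mpr (hηo p.1)⟩)]
      refine Finset.sum_congr rfl fun z _ => ?_
      simp only [g, mult_def]
      rw [sq, ← Finset.card_product]
      congr 1
      ext p
      simp only [Finset.mem_product, Finset.mem_filter, Finset.mem_univ, true_and]
      constructor
      · rintro ⟨h1, h2⟩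
        refine ⟨?_, h1⟩
        have e1 := congrArg Prod.fst (h1.trans h2.symm)
        have e2 := congrArg Prod.snd (h1.trans h2.symm)
        simp only at e1 e2
        rw [hζeq, hζeq, e1, e2]
      · rintro ⟨h1, h2⟩
        refine ⟨h2, ?_⟩
        rw [← h2]
        exact Prod.ext (congrArg (· ^ u) h1).symm (congrArg (· ^ w) h1).symm
    set S : k → ℤ := fun x => ∑ y ∈ Zo, ∑ y' ∈ Zo, ((g x y : ℤ) - g x y') ^ 2 with hSdef
    have hSnn : ∀ x, 0 ≤ S x := fun x =>
      Finset.sum_nonneg fun y _ => Finset.sum_nonneg fun y' _ => sq_nonneg _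
    have hStot : ∑ x ∈ Zr, S x = 2 * ((o : ℤ) - 1) := by
      have h1 : ∑ x ∈ Zr, ∑ y ∈ Zo, (g x y : ℤ) ^ 2 = 1 + J := by exact_mod_cast hg2
      have h2 : ∑ x ∈ Zr, (∑ y ∈ Zo, (g x y : ℤ)) ^ 2 = 1 + o * J := by
        have h3 := sum_mult_sq (k := k) d.prime.pos ν hνr
        rw [hT2, hJT] at h3
        have h4 : ∀ x, (∑ y ∈ Zo, (g x y : ℤ)) = (mult ν x : ℤ) := fun x => by
          exact_mod_cast hg x
        simp only [h4]
        exact_mod_cast h3
      simp only [S, Prelim.sum_sq_diff, Finset.sum_sub_distrib, ← Finset.mul_sum,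
        show Zo.card = o from card_roots ho, h1, h2]
      ring
    have hmult : ∀ x, mult ν x = mult F.ν x := fun x => by
      rw [mult_eq_finrank bz ν hTb, mult_eq_finrank F.b F.ν F.hν]
    have haZ : a ∈ Zr := (mem_roots d.prime.pos).mpr har
    have hcZ : c ∈ Zo := (mem_roots f.prime.pos).mpr hco
    have hga : ∀ y, y ≠ c → g a y = 0 := by
      intro y hy
      rw [← Nat.le_zero, ← not_lt, mult_pos_iff]
      rintro ⟨i, hi⟩
      obtain ⟨h1, h2⟩ := Prod.ext_iff.mp hi
      refine hy (h2.symm.trans (smul_left_injective k (bz.ne_zero i) ?_))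
      show η i • bz i = c • bz i
      rw [← hNb]; exact hc _ (by rw [hTb]; exact congrArg (· • bz i) h1)
    have hma : mult F.ν a = g a c := by
      rw [← hmult, ← hg, Finset.sum_eq_single c (fun y _ hy => hga y hy) (fun h => absurd hcZ h)]
    have hSa : S a = 2 * ((o : ℤ) - 1) * (g a c : ℤ) ^ 2 := by
      have h1 : ∑ y ∈ Zo, (g a y : ℤ) = g a c :=
        Finset.sum_eq_single c (fun y _ hy => by rw [hga y hy]; rfl) (fun h => absurd hcZ h)
      have h2 : ∑ y ∈ Zo, (g a y : ℤ) ^ 2 = (g a c : ℤ) ^ 2 :=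
        Finset.sum_eq_single c (fun y _ hy => by rw [hga y hy]; simp) (fun h => absurd hcZ h)
      simp only [S, Prelim.sum_sq_diff, h1, h2, show Zo.card = o from card_roots ho]
      ring
    have hpos : 1 ≤ g a c := hma ▸ (mult_pos_iff F.ν a).mpr ⟨i₀, hi₀⟩
    rw [← Finset.add_sum_erase _ _ haZ, hSa] at hStot
    have hrest0 : 0 ≤ ∑ x ∈ Zr.erase a, S x := Finset.sum_nonneg fun x _ => hSnn x
    have ho2 : (2 : ℤ) ≤ o := by exact_mod_cast f.prime.two_le
    have hg1 : g a c = 1 := by
      by_contra hne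
      have h2 : (2 : ℤ) ≤ g a c := by exact_mod_cast (show 2 ≤ g a c by omega)
      have : 4 ≤ (g a c : ℤ) ^ 2 := by nlinarith
      nlinarith
    rw [hg1, Nat.cast_one, one_pow, mul_one, add_eq_left] at hStot
    refine ⟨hma.trans hg1, fun b hb hba => ?_⟩
    have hbZ : b ∈ Zr := (mem_roots d.prime.pos).mpr hb
    have hSb : S b = 0 := (Finset.sum_eq_zero_iff_of_nonneg fun x _ => hSnn x).mp hStot b
      (Finset.mem_erase.mpr ⟨hba, hbZ⟩)
    have hconst : ∀ y ∈ Zo, g b y = g b c := by
      intro y hy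
      have h1 := (Finset.sum_eq_zero_iff_of_nonneg fun x _ => Finset.sum_nonneg fun y' _ =>
        sq_nonneg ((g b x : ℤ) - g b y')).mp hSb y hy
      have h2 := (Finset.sum_eq_zero_iff_of_nonneg fun y' _ =>
        sq_nonneg ((g b y : ℤ) - g b y')).mp h1 c hcZ
      exact_mod_cast sub_eq_zero.mp (sq_eq_zero_iff.mp h2)
    have hmb : mult F.ν b = o * g b c := by
      rw [← hmult, ← hg, Finset.sum_congr rfl hconst, Finset.sum_const,
        show Zo.card = o from card_roots ho, smul_eq_mul]
    refine ⟨⟨_, hmb⟩, fun _ v x hv hx c' hv' hx' hmo hv0 => ?_⟩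
    by_cases hc' : c' ∈ Zo
    swap
    · refine absurd ((mem_roots f.prime.pos).mpr ?_) hc'
      have h : ∀ l : ℕ, (N ^ l) v = c' ^ l • v := fun l => by
        induction l with
        | zero => simp
        | succ l ih => rw [pow_succ', Module.End.mul_apply, ih, map_smul, hv', smul_smul, pow_succ]
      have := h o
      rw [hN1, Module.End.one_apply] at this
      exact smul_left_injective k hv0 (this.symm.trans (one_smul k _).symm)
    have hgb : g b c' ≤ 1 := by
      rw [hconst c' hc']
      have : o * g b c = o := hmb ▸ hmo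
      have := Nat.eq_of_mul_eq_mul_left f.prime.pos (this.trans (Nat.mul_one o).symm)
      omega
    have hcz : ∀ (X : Module.End k (Fin F.D → k)) (ξ : Fin (finrank k (Fin F.D → k)) → k),
        (∀ i, X (bz i) = ξ i • bz i) → ∀ (t : k) (z : Fin F.D → k), X z = t • z →
        ∀ i, bz.repr z i ≠ 0 → ξ i = t := by
      intro X ξ hX t z hz i hi
      have h2 := repr_diag bz ξ hX z i
      rw [hz, map_smul, Finsupp.smul_apply, smul_eq_mul] at h2
      exact (mul_right_cancel₀ hi h2).symm
    obtain ⟨p, hpv⟩ : ∃ p, bz.repr v p ≠ 0 := by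
      by_contra hcon
      push Not at hcon
      exact hv0 (bz.ext_elem fun i => by simp [hcon i])
    refine ⟨bz.repr x p / bz.repr v p, bz.ext_elem fun i => ?_⟩
    rw [map_smul, Finsupp.smul_apply, smul_eq_mul]
    by_cases hi : bz.repr x i = 0 ∧ bz.repr v i = 0
    · rw [hi.1, hi.2, mul_zero]
    · have hip : i = p := by
        refine eq_of_mult_le_one (ν := fun i => (ν i, η i)) hgb ?_ (Prod.ext
          (hcz F.T ν hTb b v hv p hpv) (hcz N η hNb c' v hv' p hpv))
        rcases not_and_or.mp hi with h | h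
        · exact Prod.ext (hcz F.T ν hTb b x hx i h) (hcz N η hNb c' x hx' i h)
        · exact Prod.ext (hcz F.T ν hTb b v hv i h) (hcz N η hNb c' v hv' i h)
      subst hip
      rw [div_mul_cancel₀ _ hpv]

/-- No eigenvalue is missing. -/
theorem big (f : Fpf μ β σ sW r n o e nW) (d : Datum μ β r σ sW) :
    r * r ≤ Nat.card (Q ⧸ R) := by
  classical
  by_contra hcon
  obtain ⟨F⟩ := d.nonempty_frame
  obtain ⟨N, hN1, hN, hTN, hS⟩ := f.exists_impl d F
  obtain ⟨a, ha, h0⟩ := (F.missing_iff d).mpr (not_le.mp hcon)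
  obtain ⟨hle, -⟩ := F.of_missing d ha h0
  have hblk : ∀ i, IsBlock F N (F.ν i) := by
    intro i
    have hinj : Function.Injective F.ν := fun p q hpq => eq_of_mult_le_one (hle (F.ν q)) hpq rfl
    obtain ⟨c, hc⟩ := exists_diag F.b F.ν F.hν hinj hTN i
    refine ⟨⟨i, rfl⟩, c, fun v hv => ?_⟩
    have h2 : F.proj (F.ν i) v = F.b.coord i v • F.b i := by
      have : F.proj (F.ν i) = (F.b.coord i).smulRight (F.b i) := F.b.ext fun p => by
        rw [F.proj_apply, LinearMap.smulRight_apply, Basis.coord_apply, Basis.repr_self]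
        rcases eq_or_ne p i with rfl | hp
        · simp
        · rw [if_neg fun h => hp (hinj h), Finsupp.single_eq_of_ne hp.symm, zero_smul]
      rw [this]; rfl
    rw [← F.proj_eq_self hv, h2, map_smul, hc, smul_comm]
  have h2 := F.two_le_n d
  have hall : ∀ i j, F.ν i = F.ν j := by
    intro i j
    by_contra hne
    have h1 := ((f.block d F hN1 hTN hS (hblk i)).2 (F.ν j) (F.hνr j) (Ne.symm hne)).1
    have h3 : 0 < mult F.ν (F.ν j) := (mult_pos_iff _ _).mpr ⟨j, rfl⟩
    have := hle (F.ν j)
    have := Nat.le_of_dvd h3 h1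
    have := f.prime.two_le
    omega
  have h5 := hle (F.ν ⟨0, by omega⟩)
  rw [mult_def, Finset.card_le_one] at h5
  have := h5 ⟨0, by omega⟩ (by simp) ⟨1, by omega⟩ (by simp [hall ⟨1, by omega⟩ ⟨0, by omega⟩])
  exact absurd (congrArg Fin.val this) Nat.zero_ne_one

/-- The eigenvalues of `tau` give blocks. -/
theorem exists_block (f : Fpf μ β σ sW r n o e nW) (d : Datum μ β r σ sW) (F : Frame μ β r σ sW)
    {N : Module.End k (Fin F.D → k)} (hN1 : N ^ o = 1) (hN : Impl F.ρ n N) {w : W} (hw0 : w ≠ 0)
    {c : k} (hc : c ^ r = 1) (hw : F.tau w = c • w) : IsBlock F N c⁻¹ := by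
  obtain ⟨i, hi⟩ := F.exists_index d (f.big d) (a := c⁻¹) (by rw [inv_pow, hc, inv_one])
  have hc0 : c ≠ 0 := fun h => by
    rw [h, zero_pow d.prime.ne_zero] at hc
    exact zero_ne_one hc
  set νop := F.model.transfer σ (N ^ (o - 1)) * nW with hνop
  have hνc := transfer_conj F.model d.scalar f.prime.pos hN1 hN f.impl
  have hnW : nW = F.model.transfer σ N * νop := by
    rw [hνop, ← mul_assoc, ← F.model.transfer_mul d.scalar, ← pow_succ',
      Nat.sub_add_cancel f.prime.pos, hN1, F.model.transfer_one d.scalar, one_mul]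
  have key : ∀ v, F.T v = c⁻¹ • v → ∀ ψ : (Fin F.D → k) →ₗ[k] k,
      ψ (N v) • νop w = ψ v • w := by
    intro v hv ψ
    rw [← F.sandwich d.scalar ψ (N v) (νop w), ← F.sandwich d.scalar ψ v w]
    refine Finset.sum_congr rfl fun j _ => congrArg _ ?_
    have h1 := F.apply_eigen d (F.T_mul_smulRight hv (F.b.coord j)) hw
    rw [inv_mul_cancel₀ hc0, one_smul] at h1
    have h2 := f.triv _ h1
    rw [hnW, Module.End.mul_apply, ← Module.End.mul_apply νop, (hνc _).eq, Module.End.mul_apply,
      ← Module.End.mul_apply (F.model.transfer σ N), ← F.model.transfer_mul d.scalar] at h2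
    have h3 : N * (F.b.coord j).smulRight v = (F.b.coord j).smulRight (N v) :=
      LinearMap.ext fun u => by simp [Module.End.mul_apply]
    rwa [h3] at h2
  have hvi : F.T (F.b i) = c⁻¹ • F.b i := by rw [F.hν, hi]
  have h0 := key _ hvi (F.b.coord i)
  rw [show F.b.coord i (F.b i) = 1 by simp, one_smul] at h0
  set κ := F.b.coord i (N (F.b i)) with hκ
  refine ⟨⟨i, hi⟩, κ, fun v hv => F.b.ext_elem fun l => ?_⟩
  have h4 := key v hv (F.b.coord l)
  have h4' : F.b.coord l (N v) • νop w = (F.b.coord l v * κ) • νop w :=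
    h4.trans (by rw [← smul_smul, h0])
  have hne : νop w ≠ 0 := fun h => hw0 (by rw [← h0, h, smul_zero])
  have h5 := smul_left_injective k hne h4'
  simp only [Basis.coord_apply, hκ] at h5 ⊢
  rw [h5, map_smul, Finsupp.smul_apply, smul_eq_mul, mul_comm]

/-- `o = 2`, and `sW` commutes with everything commuting with the pair. -/
theorem main (f : Fpf μ β σ sW r n o e nW) (d : Datum μ β r σ sW) :
    o = 2 ∧ ∀ Z : Module.End k W, (∀ y, Commute Z (σ y)) → Commute Z sW := by
  classical
  obtain ⟨F⟩ := d.nonempty_frame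
  obtain ⟨N, hN1, hN, hTN, hS⟩ := f.exists_impl d F
  obtain ⟨bt, νt, hνt, hνtr⟩ := Prelim.exists_eigenbasis F.tau d.cast (F.tau_pow d)
  have hblk : ∀ p, IsBlock F N (νt p)⁻¹ := fun p =>
    f.exists_block d F hN1 hN (bt.ne_zero p) (hνtr p) (hνt p)
  have hroot : ∀ p, ((νt p)⁻¹) ^ r = 1 := fun p => by rw [inv_pow, hνtr, inv_one]
  obtain ⟨p₀⟩ : Nonempty (Fin (finrank k W)) := ⟨⟨0, finrank_pos⟩⟩
  obtain ⟨hone, hothers⟩ := f.block d F hN1 hTN hS (hblk p₀)
  constructor
  · obtain ⟨b, hb, hba⟩ := Finset.exists_mem_ne (s := roots k r)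
      (by rw [card_roots d.cast]; exact d.prime.one_lt) (νt p₀)⁻¹
    have hb' := (mem_roots d.prime.pos).mp hb
    have h1 : 0 < mult F.ν b := (mult_pos_iff _ _).mpr (F.exists_index d (f.big d) hb')
    have h2 := Nat.le_of_dvd h1 (hothers b hb' hba).1
    have h3 := F.mult_close d hb' (hroot p₀)
    have := f.prime.two_le
    omega
  · intro Z hZ
    have hall : ∀ p, νt p = νt p₀ := by
      intro p
      by_contra hne
      have h1 := (hothers _ (hroot p) (fun h => hne (inv_injective h))).1
      rw [(f.block d F hN1 hTN hS (hblk p)).1, Nat.dvd_one] at h1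
      exact f.prime.one_lt.ne' h1
    have htau : F.tau = νt p₀ • 1 := bt.ext fun p => by
      rw [hνt, hall, LinearMap.smul_apply, Module.End.one_apply]
    rw [F.sW_eq d, htau, mul_smul_comm, mul_one]
    exact (F.model.commute_transfer hZ _).smul_right _

set_option maxHeartbeats 1000000 in
/-- No further automorphism squares to `n` modulo `R` when `n` inverts. -/
theorem no_sqrt (f : Fpf μ β σ sW r n o e nW) (d : Datum μ β r σ sW)
    (hinv : ∀ y, Cong R (n y) y⁻¹) {t : MulAut Q} (ht : t ^ 2 = n) (htp : Pres R μ t)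
    (htc : Commute β t) : False := by
  classical
  obtain ⟨F⟩ := d.nonempty_frame
  haveI := F.model.nontrivial
  obtain ⟨N, hN1, hN, hTN, hS⟩ := f.exists_impl d F
  have ho : o = 2 := (f.main d).1
  subst ho
  have hr2 : r ≠ 2 := f.ne.symm
  have hodd : Odd r := d.prime.odd_of_ne_two hr2
  have hper4 : ∀ y, F.ρ ((t ^ 4) y) = F.ρ y := by
    intro y
    have h2 : t ^ 4 = n ^ 2 := by rw [← ht, ← pow_mul]
    rw [h2]
    exact rho_eq_of_coprime F.model.scalar (f.pres.pow 2) (e := e)
      (by rw [← pow_mul, Nat.mul_comm, pow_mul, f.pow, one_pow]) f.cop f.per y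
  obtain ⟨K, hK1, hK⟩ := F.model.exists_impl d.heis htp (M := 4) (by norm_num) hper4
  have hTK : Commute F.T K := F.model.commute_impl F.sreg.impl hK F.sreg.pow hK1 d.prime.pos
    (by norm_num) (by
      have : r.Coprime (2 ^ 2) := Nat.Coprime.pow_right 2 ((Nat.coprime_primes d.prime
        Nat.prime_two).mpr hr2)
      simpa using this)
    fun y => congrArg F.ρ (DFunLike.congr_fun htc.eq y)
  have hKN : ∃ s : k, s ≠ 0 ∧ K ^ 2 = s • N := by
    have hI2 : Impl F.ρ n (K ^ 2) := ht ▸ hK.pow 2
    have hNN : N * N = 1 := by rw [← sq, hN1]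
    have hN' : ∀ y, N * F.ρ (n y) = F.ρ y * N := fun y => by
      calc N * F.ρ (n y) = N * (F.ρ (n y) * N) * N := by rw [mul_assoc, mul_assoc, hNN, mul_one]
        _ = F.ρ y * N := by rw [← hN, ← mul_assoc, hNN, one_mul]
    obtain ⟨s, hs⟩ := Prelim.exists_scalar_of_commute_all (N * K ^ 2)
      (F.model.commute_all fun y => by
        rw [commute_iff_eq, mul_assoc, hI2, ← mul_assoc, hN', mul_assoc])
    have hK2 : K ^ 2 = s • N := by
      calc K ^ 2 = N * (N * K ^ 2) := by rw [← mul_assoc, hNN, one_mul]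
        _ = s • N := by rw [hs, mul_smul_comm, mul_one]
    refine ⟨s, fun h => ?_, hK2⟩
    rw [h, zero_smul] at hK2
    have := hK1
    rw [show (4 : ℕ) = 2 * 2 from rfl, pow_mul, hK2, zero_pow (by norm_num)] at this
    exact zero_ne_one this
  obtain ⟨s, hs0, hK2⟩ := hKN
  have hexN : ∀ y, y ∉ R → False := by
    intro y hy
    obtain ⟨bt, νt, hνt, hνtr⟩ := Prelim.exists_eigenbasis F.tau d.cast (F.tau_pow d)
    obtain ⟨p₀⟩ : Nonempty (Fin (finrank k W)) := ⟨⟨0, finrank_pos⟩⟩
    have hblk := f.exists_block d F hN1 hN (bt.ne_zero p₀) (hνtr p₀) (hνt p₀)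
    obtain ⟨hone, hothers⟩ := f.block d F hN1 hTN hS hblk
    set a := (νt p₀)⁻¹
    have har : a ^ r = 1 := by rw [inv_pow, hνtr, inv_one]
    have hle2 : ∀ b, b ^ r = 1 → mult F.ν b ≤ 2 := fun b hb => by
      have := F.mult_close d hb har
      omega
    by_cases h2k : (2 : k) = 0
    · -- characteristic two
      have h4 : (K - 1) ^ 4 = 0 := by
        have hc : Commute K 1 := Commute.one_right K
        have h2e : ((2 : ℕ) : Module.End k (Fin F.D → k)) = 0 := by
          rw [← map_natCast (algebraMap k _)]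
          simp [show ((2 : ℕ) : k) = 2 from Nat.cast_two, h2k]
        have : (K - 1) ^ 2 = K ^ 2 + 1 - (2 : ℕ) • K := by
          rw [sq, sq, sub_mul, mul_sub, one_mul, mul_one, nsmul_eq_mul, Nat.cast_two, two_mul]
          abel
        have hsq : (K - 1) ^ 2 = K ^ 2 + 1 := by
          rw [this, nsmul_eq_mul, h2e, zero_mul, sub_zero]
        rw [show (4 : ℕ) = 2 * 2 from rfl, pow_mul, hsq, sq, add_mul, mul_add, mul_one, one_mul,
          ← pow_add, hK1]
        calc (1 : Module.End k (Fin F.D → k)) + K ^ 2 + (K ^ 2 + 1)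
            = ((2 : ℕ) : Module.End k (Fin F.D → k)) * (1 + K ^ 2) := by
              rw [Nat.cast_two, two_mul]; abel
          _ = 0 := by rw [h2e, zero_mul]
      have hsq0 : ∀ (v : Fin F.D → k) (b : k), F.T v = b • v → ((K - 1) ^ 2 : Module.End k (Fin F.D → k)) v = 0 := by
        intro v b hv
        by_cases hv0 : v = 0
        · simp [hv0]
        set V := Module.End.eigenspace F.T b with hV
        have hinv' : ∀ x ∈ V, (K - 1) x ∈ V := fun x hx => by
          rw [hV, Module.End.mem_eigenspace_iff] at hx ⊢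
          rw [← Module.End.mul_apply, (hTK.sub_right (Commute.one_right _)).eq,
            Module.End.mul_apply, hx, map_smul]
        set E := (K - 1).restrict hinv'
        have hEn : IsNilpotent E := ⟨4, by
          rw [Module.End.pow_restrict]
          exact LinearMap.ext fun x => Subtype.ext (by simp [LinearMap.restrict_apply, h4])⟩
        have hdim : finrank k V ≤ 2 := by
          have hb : b ^ r = 1 := by
            have : ∀ l : ℕ, (F.T ^ l) v = b ^ l • v := fun l => by
              induction l with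
              | zero => simp
              | succ l ih =>
                rw [pow_succ', Module.End.mul_apply, ih, map_smul, hv, smul_smul, pow_succ]
            have h1 := this r
            rw [F.sreg.pow, Module.End.one_apply] at h1
            exact smul_left_injective k hv0 (h1.symm.trans (one_smul k _).symm)
          refine le_trans ?_ (hle2 b hb)
          have hsp : V ≤ Submodule.span k (Set.range fun i : {i // F.ν i = b} => F.b i) := by
            intro x hx
            rw [← F.proj_eq_self (Module.End.mem_eigenspace_iff.mp hx), ← F.b.sum_repr x, map_sum]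
            refine Submodule.sum_mem _ fun i _ => ?_
            rw [map_smul, F.proj_apply]
            split_ifs with h
            · exact Submodule.smul_mem _ _ (Submodule.subset_span ⟨⟨i, h⟩, rfl⟩)
            · rw [smul_zero]; exact zero_mem _
          refine (Submodule.finrank_mono hsp).trans ?_
          refine (finrank_range_le_card _).trans ?_
          rw [mult_def, Fintype.card_subtype]
        have hE2 : E ^ 2 = 0 := by
          obtain ⟨m4, hm4⟩ := hEn
          have h1 := (LinearMap.charpoly_eq_X_pow_iff E).mpr fun x => ⟨m4, by rw [hm4]; rfl⟩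
          have h2 := LinearMap.aeval_self_charpoly E
          rw [h1, map_pow, Polynomial.aeval_X] at h2
          obtain ⟨l, hl⟩ := Nat.le.dest hdim
          rw [← hl, pow_add, h2, zero_mul]
        have h3 := congrArg Subtype.val
          (LinearMap.congr_fun hE2 ⟨v, Module.End.mem_eigenspace_iff.mpr hv⟩)
        rw [Module.End.pow_restrict] at h3
        simpa [LinearMap.restrict_apply] using h3
      have hK20 : K ^ 2 = 1 := by
        refine F.b.ext fun i => ?_
        have h1 := hsq0 _ _ (F.hν i)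
        have h2e : ((2 : ℕ) : Module.End k (Fin F.D → k)) = 0 := by
          rw [← map_natCast (algebraMap k _)]
          simp [show ((2 : ℕ) : k) = 2 from Nat.cast_two, h2k]
        have hsq : (K - 1) ^ 2 = K ^ 2 - 1 := by
          calc (K - 1) ^ 2 = K ^ 2 - 1 - ((2 : ℕ) : Module.End k (Fin F.D → k)) * (K - 1) := by
                rw [Nat.cast_two, sq, sq, two_mul, sub_mul, mul_sub, one_mul, mul_one]; abel
            _ = K ^ 2 - 1 := by rw [h2e, zero_mul, sub_zero]
        rw [hsq, LinearMap.sub_apply, sub_eq_zero] at h1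
        exact h1
      have hn1 : ∀ z, F.ρ (n z) = F.ρ z := fun z => by
        have h1 : Impl F.ρ n (K ^ 2) := ht ▸ hK.pow 2
        have := h1 z
        rw [hK20, one_mul, mul_one] at this
        exact this.symm
      have hclass : (n y : Q ⧸ R) = (y : Q ⧸ R) := by
        by_contra hne
        have h1 := congrFun (congrArg F.model.coef (hn1 y)) (y : Q ⧸ R)
        rw [F.model.coef_rho, F.model.coef_rho, Pi.single_eq_same,
          Pi.single_eq_of_ne (Ne.symm hne)] at h1
        exact mu_ne_zero μ _ h1.symm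
      have h1 : Cong R y y⁻¹ := (Cong.symm (QuotientGroup.eq.mp hclass)).symm.symm.trans (hinv y)
      have hyy : (y : Q ⧸ R) ^ 2 = 1 := by
        rw [sq, ← QuotientGroup.mk_mul, QuotientGroup.eq_one_iff]
        have := inv_mem h1
        simpa [mul_inv_rev] using this
      have hoddQ : Nat.Coprime 2 (Nat.card (Q ⧸ R)) := by
        refine (Nat.Prime.coprime_iff_not_dvd Nat.prime_two).mpr fun h => d.heis.cast_card ?_
        obtain ⟨l, hl⟩ := h.trans (Subgroup.card_quotient_dvd_card R)
        rw [hl, Nat.cast_mul, Nat.cast_two, h2k, zero_mul]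
      refine hy ((QuotientGroup.eq_one_iff y).mp ?_)
      have h3 := pow_gcd_eq_one.mpr ⟨hyy, pow_card_eq_one' (x := (y : Q ⧸ R))⟩
      rwa [hoddQ.gcd_eq_one, pow_one] at h3
    · -- multiplicity-free joint spectrum
      have hok : ((2 : ℕ) : k) ≠ 0 := by rw [Nat.cast_two]; exact h2k
      have hM : ((r * 2 : ℕ) : k) ≠ 0 := by rw [Nat.cast_mul]; exact mul_ne_zero d.cast hok
      obtain ⟨bz, ζ, hζ, hζM⟩ := Prelim.exists_eigenbasis (F.T * N) hM hS.pow
      have hcop : r.Coprime 2 := (Nat.coprime_primes d.prime Nat.prime_two).mpr hr2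
      obtain ⟨u, hu1, hu2⟩ := Nat.chineseRemainder hcop 1 0
      obtain ⟨w, hw1, hw2⟩ := Nat.chineseRemainder hcop 0 1
      have hTu : (F.T * N) ^ u = F.T := by
        rw [hTN.mul_pow, pow_eq_pow_of_modEq hu1 F.sreg.pow, pow_eq_pow_of_modEq hu2 hN1, pow_one,
          pow_zero, mul_one]
      have hNw : (F.T * N) ^ w = N := by
        rw [hTN.mul_pow, pow_eq_pow_of_modEq hw1 F.sreg.pow, pow_eq_pow_of_modEq hw2 hN1, pow_one,
          pow_zero, one_mul]
      have hΘp : ∀ (j : ℕ) i, ((F.T * N) ^ j) (bz i) = ζ i ^ j • bz i := fun j i => by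
        induction j with
        | zero => simp
        | succ j ih =>
          rw [pow_succ', Module.End.mul_apply, ih, map_smul, hζ, smul_smul, pow_succ]
      have hTb : ∀ i, F.T (bz i) = ζ i ^ u • bz i := fun i => by rw [← hΘp u i, hTu]
      have hNb : ∀ i, N (bz i) = ζ i ^ w • bz i := fun i => by rw [← hΘp w i, hNw]
      have hinj : Function.Injective ζ := by
        intro i j hij
        by_contra hne
        have hb : (ζ i ^ u) ^ r = 1 := by
          rw [← pow_mul, Nat.mul_comm, pow_mul]
          have h1 : (ζ i ^ r) ^ 2 = 1 := by rw [← pow_mul, hζM]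
          have h2 : u % 2 = 0 := hu2
          obtain ⟨l, hl⟩ : 2 ∣ u := Nat.dvd_of_mod_eq_zero h2
          rw [hl, pow_mul, h1, one_pow]
        have hdep : ∃ t : k, bz j = t • bz i := by
          by_cases hba : ζ i ^ u = a
          · -- the one-dimensional block
            obtain ⟨l, hl⟩ := (mult_pos_iff F.ν a).mp (by omega)
            have hsp : ∀ v, F.T v = a • v → ∃ t : k, v = t • F.b l := fun v hv =>
              ⟨F.b.coord l v, by
                conv_lhs => rw [← F.proj_eq_self hv, ← F.b.sum_repr v, map_sum]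
                rw [Finset.sum_eq_single l]
                · rw [map_smul, F.proj_apply, if_pos hl]; rfl
                · intro p _ hp
                  rw [map_smul, F.proj_apply,
                    if_neg (fun h => hp (eq_of_mult_le_one hone.le h hl)), smul_zero]
                · intro h; exact absurd (Finset.mem_univ l) h⟩
            obtain ⟨t1, ht1⟩ := hsp _ (hba ▸ hTb i)
            obtain ⟨t2, ht2⟩ := hsp _ (by rw [hTb, ← hij, hba])
            have ht10 : t1 ≠ 0 := fun h => bz.ne_zero i (by rw [ht1, h, zero_smul])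
            exact ⟨t2 / t1, by rw [ht2, ht1, smul_smul, div_mul_cancel₀ _ ht10]⟩
          · have hmb : mult F.ν (ζ i ^ u) = 2 := by
              have h1 := (hothers _ hb hba).1
              have h2 := hle2 _ hb
              have h3 : 0 < mult F.ν (ζ i ^ u) :=
                (mult_pos_iff _ _).mpr (F.exists_index d (f.big d) hb)
              have := Nat.le_of_dvd h3 h1
              omega
            exact (hothers _ hb hba).2 hok (bz i) (bz j) (hTb i) (by rw [hTb, ← hij]) (ζ i ^ w)
              (hNb i) (by rw [hNb, ← hij]) hmb (bz.ne_zero i)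
        obtain ⟨t, ht'⟩ := hdep
        have := congrArg (fun v => bz.repr v j) ht'
        simp [Finsupp.single_eq_of_ne (Ne.symm hne)] at this
      have hKN : Commute N K := by
        rw [show N = s⁻¹ • K ^ 2 by rw [hK2, smul_smul, inv_mul_cancel₀ hs0, one_smul]]
        exact ((Commute.refl K).pow_left 2).smul_left _
      have hΘK : Commute (F.T * N) K := hTK.mul_left hKN
      obtain ⟨i, hi, hmem⟩ := hS.orbit_eq F.model htp (N := K) (e := 4) (by norm_num) hK1 hK
        (fun X hX => commute_of_simple bz ζ hζ hinj hΘK hX) y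
      have htg : Commute t (β * n) := (htc.symm).mul_right (ht ▸ (Commute.refl t).pow_right 2)
      have h1 := cong_iter_of_commute (d.pres.mul f.pres) htp htg hmem 2
      rw [ht] at h1
      have h2 : Cong R (n y) (((β * n) ^ r) y) := by
        rw [f.comm.mul_pow, d.pow, one_mul]
        obtain ⟨l, hl⟩ := hodd
        rw [hl, pow_succ', MulAut.mul_apply]
        exact (cong_mul_iter f.pres (f.per y) l).map f.pres
      have h3 : Cong R (((β * n) ^ (i * 2)) y) (((β * n) ^ r) y) := h1.symm.trans h2
      have hgp := d.pres.mul f.pres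
      rcases Nat.lt_or_ge (i * 2) r with hlt | hge
      · refine hy ?_
        have h4 := h3.map (hgp.pow (r * 2 - i * 2))
        rw [← MulAut.mul_apply, ← MulAut.mul_apply, ← pow_add, ← pow_add,
          Nat.sub_add_cancel (by omega)] at h4
        refine mem_of_not_dvd hS (i := r * 2 - i * 2 + r) ?_ (Cong.trans (hS.per y) h4)
        intro hd
        have h5 : 2 ∣ r * 2 - i * 2 + r := dvd_trans (dvd_mul_left 2 r) hd
        obtain ⟨l, hl⟩ := hodd
        omega
      · refine hy ?_
        have h4 := h3.map (hgp.pow (r * 2 - r))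
        rw [← MulAut.mul_apply, ← MulAut.mul_apply, ← pow_add, ← pow_add,
          Nat.sub_add_cancel (by omega)] at h4
        refine mem_of_not_dvd hS (i := r * 2 - r + i * 2) ?_ (Cong.trans (hS.per y) h4.symm)
        intro hd
        have h5 : 2 ∣ r * 2 - r + i * 2 := dvd_trans (dvd_mul_left 2 r) hd
        obtain ⟨l, hl⟩ := hodd
        omega
  obtain ⟨y, hy⟩ : ∃ y, y ∉ R := by
    by_contra hcon
    push Not at hcon
    exact d.heis.ne_top (eq_top_iff.mpr fun x _ => hcon x)
  exact hexN y hy

end Fpf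

end Cfsg.Agent.Lib.PrimeFitting.Fixed
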