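/-
Points of a class-two group `T ⊴ Γ` on a `Γ`-module: characters on maximal isotropic-free radicals,
their eigenspaces, and the decomposition of the module.
-/
import Cfsg.Agent.Lib.FpfHeight.EigenChar
import Mathlib.GroupTheory.PGroup
import Mathlib.GroupTheory.Commutator.Basic
import Mathlib.FieldTheory.IsAlgClosed.Basic
import Mathlib.LinearAlgebra.FiniteDimensional.Basic

set_option autoImplicit false
set_option linter.style.haveILetI false
set_option linter.unusedSectionVars false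

open scoped commutatorElement

namespace Cfsg.Agent.Lib.PrimeFitting.Points

/-- Functions on a group, moved by conjugation. -/
def Pt (Γ k : Type*) : Type _ := Γ → k

variable {Γ : Type*} [Group Γ] {k : Type*} [Field k] {V : Type*} [AddCommGroup V] [Module k V]

instance : CoeFun (Pt Γ k) fun _ => Γ → k := ⟨fun g => g⟩

instance : MulAction Γ (Pt Γ k) where
  smul γ g := fun x => g (γ⁻¹ * x * γ)
  one_smul g := funext fun x => congrArg g (by group)
  mul_smul γ δ g := funext fun x => congrArg g (by group)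

theorem smul_apply (γ : Γ) (g : Pt Γ k) (x : Γ) : (γ • g) x = g (γ⁻¹ * x * γ) := rfl

theorem Pt.ext {g g' : Pt Γ k} (h : ∀ x, g x = g' x) : g = g' := funext h

theorem apply_conj_of_fixed {γ : Γ} {g : Pt Γ k} (h : γ • g = g) (x : Γ) :
    g (γ * x * γ⁻¹) = g x := by
  conv_lhs => rw [← h, smul_apply]
  congr 1; group

/-- A `q`-group `T ⊴ Γ` acting with class at most two and `q`-th powers central, together with
an element `s` of prime order `r ≠ q`. -/
structure Level (π : Γ →* Module.End k V) (T : Subgroup Γ) (q : ℕ) (s : Γ) (r : ℕ) : Prop where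
  normal : T.Normal
  qprime : q.Prime
  pgroup : IsPGroup q T
  qcast : (q : k) ≠ 0
  rprime : r.Prime
  rcast : (r : k) ≠ 0
  ne : q ≠ r
  pow : s ^ r = 1
  nice : ∀ a ∈ T, ∀ b ∈ T, ∀ c ∈ T, π ⁅⁅a, b⁆, c⁆ = 1
  expo : ∀ a ∈ T, ∀ b ∈ T, π ⁅a ^ q, b⁆ = 1

/-- A point: a character on its radical, extended by zero. -/
structure IsPoint (π : Γ →* Module.End k V) (T : Subgroup Γ) (g : Pt Γ k) : Prop where
  supp : ∀ x, g x ≠ 0 → x ∈ T
  one : g 1 = 1
  ker : ∀ x ∈ T, π x = 1 → g x = 1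
  mul : ∀ a b, g a ≠ 0 → g b ≠ 0 → g (a * b) = g a * g b
  rad : ∀ a ∈ T, g a ≠ 0 ↔ ∀ y ∈ T, g ⁅a, y⁆ = 1
  exists_vec : ∃ v : V, v ≠ 0 ∧ ∀ a, g a ≠ 0 → π a v = g a • v

/-- The eigenspace of a point. -/
def W (π : Γ →* Module.End k V) (g : Pt Γ k) : Submodule k V where
  carrier := {v | ∀ a, g a ≠ 0 → π a v = g a • v}
  add_mem' := fun {v w} hv hw a ha => by rw [map_add, hv a ha, hw a ha, smul_add]
  zero_mem' := fun a _ => by simp
  smul_mem' := fun t v hv a ha => by rw [map_smul, hv a ha, smul_comm]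

theorem mem_W {π : Γ →* Module.End k V} {g : Pt Γ k} {v : V} :
    v ∈ W π g ↔ ∀ a, g a ≠ 0 → π a v = g a • v := Iff.rfl

variable {π : Γ →* Module.End k V} {T : Subgroup Γ} {q r : ℕ} {s : Γ}

theorem pi_mul_inv (π : Γ →* Module.End k V) (γ : Γ) : π γ * π γ⁻¹ = 1 := by
  rw [← map_mul, mul_inv_cancel, map_one]

theorem pi_inv_mul (π : Γ →* Module.End k V) (γ : Γ) : π γ⁻¹ * π γ = 1 := by
  rw [← map_mul, inv_mul_cancel, map_one]

theorem pi_apply_inv_apply (π : Γ →* Module.End k V) (γ : Γ) (v : V) : π γ (π γ⁻¹ v) = v := by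
  rw [← Module.End.mul_apply, pi_mul_inv, Module.End.one_apply]

theorem pi_inv_apply_apply (π : Γ →* Module.End k V) (γ : Γ) (v : V) : π γ⁻¹ (π γ v) = v := by
  rw [← Module.End.mul_apply, pi_inv_mul, Module.End.one_apply]

theorem pi_mem_W_smul {γ : Γ} {g : Pt Γ k} {v : V} (hv : v ∈ W π g) : π γ v ∈ W π (γ • g) := by
  intro a ha
  rw [smul_apply] at ha ⊢
  have h := hv _ ha
  rw [← Module.End.mul_apply, ← map_mul,
    show a * γ = γ * (γ⁻¹ * a * γ) by group, map_mul, Module.End.mul_apply, h, map_smul]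

namespace Level

variable (L : Level π T q s r)
include L

theorem conj_mem (γ : Γ) {x : Γ} (hx : x ∈ T) : γ * x * γ⁻¹ ∈ T := L.normal.conj_mem x hx γ

theorem conj_mem' (γ : Γ) {x : Γ} (hx : x ∈ T) : γ⁻¹ * x * γ ∈ T := by
  simpa using L.normal.conj_mem x hx γ⁻¹

theorem comm_mem {a : Γ} (ha : a ∈ T) (y : Γ) : ⁅a, y⁆ ∈ T := by
  rw [commutatorElement_def, mul_assoc, mul_assoc]
  exact mul_mem ha (by simpa [mul_assoc] using L.normal.conj_mem _ (inv_mem ha) y)

theorem isPoint_smul {g : Pt Γ k} (h : IsPoint π T g) (γ : Γ) : IsPoint π T (γ • g) where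
  supp := fun x hx => by
    have := L.conj_mem γ (h.supp _ hx)
    simpa [mul_assoc] using this
  one := by
    rw [smul_apply, show γ⁻¹ * 1 * γ = 1 by group, h.one]
  ker := fun x hx hπ => h.ker _ (L.conj_mem' γ hx) (by
    rw [map_mul, map_mul, hπ, mul_one, pi_inv_mul])
  mul := fun a b ha hb => by
    rw [smul_apply, smul_apply, smul_apply,
      show γ⁻¹ * (a * b) * γ = (γ⁻¹ * a * γ) * (γ⁻¹ * b * γ) by group]
    exact h.mul _ _ ha hb
  rad := fun a ha => by
    rw [smul_apply]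
    refine (h.rad _ (L.conj_mem' γ ha)).trans ⟨fun H y hy => ?_, fun H y hy => ?_⟩
    · rw [smul_apply, show γ⁻¹ * ⁅a, y⁆ * γ = ⁅γ⁻¹ * a * γ, γ⁻¹ * y * γ⁆ by
        simp only [commutatorElement_def]; group]
      exact H _ (L.conj_mem' γ hy)
    · have := H _ (L.conj_mem γ hy)
      rwa [smul_apply, show γ⁻¹ * ⁅a, γ * y * γ⁻¹⁆ * γ = ⁅γ⁻¹ * a * γ, y⁆ by
        simp only [commutatorElement_def]; group] at this
  exists_vec := by
    obtain ⟨v, hv0, hv⟩ := h.exists_vec
    refine ⟨π γ v, fun h0 => hv0 ?_, pi_mem_W_smul (mem_W.mpr hv)⟩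
    rw [← pi_inv_apply_apply π γ v, h0, map_zero]

theorem isPGroup_card [Finite Γ] : ∃ l, Nat.card T = q ^ l :=
  haveI := Fact.mk L.qprime
  IsPGroup.iff_card.mp L.pgroup

theorem card_cast [Finite Γ] {H : Subgroup Γ} (hH : H ≤ T) : (Nat.card H : k) ≠ 0 := by
  haveI := Fact.mk L.qprime
  obtain ⟨l, hl⟩ := IsPGroup.iff_card.mp (L.pgroup.to_le hH)
  rw [hl, Nat.cast_pow]
  exact pow_ne_zero _ L.qcast

end Level

namespace IsPoint

variable {g : Pt Γ k} (h : IsPoint π T g) (L : Level π T q s r)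
include h L

omit L in
theorem apply_inv {a : Γ} (ha : g a ≠ 0) (haT : g a⁻¹ ≠ 0) : g a⁻¹ = (g a)⁻¹ :=
  eq_inv_of_mul_eq_one_right (by rw [← h.mul _ _ ha haT, mul_inv_cancel, h.one])

/-- Elements central modulo the kernel lie in every support. -/
theorem ne_zero_of_central {a : Γ} (ha : a ∈ T) (hc : ∀ y ∈ T, π ⁅a, y⁆ = 1) : g a ≠ 0 :=
  (h.rad a ha).mpr fun y hy => h.ker _ (L.comm_mem ha y) (hc y hy)

theorem comm_ne_zero {a b : Γ} (ha : a ∈ T) (hb : b ∈ T) : g ⁅a, b⁆ ≠ 0 :=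
  h.ne_zero_of_central L (L.comm_mem ha b) fun c hc => L.nice a ha b hb c hc

theorem apply_conj {x c : Γ} (hx : x ∈ T) (hc : c ∈ T) (hcc : ∀ y ∈ T, π ⁅c, y⁆ = 1) :
    g (x * c * x⁻¹) = g c := by
  have h1 : π ⁅x, c⁆ = 1 := by
    have h3 : π ⁅x, c⁆ = π ⁅c, x⁆⁻¹ := by rw [commutatorElement_inv]
    have h2 := pi_inv_mul π ⁅c, x⁆
    rw [hcc x hx, mul_one] at h2
    rw [h3, h2]
  rw [show x * c * x⁻¹ = ⁅x, c⁆ * c by simp [commutatorElement_def, mul_assoc],
    h.mul _ _ (h.comm_ne_zero L hx hc) (h.ne_zero_of_central L hc hcc),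
    h.ker _ (L.comm_mem hx c) h1, one_mul]

theorem pair_mul_left {a b y : Γ} (ha : a ∈ T) (hb : b ∈ T) (hy : y ∈ T) :
    g ⁅a * b, y⁆ = g ⁅a, y⁆ * g ⁅b, y⁆ := by
  have e : ⁅a * b, y⁆ = (a * ⁅b, y⁆ * a⁻¹) * ⁅a, y⁆ := by
    simp only [commutatorElement_def]; group
  have hc : ∀ z ∈ T, π ⁅⁅b, y⁆, z⁆ = 1 := fun z hz => L.nice b hb y hy z hz
  rw [e, h.mul _ _ (by rw [h.apply_conj L ha (L.comm_mem hb y) hc]; exact h.comm_ne_zero L hb hy)
    (h.comm_ne_zero L ha hy), h.apply_conj L ha (L.comm_mem hb y) hc, mul_comm]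

theorem pair_symm {a y : Γ} (ha : a ∈ T) (hy : y ∈ T) : g ⁅a, y⁆ * g ⁅y, a⁆ = 1 := by
  rw [← h.mul _ _ (h.comm_ne_zero L ha hy) (h.comm_ne_zero L hy ha), ← commutatorElement_inv a y,
    mul_inv_cancel, h.one]

theorem pair_mul_right {a y z : Γ} (ha : a ∈ T) (hy : y ∈ T) (hz : z ∈ T) :
    g ⁅a, y * z⁆ = g ⁅a, y⁆ * g ⁅a, z⁆ := by
  refine mul_right_cancel₀ (h.comm_ne_zero L (mul_mem hy hz) ha) ?_
  rw [h.pair_symm L ha (mul_mem hy hz), h.pair_mul_left L hy hz ha,
    mul_mul_mul_comm, h.pair_symm L ha hy, h.pair_symm L ha hz, one_mul]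

theorem pair_one_left {y : Γ} : g ⁅(1 : Γ), y⁆ = 1 := by
  rw [commutatorElement_one_left, h.one]

/-- The radical. -/
def supportSubgroup : Subgroup Γ where
  carrier := {a | g a ≠ 0}
  one_mem' := by simp [h.one]
  mul_mem' := fun {a b} ha hb => by
    simp only [Set.mem_setOf_eq] at ha hb ⊢
    rw [h.mul a b ha hb]; exact mul_ne_zero ha hb
  inv_mem' := fun {a} ha => by
    simp only [Set.mem_setOf_eq] at ha ⊢
    refine (h.rad _ (inv_mem (h.supp a ha))).mpr fun y hy => ?_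
    have h1 := h.pair_mul_left L (inv_mem (h.supp a ha)) (h.supp a ha) hy
    rw [inv_mul_cancel, h.pair_one_left L, (h.rad a (h.supp a ha)).mp ha y hy, mul_one] at h1
    exact h1.symm

theorem mem_supportSubgroup {a : Γ} : a ∈ h.supportSubgroup L ↔ g a ≠ 0 := Iff.rfl

theorem supportSubgroup_le : h.supportSubgroup L ≤ T := fun a ha => h.supp a ha

/-- The value on the radical as a homomorphism. -/
def char : h.supportSubgroup L →* k where
  toFun a := g a
  map_one' := h.one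
  map_mul' a b := h.mul a b a.2 b.2

theorem pow_card [Finite Γ] {a : Γ} (ha : g a ≠ 0) :
    g a ^ Nat.card T = 1 := by
  have hmem : a ∈ h.supportSubgroup L := ha
  have h1 : (⟨a, hmem⟩ : h.supportSubgroup L) ^ Nat.card T = 1 :=
    orderOf_dvd_iff_pow_eq_one.mp
      ((orderOf_dvd_natCard _).trans (Subgroup.card_dvd_of_le (h.supportSubgroup_le L)))
  have h2 := congrArg (h.char L) h1
  rw [map_pow, map_one] at h2
  exact h2

/-- A root of unity of order prime to `q` among the values is trivial. -/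
theorem eq_one_of_pow [Finite Γ] {a : Γ} (ha : g a ≠ 0) {M : ℕ} (hM : M.Coprime q)
    (h1 : g a ^ M = 1) : g a = 1 := by
  obtain ⟨l, hl⟩ := L.isPGroup_card
  have h2 := pow_gcd_eq_one.mpr ⟨h1, h.pow_card L ha⟩
  rwa [hl, (Nat.Coprime.pow_right l hM).gcd_eq_one, pow_one] at h2

theorem smul_mem_W {y : Γ} (hy : y ∈ T) {v : V} (hv : v ∈ W π g) : π y v ∈ W π g := by
  intro a ha
  have haT := h.supp a ha
  have h1 : π ⁅a, y⁆ (π (y * a) v) = π (a * y) v := by
    rw [← Module.End.mul_apply, ← map_mul]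
    congr 2
    simp [commutatorElement_def, mul_assoc]
  have h2 : π (y * a) v = g a • π y v := by rw [map_mul, Module.End.mul_apply, hv a ha, map_smul]
  have h3 : π (y⁻¹ * ⁅a, y⁆ * y) v = v := by
    have e := h.apply_conj L (inv_mem hy) (L.comm_mem haT y) (fun z hz => L.nice a haT y hy z hz)
    rw [inv_inv, (h.rad a haT).mp ha y hy] at e
    rw [hv _ (by rw [e]; exact one_ne_zero), e, one_smul]
  have h4 : π ⁅a, y⁆ (π y v) = π y v := by
    rw [← Module.End.mul_apply, ← map_mul,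
      show ⁅a, y⁆ * y = y * (y⁻¹ * ⁅a, y⁆ * y) by group, map_mul, Module.End.mul_apply, h3]
  rw [← Module.End.mul_apply, ← map_mul, ← h1, h2, map_smul, h4]

theorem smul_eq_self {y : Γ} (hy : y ∈ T) : y • g = g := by
  refine Pt.ext fun x => ?_
  rw [smul_apply]
  by_cases hx : g x = 0
  · rw [hx]
    by_contra hne
    have hxT : y⁻¹ * x * y ∈ T := h.supp _ hne
    have hxT' : x ∈ T := by
      have := L.conj_mem y hxT
      simpa [mul_assoc] using this
    refine absurd hx ((h.rad x hxT').mpr fun z hz => ?_)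
    have h1 := (h.rad _ hxT).mp hne z hz
    rw [show y⁻¹ * x * y = ⁅y⁻¹, x⁆ * x by simp [commutatorElement_def, mul_assoc],
      h.pair_mul_left L (L.comm_mem (inv_mem hy) x) hxT' hz,
      h.ker _ (L.comm_mem (L.comm_mem (inv_mem hy) x) z) (L.nice _ (inv_mem hy) x hxT' z hz),
      one_mul] at h1
    exact h1
  · have hxT := h.supp x hx
    rw [show y⁻¹ * x * y = ⁅y⁻¹, x⁆ * x by simp [commutatorElement_def, mul_assoc],
      h.mul _ _ (h.comm_ne_zero L (inv_mem hy) hxT) hx]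
    have h1 := h.pair_symm L (inv_mem hy) hxT
    rw [(h.rad x hxT).mp hx _ (inv_mem hy), mul_one] at h1
    rw [h1, one_mul]

/-- The projection on the eigenspace. -/
noncomputable def proj [Finite Γ] : Module.End k V :=
  haveI := Fintype.ofFinite (h.supportSubgroup L)
  (Nat.card (h.supportSubgroup L) : k)⁻¹ •
    ∑ a : h.supportSubgroup L, (g a)⁻¹ • π a

theorem proj_eq [Finite Γ] [Fintype (h.supportSubgroup L)] :
    h.proj L = (Nat.card (h.supportSubgroup L) : k)⁻¹ •
      ∑ a : h.supportSubgroup L, (g a)⁻¹ • π a := by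
  rw [proj]; congr!

theorem proj_mem [Finite Γ] (v : V) : h.proj L v ∈ W π g := by
  haveI := Fintype.ofFinite (h.supportSubgroup L)
  rw [proj_eq, LinearMap.smul_apply, LinearMap.sum_apply]
  refine (W π g).smul_mem _ ?_
  intro b hb
  rw [map_sum, Finset.smul_sum]
  refine Fintype.sum_bijective (⟨b, hb⟩ * · : h.supportSubgroup L → h.supportSubgroup L)
    (Group.mulLeft_bijective _) _ _ fun a => ?_
  rw [LinearMap.smul_apply, LinearMap.smul_apply, map_smul, Subgroup.coe_mul, map_mul,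
    Module.End.mul_apply, smul_smul]
  rw [h.mul _ _ hb a.2, mul_inv, ← mul_assoc, mul_inv_cancel₀ hb, one_mul]

theorem proj_eq_self [Finite Γ] {v : V} (hv : v ∈ W π g) : h.proj L v = v := by
  haveI := Fintype.ofFinite (h.supportSubgroup L)
  rw [proj_eq, LinearMap.smul_apply, LinearMap.sum_apply,
    Finset.sum_congr rfl fun (a : h.supportSubgroup L) _ => show ((g a)⁻¹ • π a) v = v by
      rw [LinearMap.smul_apply, hv a a.2, smul_smul, inv_mul_cancel₀ a.2, one_smul],
    Finset.sum_const, Finset.card_univ, ← Nat.card_eq_fintype_card, ← Nat.cast_smul_eq_nsmul k,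
    smul_smul, inv_mul_cancel₀ (L.card_cast (h.supportSubgroup_le L)), one_smul]

theorem proj_eq_zero [Finite Γ] {g' : Pt Γ k} (h' : IsPoint π T g') (hne : g' ≠ g) {v : V}
    (hv : v ∈ W π g') : h.proj L v = 0 := by
  by_cases hz : ∀ z ∈ T, (∀ y ∈ T, π ⁅z, y⁆ = 1) → g' z = g z
  · have hsupp : ∀ a, g a ≠ 0 ↔ g' a ≠ 0 := fun a => by
      by_cases haT : a ∈ T
      · rw [h.rad a haT, h'.rad a haT]
        refine forall₂_congr fun y hy => ?_
        rw [hz _ (L.comm_mem haT y) fun c hc => L.nice a haT y hy c hc]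
      · exact iff_of_false (fun h1 => haT (h.supp a h1)) (fun h1 => haT (h'.supp a h1))
    obtain ⟨b, hb, hbne⟩ : ∃ b, g b ≠ 0 ∧ g' b ≠ g b := by
      by_contra hcon
      push Not at hcon
      refine hne (Pt.ext fun a => ?_)
      by_cases ha : g a = 0
      · rw [ha]; by_contra h1; exact (hsupp a).mpr h1 ha
      · exact hcon a ha
    haveI := Fintype.ofFinite (h.supportSubgroup L)
    rw [proj_eq, LinearMap.smul_apply, LinearMap.sum_apply]
    have hS : (∑ a : h.supportSubgroup L, (g a)⁻¹ * g' a) = 0 := by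
      set S := ∑ a : h.supportSubgroup L, (g a)⁻¹ * g' a
      have h1 : ((g b)⁻¹ * g' b) * S = S := by
        rw [Finset.mul_sum]
        refine Fintype.sum_bijective (⟨b, hb⟩ * · : h.supportSubgroup L → h.supportSubgroup L)
          (Group.mulLeft_bijective _) _ _ fun a => ?_
        rw [Subgroup.coe_mul, h.mul _ _ hb a.2, h'.mul _ _ ((hsupp b).mp hb) ((hsupp a).mp a.2),
          mul_inv]
        ring
      by_contra hS0
      have h2 := (mul_eq_right₀ hS0).mp h1
      rw [inv_mul_eq_one₀ hb] at h2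
      exact hbne h2.symm
    rw [Finset.sum_congr rfl fun (a : h.supportSubgroup L) _ => show ((g a)⁻¹ • π a) v = ((g a)⁻¹ * g' a) • v by
        rw [LinearMap.smul_apply, hv a ((hsupp a).mp a.2), smul_smul],
      ← Finset.sum_smul, hS, zero_smul, smul_zero]
  · push Not at hz
    obtain ⟨z, hzT, hzc, hzne⟩ := hz
    have h1 : π z (h.proj L v) = g z • h.proj L v :=
      h.proj_mem L v z (h.ne_zero_of_central L hzT hzc)
    have hcomm : Commute (π z) (h.proj L) := by
      haveI := Fintype.ofFinite (h.supportSubgroup L)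
      rw [proj_eq]
      refine (Commute.sum_right _ _ _ fun a _ => Commute.smul_right ?_ _).smul_right _
      have := hzc a (h.supp a a.2)
      rw [commute_iff_eq, ← map_mul, ← map_mul,
        show z * (a : Γ) = ⁅z, (a : Γ)⁆ * ((a : Γ) * z) by simp [commutatorElement_def, mul_assoc],
        map_mul, this, one_mul]
    rw [← Module.End.mul_apply, hcomm.eq, Module.End.mul_apply,
      hv z (h'.ne_zero_of_central L hzT hzc), map_smul] at h1
    have h2 : (g' z - g z) • h.proj L v = 0 := by rw [sub_smul, h1, sub_self]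
    exact (smul_eq_zero.mp h2).resolve_left (sub_ne_zero.mpr hzne)

end IsPoint

section Decomposition

variable [Finite Γ] [IsAlgClosed k] [FiniteDimensional k V] (L : Level π T q s r)
include L

theorem exists_point (V' : Submodule k V) (hne : V' ≠ ⊥)
    (hinv : ∀ a ∈ T, ∀ v ∈ V', π a v ∈ V') :
    ∃ g, IsPoint π T g ∧ ∃ v ∈ V', v ≠ 0 ∧ v ∈ W π g := by
  -- the subgroup central modulo the kernel
  let Zc : Subgroup Γ :=
    { carrier := {a | a ∈ T ∧ ∀ y ∈ T, Commute (π a) (π y)}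
      one_mem' := ⟨one_mem _, fun y _ => by rw [map_one]; exact Commute.one_left _⟩
      mul_mem' := fun {a b} ha hb => ⟨mul_mem ha.1 hb.1, fun y hy => by
        rw [map_mul]; exact (ha.2 y hy).mul_left (hb.2 y hy)⟩
      inv_mem' := fun {a} ha => ⟨inv_mem ha.1, fun y hy => by
        have h := (ha.2 y hy).eq
        show π a⁻¹ * π y = π y * π a⁻¹
        calc π a⁻¹ * π y = π a⁻¹ * (π y * π a) * π a⁻¹ := by
              rw [mul_assoc, mul_assoc, pi_mul_inv, mul_one]
          _ = π y * π a⁻¹ := by rw [← h, ← mul_assoc, pi_inv_mul, one_mul]⟩ }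
  have hZ : ∀ {a : Γ}, a ∈ T → (∀ y ∈ T, π ⁅a, y⁆ = 1) → a ∈ Zc := fun {a} ha h => ⟨ha, fun y hy => by
    rw [commute_iff_eq, ← map_mul, ← map_mul,
      show a * y = ⁅a, y⁆ * (y * a) by simp [commutatorElement_def, mul_assoc], map_mul, h y hy,
      one_mul]⟩
  have hcm : ∀ {a b : Γ}, a ∈ T → b ∈ T → ⁅a, b⁆ ∈ Zc := fun {a b} ha hb =>
    hZ (L.comm_mem ha b) fun c hc => L.nice a ha b hb c hc
  obtain ⟨w, χ, hwV, hw0, hwχ⟩ := FpfHeight.EigenChar.exists_common_eigenvector (π.comp Zc.subtype)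
    (fun a b => a.2.2 b b.2.1) V' hne (fun a v hv => hinv a a.2.1 v hv)
  have hpair : ∀ {a b y : Γ} (ha : a ∈ T) (hb : b ∈ T) (hy : y ∈ T),
      χ ⟨⁅a * b, y⁆, hcm (mul_mem ha hb) hy⟩ = χ ⟨⁅b, y⁆, hcm hb hy⟩ * χ ⟨⁅a, y⁆, hcm ha hy⟩ := by
    intro a b y ha hb hy
    refine smul_left_injective k hw0 ?_
    show χ _ • w = (χ _ * χ _) • w
    rw [← hwχ, ← map_mul, ← hwχ]
    simp only [MonoidHom.comp_apply, Subgroup.coe_subtype, Subgroup.coe_mul]
    rw [show ⁅a * b, y⁆ = (a * ⁅b, y⁆ * a⁻¹) * ⁅a, y⁆ by simp only [commutatorElement_def]; group,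
      map_mul π (a * ⁅b, y⁆ * a⁻¹), map_mul π ⁅b, y⁆, map_mul π (a * ⁅b, y⁆), map_mul π a]
    rw [← ((hcm hb hy).2 a ha).eq, mul_assoc (π ⁅b, y⁆), pi_mul_inv, mul_one]
  let A : Subgroup Γ :=
    { carrier := {a | ∃ ha : a ∈ T, ∀ y (hy : y ∈ T), χ ⟨⁅a, y⁆, hcm ha hy⟩ = 1}
      one_mem' := ⟨one_mem _, fun y hy => by
        have : (⟨⁅(1 : Γ), y⁆, hcm (one_mem _) hy⟩ : Zc) = 1 :=
          Subtype.ext (commutatorElement_one_left y)
        rw [this, map_one]⟩
      mul_mem' := fun {a b} ⟨ha, h1⟩ ⟨hb, h2⟩ => ⟨mul_mem ha hb, fun y hy => by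
        rw [hpair ha hb hy, h1 y hy, h2 y hy, mul_one]⟩
      inv_mem' := fun {a} ⟨ha, h1⟩ => ⟨inv_mem ha, fun y hy => by
        have h := hpair (inv_mem ha) ha hy
        have e : (⟨⁅a⁻¹ * a, y⁆, hcm (mul_mem (inv_mem ha) ha) hy⟩ : Zc) = 1 :=
          Subtype.ext (by simp)
        rw [e, map_one, h1 y hy, one_mul] at h
        exact h.symm⟩ }
  have hAT : ∀ {a : Γ}, a ∈ A → a ∈ T := fun h => h.1
  have hZA : ∀ {a : Γ}, a ∈ Zc → a ∈ A := fun {a} ha => ⟨ha.1, fun y hy => by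
    refine smul_left_injective k hw0 ?_
    show χ _ • w = (1 : k) • w
    rw [← hwχ, one_smul]
    show π ⁅a, y⁆ w = w
    have h : π ⁅a, y⁆ = 1 := by
      rw [commutatorElement_def, map_mul, map_mul, map_mul, (ha.2 y hy).eq, mul_assoc (π y),
        pi_mul_inv, mul_one, pi_mul_inv]
    rw [h, Module.End.one_apply]⟩
  let U : Submodule k V :=
    { carrier := {v | v ∈ V' ∧ ∀ z : Zc, π z v = χ z • v}
      add_mem' := fun {v v'} hv hv' => ⟨add_mem hv.1 hv'.1, fun z => by
        rw [map_add, hv.2, hv'.2, smul_add]⟩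
      zero_mem' := ⟨zero_mem _, fun z => by simp⟩
      smul_mem' := fun t v hv => ⟨V'.smul_mem t hv.1, fun z => by rw [map_smul, hv.2, smul_comm]⟩ }
  have hUinv : ∀ a : A, ∀ v ∈ U, π a v ∈ U := fun a v hv => ⟨hinv a (hAT a.2) v hv.1, fun z => by
    rw [← Module.End.mul_apply, (z.2.2 a (hAT a.2)).eq, Module.End.mul_apply, hv.2, map_smul]⟩
  let ρ : A →* Module.End k U :=
    { toFun := fun a => (π a).restrict (hUinv a)
      map_one' := LinearMap.ext fun u => Subtype.ext (by simp [LinearMap.restrict_apply])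
      map_mul' := fun a b => LinearMap.ext fun u => Subtype.ext (by
        simp [LinearMap.restrict_apply]) }
  have hρ : ∀ (a : A) (u : U), (ρ a u : V) = π a u := fun a u => rfl
  haveI : Nontrivial U := ⟨⟨⟨w, hwV, hwχ⟩, 0, fun h => hw0 (congrArg Subtype.val h)⟩⟩
  obtain ⟨u, μ, -, hu0, huμ⟩ := FpfHeight.EigenChar.exists_common_eigenvector ρ
    (fun a b => LinearMap.ext fun u => Subtype.ext (by
      simp only [Module.End.mul_apply, hρ]
      rw [← Module.End.mul_apply, ← Module.End.mul_apply, ← map_mul, ← map_mul,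
        show (a : Γ) * b = ⁅(a : Γ), (b : Γ)⁆ * (b * a) by simp [commutatorElement_def, mul_assoc],
        map_mul π ⁅(a : Γ), (b : Γ)⁆, Module.End.mul_apply]
      have hmem : π ((b : Γ) * a) (u : V) ∈ U := by
        rw [map_mul, Module.End.mul_apply]; exact hUinv b _ (hUinv a _ u.2)
      rw [hmem.2 ⟨_, hcm (hAT a.2) (hAT b.2)⟩, a.2.2 b (hAT b.2), one_smul]))
    ⊤ top_ne_bot (fun a v _ => Submodule.mem_top)
  classical
  let g : Pt Γ k := fun x => if h : x ∈ A then μ ⟨x, h⟩ else 0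
  have hg : ∀ {x : Γ} (h : x ∈ A), g x = μ ⟨x, h⟩ := fun {x} h => dif_pos h
  have hμ0 : ∀ a : A, μ a ≠ 0 := fun a h => by
    have := map_mul μ a a⁻¹
    rw [mul_inv_cancel, map_one, h, zero_mul] at this
    exact one_ne_zero this
  have hgA : ∀ {x : Γ}, g x ≠ 0 ↔ x ∈ A := fun {x} =>
    ⟨fun h => by by_contra hx; exact h (dif_neg hx), fun h => by rw [hg h]; exact hμ0 _⟩
  have hu0' : (u : V) ≠ 0 := fun h => hu0 (Subtype.ext h)
  have hgval : ∀ {x : Γ}, x ∈ A → π x (u : V) = g x • (u : V) := fun {x} h => by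
    rw [hg h]; exact congrArg Subtype.val (huμ ⟨x, h⟩)
  have hgZ : ∀ {x : Γ} (hx : x ∈ Zc), g x = χ ⟨x, hx⟩ := fun {x} hx =>
    smul_left_injective k hu0' ((hgval (hZA hx)).symm.trans (u.2.2 ⟨x, hx⟩))
  refine ⟨g, ⟨fun x hx => hAT (hgA.mp hx), ?_, fun x hx hπ => ?_, fun a b ha hb => ?_, fun a ha => ?_,
    ⟨u, hu0', fun a ha => hgval (hgA.mp ha)⟩⟩, u, u.2.1, hu0', fun a ha => hgval (hgA.mp ha)⟩
  · rw [hg (one_mem A)]; exact map_one μ
  · have hxZ : x ∈ Zc := ⟨hx, fun y _ => by rw [hπ]; exact Commute.one_left _⟩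
    refine smul_left_injective k hu0' ?_
    show g x • (u : V) = (1 : k) • (u : V)
    rw [← hgval (hZA hxZ), hπ, Module.End.one_apply, one_smul]
  · rw [hg (hgA.mp ha), hg (hgA.mp hb), hg (mul_mem (hgA.mp ha) (hgA.mp hb))]
    exact map_mul μ ⟨a, _⟩ ⟨b, _⟩
  · rw [hgA]
    refine ⟨fun h y hy => ?_, fun h => ⟨ha, fun y hy => ?_⟩⟩
    · rw [hgZ (hcm ha hy)]; exact h.2 y hy
    · rw [← hgZ (hcm ha hy)]; exact h y hy

theorem iSup_W : ⨆ g : {g // IsPoint π T g}, W π g.1 = ⊤ := by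
  set S := ⨆ g : {g // IsPoint π T g}, W π g.1 with hS
  by_contra hne
  have hSinv : ∀ a ∈ T, ∀ v ∈ S, π a v ∈ S := by
    intro a ha
    have hle : S ≤ S.comap (π a) := iSup_le fun g v hv =>
      Submodule.mem_comap.mpr (Submodule.mem_iSup_of_mem g (g.2.smul_mem_W L ha hv))
    exact fun v hv => hle hv
  obtain ⟨S', hS'⟩ := Submodule.exists_isCompl S
  haveI := Fintype.ofFinite T
  let p0 : Module.End k V := S.subtype.comp (Submodule.projectionOnto S S' hS')
  have hp0 : ∀ v ∈ S, p0 v = v := fun v hv =>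
    congrArg Subtype.val (Submodule.projectionOnto_apply_left hS' ⟨v, hv⟩)
  have hp0' : ∀ v, p0 v ∈ S := fun v => Subtype.coe_prop _
  let P : Module.End k V := (Nat.card T : k)⁻¹ • ∑ a : T, π a * p0 * π (a : Γ)⁻¹
  have hPS : ∀ v ∈ S, P v = v := fun v hv => by
    rw [show P = (Nat.card T : k)⁻¹ • ∑ a : T, π a * p0 * π (a : Γ)⁻¹ from rfl,
      LinearMap.smul_apply, LinearMap.sum_apply, Finset.sum_congr rfl fun (a : T) _ =>
      show (π a * p0 * π (a : Γ)⁻¹) v = v by
        rw [Module.End.mul_apply, Module.End.mul_apply, hp0 _ (hSinv _ (inv_mem a.2) v hv),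
          pi_apply_inv_apply],
      Finset.sum_const, Finset.card_univ, ← Nat.card_eq_fintype_card, ← Nat.cast_smul_eq_nsmul k,
      smul_smul, inv_mul_cancel₀ (L.card_cast le_rfl), one_smul]
  have hPmem : ∀ v, P v ∈ S := fun v => by
    rw [show P = (Nat.card T : k)⁻¹ • ∑ a : T, π a * p0 * π (a : Γ)⁻¹ from rfl,
      LinearMap.smul_apply, LinearMap.sum_apply]
    exact S.smul_mem _ (Submodule.sum_mem _ fun a _ => hSinv a a.2 _ (hp0' _))
  have hPc : ∀ b ∈ T, π b * P = P * π b := fun b hb => by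
    rw [show P = (Nat.card T : k)⁻¹ • ∑ a : T, π a * p0 * π (a : Γ)⁻¹ from rfl, mul_smul_comm,
      smul_mul_assoc, Finset.mul_sum, Finset.sum_mul]
    congr 1
    refine Fintype.sum_bijective ((⟨b, hb⟩ : T) * ·) (Group.mulLeft_bijective _) _ _ fun a => ?_
    simp only [Subgroup.coe_mul, mul_inv_rev, map_mul, mul_assoc, pi_inv_mul, mul_one]
  set V' := LinearMap.ker P
  have hV' : V' ≠ ⊥ := by
    intro h0
    refine hne (eq_top_iff.mpr fun v _ => ?_)
    have : v - P v ∈ V' := by rw [LinearMap.mem_ker, map_sub, hPS _ (hPmem v), sub_self]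
    rw [h0, Submodule.mem_bot, sub_eq_zero] at this
    rw [this]; exact hPmem v
  obtain ⟨g, hg, v, hv, hv0, hvW⟩ := exists_point L V' hV' fun a ha v hv => by
    rw [LinearMap.mem_ker] at hv ⊢
    rw [← Module.End.mul_apply, ← hPc a ha, Module.End.mul_apply, hv, map_zero]
  have := hPS v (Submodule.mem_iSup_of_mem (p := fun g : {g // IsPoint π T g} => W π g.1) ⟨g, hg⟩ hvW)
  rw [LinearMap.mem_ker.mp hv] at this
  exact hv0 this.symm

theorem finite_points : Finite {g // IsPoint π T g} := by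
  have hfin : {z : k | z = 0 ∨ z ^ Nat.card T = 1}.Finite := by
    refine ((Set.finite_singleton (0 : k)).union
      (Polynomial.nthRootsFinset (Nat.card T) (1 : k)).finite_toSet).subset fun z hz => ?_
    rcases hz with hz | hz
    · exact Or.inl hz
    · exact Or.inr (by rw [Finset.mem_coe, Polynomial.mem_nthRootsFinset Nat.card_pos]; exact hz)
  haveI := hfin.to_subtype
  refine Finite.of_injective
    (fun (g : {g // IsPoint π T g}) (t : T) =>
      (⟨g.1 t, (em (g.1 t = 0)).imp id fun h => g.2.pow_card L h⟩ :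
        {z : k | z = 0 ∨ z ^ Nat.card T = 1})) ?_
  intro g g' h
  refine Subtype.ext (Pt.ext fun x => ?_)
  by_cases hx : x ∈ T
  · exact congrArg Subtype.val (congrFun h ⟨x, hx⟩)
  · rw [show g.1 x = 0 by by_contra h1; exact hx (g.2.supp x h1),
      show g'.1 x = 0 by by_contra h1; exact hx (g'.2.supp x h1)]

theorem sum_proj [Fintype {g // IsPoint π T g}] (v : V) :
    ∑ g : {g // IsPoint π T g}, g.2.proj L v = v := by
  classical
  have hmem : v ∈ ⨆ g : {g // IsPoint π T g}, W π g.1 := by rw [iSup_W L]; trivial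
  refine Submodule.iSup_induction (fun g : {g // IsPoint π T g} => W π g.1)
    (motive := fun v => ∑ g : {g // IsPoint π T g}, g.2.proj L v = v) hmem ?_ (by simp) ?_
  · intro g w hw
    rw [Finset.sum_eq_single g]
    · exact g.2.proj_eq_self L hw
    · intro g' _ hne
      exact g'.2.proj_eq_zero L g.2 (fun h => hne (Subtype.ext h).symm) hw
    · intro h; exact absurd (Finset.mem_univ g) h
  · intro v w hv hw
    simp only [map_add, Finset.sum_add_distrib, hv, hw]

/-- A vector with no component is zero. -/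
theorem eq_zero_of_proj {v : V} (h : ∀ g (hg : IsPoint π T g), hg.proj L v = 0) : v = 0 := by
  haveI := finite_points L
  haveI := Fintype.ofFinite {g // IsPoint π T g}
  rw [← sum_proj L v]
  exact Finset.sum_eq_zero fun g _ => h g.1 g.2

/-- An operator trivial on every eigenspace is trivial. -/
theorem eq_of_forall_W {X Y : Module.End k V}
    (h : ∀ g, IsPoint π T g → ∀ v ∈ W π g, X v = Y v) : X = Y := by
  haveI := finite_points L
  haveI := Fintype.ofFinite {g // IsPoint π T g}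
  refine LinearMap.ext fun v => ?_
  rw [← sum_proj L v, map_sum, map_sum]
  exact Finset.sum_congr rfl fun g _ => h g.1 g.2 _ (g.2.proj_mem L v)

end Decomposition

theorem IsPoint.proj_conj [Finite Γ] (L : Level π T q s r) {g : Pt Γ k} (h : IsPoint π T g)
    [IsAlgClosed k] [FiniteDimensional k V] (γ : Γ) (v : V) :
    (L.isPoint_smul h γ).proj L (π γ v) = π γ (h.proj L v) := by
  suffices hh : (L.isPoint_smul h γ).proj L * π γ = π γ * h.proj L from LinearMap.congr_fun hh v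
  refine eq_of_forall_W L fun g' hg' w hw => ?_
  simp only [Module.End.mul_apply]
  by_cases hgg : g' = g
  · subst hgg
    rw [h.proj_eq_self L hw, (L.isPoint_smul h γ).proj_eq_self L (pi_mem_W_smul hw)]
  · rw [h.proj_eq_zero L hg' hgg hw, map_zero,
      (L.isPoint_smul h γ).proj_eq_zero L (L.isPoint_smul hg' γ) (fun e => hgg (by
        simpa using congrArg (γ⁻¹ • ·) e)) (pi_mem_W_smul hw)]

end Cfsg.Agent.Lib.PrimeFitting.Points
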