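/-
Fixed points: detection by fixed vectors and the behaviour of centralising automorphisms.
-/
import Cfsg.Agent.Lib.PrimeFitting.Fixed
import Cfsg.Agent.Lib.PrimeFitting.Points
import Cfsg.Agent.Lib.Coprime.Commutator

set_option autoImplicit false
set_option linter.style.haveILetI false
set_option linter.unusedSectionVars false

open scoped commutatorElement Pointwise

namespace Cfsg.Agent.Lib.PrimeFitting.Points

open Cfsg.Agent.Lib.FpfHeight.Extraspecial

variable {Γ : Type*} [Group Γ] {k : Type*} [Field k] {V : Type*} [AddCommGroup V] [Module k V]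

/-- The subgroup generated by the support. -/
def radical (g : Pt Γ k) : Subgroup Γ := Subgroup.closure {a | g a ≠ 0}

/-- The part of `Y` moved by `γ`, together with the radical. -/
def moved (g : Pt Γ k) (γ : Γ) (Y : Subgroup Γ) : Subgroup Γ :=
  radical g ⊔ ⁅Y, Subgroup.zpowers γ⁆

/-- A fixed point with a small moved part. -/
def Bad (T : Subgroup Γ) (s : Γ) (r : ℕ) (g : Pt Γ k) : Prop :=
  s • g = g ∧ (radical g).relIndex (moved g s T) < r * r

variable {π : Γ →* Module.End k V} {T : Subgroup Γ} {q r : ℕ} {s : Γ} {g : Pt Γ k}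

theorem IsPoint.mem_radical (h : IsPoint π T g) (L : Level π T q s r) {a : Γ} :
    a ∈ radical g ↔ g a ≠ 0 := by
  rw [show radical g = h.supportSubgroup L from Subgroup.closure_eq (h.supportSubgroup L)]
  rfl

theorem IsPoint.radical_le (h : IsPoint π T g) (L : Level π T q s r) : radical g ≤ T :=
  fun _ ha => h.supp _ ((h.mem_radical L).mp ha)

theorem pow_fixed {γ : Γ} (hγ : γ • g = g) (i : ℕ) : γ ^ i • g = g := by
  induction i with
  | zero => rw [pow_zero, one_smul]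
  | succ i ih => rw [pow_succ, mul_smul, hγ, ih]

theorem mul_left_invariant [Finite Γ] {γ : Γ} {Y : Subgroup Γ} (hinv : ∀ y ∈ Y, γ * y * γ⁻¹ ∈ Y) :
    γ ∈ Subgroup.normalizer (Y : Set Γ) := by
  refine Subgroup.mem_normalizer_iff.mpr fun y => ⟨hinv y, fun hy => ?_⟩
  have hbij : Function.Surjective (fun x : Y => (⟨γ * x * γ⁻¹, hinv x x.2⟩ : Y)) :=
    Finite.surjective_of_injective fun a b h => Subtype.ext (by simpa using congrArg Subtype.val h)
  obtain ⟨⟨x, hx⟩, hxe⟩ := hbij ⟨_, hy⟩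
  have : x = y := by simpa using congrArg Subtype.val hxe
  exact this ▸ hx

namespace IsPoint

variable (h : IsPoint π T g) (L : Level π T q s r)
include h L

theorem apply_conj_rad {a c : Γ} (hc : c ∈ T) : g (c * a * c⁻¹) = g a :=
  apply_conj_of_fixed (h.smul_eq_self L hc) a

theorem pair_congr {x x' y : Γ} (hx : x ∈ T) (hy : y ∈ T) (hd : g (x⁻¹ * x') ≠ 0) :
    g ⁅x', y⁆ = g ⁅x, y⁆ := by
  conv_lhs => rw [show x' = x * (x⁻¹ * x') by group, h.pair_mul_left L hx (h.supp _ hd) hy,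
    (h.rad _ (h.supp _ hd)).mp hd y hy, mul_one]

theorem pair_congr_right {x y y' : Γ} (hx : x ∈ T) (hy : y ∈ T) (hd : g (y⁻¹ * y') ≠ 0) :
    g ⁅x, y'⁆ = g ⁅x, y⁆ := by
  have hy' : y' ∈ T := by simpa using mul_mem hy (h.supp _ hd)
  refine mul_right_cancel₀ (h.comm_ne_zero L hy' hx) ?_
  rw [h.pair_symm L hx hy', h.pair_congr L hy hx hd, h.pair_symm L hx hy]

theorem pair_inv_right {x y : Γ} (hx : x ∈ T) (hy : y ∈ T) :
    g ⁅x, y⁆ * g ⁅x, y⁻¹⁆ = 1 := by
  rw [← h.pair_mul_right L hx hy (inv_mem hy), mul_inv_cancel, commutatorElement_one_right, h.one]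

omit h L in
theorem pair_conj {γ : Γ} (hγ : γ • g = g) (x y : Γ) :
    g ⁅γ * x * γ⁻¹, γ * y * γ⁻¹⁆ = g ⁅x, y⁆ := by
  rw [← apply_conj_of_fixed hγ ⁅x, y⁆]
  congr 1
  simp only [commutatorElement_def]; group

/-- Congruence modulo the radical composes. -/
theorem cong_trans {x y z : Γ} (h1 : g (x⁻¹ * y) ≠ 0) (h2 : g (y⁻¹ * z) ≠ 0) :
    g (x⁻¹ * z) ≠ 0 := by
  rw [show x⁻¹ * z = (x⁻¹ * y) * (y⁻¹ * z) by group, h.mul _ _ h1 h2]
  exact mul_ne_zero h1 h2

theorem cong_symm {x y : Γ} (h1 : g (x⁻¹ * y) ≠ 0) : g (y⁻¹ * x) ≠ 0 := by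
  rw [show y⁻¹ * x = (x⁻¹ * y)⁻¹ by group]
  exact (h.supportSubgroup L).inv_mem h1

omit h L in
theorem cong_conj {γ : Γ} (hγ : γ • g = g) {x y : Γ} (h1 : g (x⁻¹ * y) ≠ 0) :
    g ((γ * x * γ⁻¹)⁻¹ * (γ * y * γ⁻¹)) ≠ 0 := by
  rw [show (γ * x * γ⁻¹)⁻¹ * (γ * y * γ⁻¹) = γ * (x⁻¹ * y) * γ⁻¹ by group,
    apply_conj_of_fixed hγ]
  exact h1

theorem cong_pow {γ : Γ} (hγ : γ • g = g) {z : Γ} (hz : g (z⁻¹ * (γ * z * γ⁻¹)) ≠ 0) :
    ∀ j : ℕ, g (z⁻¹ * (γ ^ j * z * (γ ^ j)⁻¹)) ≠ 0 := by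
  intro j
  induction j with
  | zero => simp [h.one]
  | succ j ih =>
    refine h.cong_trans L hz ?_
    have := cong_conj hγ ih
    simpa [pow_succ', mul_assoc] using this

/-- Elements fixed modulo the radical pair trivially with the moved part. -/
theorem pair_moved {γ : Γ} [Finite Γ] (hγ : γ • g = g) {Y : Subgroup Γ} (hYT : Y ≤ T) {z : Γ}
    (hz : z ∈ T) (hfix : g (z⁻¹ * (γ * z * γ⁻¹)) ≠ 0) {w : Γ} (hw : w ∈ moved g γ Y) :
    g ⁅z, w⁆ = 1 := by
  let S : Subgroup Γ :=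
    { carrier := {w | w ∈ T ∧ g ⁅z, w⁆ = 1}
      one_mem' := ⟨one_mem _, by rw [commutatorElement_one_right, h.one]⟩
      mul_mem' := fun {a b} ha hb => ⟨mul_mem ha.1 hb.1, by
        rw [h.pair_mul_right L hz ha.1 hb.1, ha.2, hb.2, mul_one]⟩
      inv_mem' := fun {a} ha => ⟨inv_mem ha.1, by
        have := h.pair_inv_right L hz ha.1
        rwa [ha.2, one_mul] at this⟩ }
  have hle : moved g γ Y ≤ S := by
    refine sup_le (fun a ha => ?_) (Subgroup.commutator_le.mpr fun u hu δ hδ => ?_)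
    · have ha' := (h.mem_radical L).mp ha
      have haT := h.supp a ha'
      refine ⟨haT, ?_⟩
      have h1 := h.pair_symm L hz haT
      rwa [(h.rad a haT).mp ha' z hz, mul_one] at h1
    · obtain ⟨j, rfl⟩ := (mem_powers_iff_mem_zpowers (x := γ) (y := δ)).mpr hδ
      have hjg : γ ^ j • g = g := by
        clear hδ
        induction j with
        | zero => rw [pow_zero, one_smul]
        | succ j ih => rw [pow_succ, mul_smul, hγ, ih]
      refine ⟨L.comm_mem (hYT hu) _, ?_⟩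
      have hc : γ ^ j * u⁻¹ * (γ ^ j)⁻¹ ∈ T := L.conj_mem _ (inv_mem (hYT hu))
      rw [show ⁅u, γ ^ j⁆ = u * (γ ^ j * u⁻¹ * (γ ^ j)⁻¹) by
          simp only [commutatorElement_def]; group,
        h.pair_mul_right L hz (hYT hu) hc]
      rw [← h.pair_congr L hz hc (h.cong_pow L hγ hfix j), pair_conj hjg]
      exact h.pair_inv_right L hz (hYT hu)
  exact (hle hw).2

/-- Elements of the moved part fixed modulo the radical pair trivially with everything. -/
theorem pair_eq_one [Finite Γ] {γ : Γ} (hγ : γ • g = g) {Y : Subgroup Γ} (hYT : Y ≤ T)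
    (hinv : ∀ y ∈ Y, γ * y * γ⁻¹ ∈ Y) {M : ℕ} (hM : 0 < M) (hcop : M.Coprime q)
    (hper : ∀ t ∈ Y, g (t⁻¹ * (γ ^ M * t * (γ ^ M)⁻¹)) ≠ 0) {z : Γ} (hz : z ∈ moved g γ Y)
    (hfix : g (z⁻¹ * (γ * z * γ⁻¹)) ≠ 0) {t : Γ} (ht : t ∈ Y) : g ⁅z, t⁆ = 1 := by
  have hinvn : ∀ (i : ℕ), ∀ y ∈ Y, γ ^ i * y * (γ ^ i)⁻¹ ∈ Y := by
    intro i
    induction i with
    | zero => intro y hy; simpa using hy
    | succ i ih => intro y hy; simpa [pow_succ', mul_assoc] using hinv _ (ih y hy)
  set c : ℕ → Γ := fun i => γ ^ i * t * (γ ^ i)⁻¹ with hc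
  have hcT : ∀ i, c i ∈ T := fun i => hYT (hinvn i t ht)
  have hgj : ∀ i : ℕ, γ ^ i • g = g := fun i => by
    induction i with
    | zero => rw [pow_zero, one_smul]
    | succ i ih => rw [pow_succ, mul_smul, hγ, ih]
  let H : Γ → k := fun x => ∏ i ∈ Finset.range M, g ⁅x, c i⁆
  have Hmul : ∀ x y, x ∈ T → y ∈ T → H (x * y) = H x * H y := fun x y hx hy => by
    simp only [H, ← Finset.prod_mul_distrib]
    exact Finset.prod_congr rfl fun i _ => h.pair_mul_left L hx hy (hcT i)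
  have H1 : H 1 = 1 := Finset.prod_eq_one fun i _ => h.pair_one_left L
  have Hconj : ∀ x ∈ T, H (γ * x * γ⁻¹) = H x := by
    intro x hx
    obtain ⟨M', rfl⟩ : ∃ M', M = M' + 1 := ⟨M - 1, (Nat.sub_add_cancel hM).symm⟩
    simp only [H]
    rw [Finset.prod_range_succ' (fun i => g ⁅γ * x * γ⁻¹, c i⁆),
      Finset.prod_range_succ (fun i => g ⁅x, c i⁆)]
    congr 1
    · refine Finset.prod_congr rfl fun i _ => ?_
      rw [show c (i + 1) = γ * c i * γ⁻¹ by simp [c, pow_succ', mul_assoc], pair_conj hγ]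
    · have e : γ * c M' * γ⁻¹ = γ ^ (M' + 1) * t * (γ ^ (M' + 1))⁻¹ := by
        simp [c, pow_succ', mul_assoc]
      have h1 : g ⁅γ * x * γ⁻¹, γ * c M' * γ⁻¹⁆ = g ⁅γ * x * γ⁻¹, t⁆ :=
        h.pair_congr_right L (L.conj_mem γ hx) (hYT ht) (by rw [e]; exact hper t ht)
      rw [pair_conj hγ] at h1
      rw [show c 0 = t by simp [c], h1]
  have Hconjn : ∀ (j : ℕ), ∀ x ∈ T, H (γ ^ j * x * (γ ^ j)⁻¹) = H x := by
    intro j
    induction j with
    | zero => intro x _; simp
    | succ j ih =>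
      intro x hx
      rw [← ih x hx, ← Hconj (γ ^ j * x * (γ ^ j)⁻¹) (L.conj_mem _ hx)]
      congr 1
      simp [pow_succ', mul_assoc]
  let S : Subgroup Γ :=
    { carrier := {x | x ∈ T ∧ H x = 1}
      one_mem' := ⟨one_mem _, H1⟩
      mul_mem' := fun {a b} ha hb => ⟨mul_mem ha.1 hb.1, by
        rw [Hmul a b ha.1 hb.1, ha.2, hb.2, mul_one]⟩
      inv_mem' := fun {a} ha => ⟨inv_mem ha.1, by
        have := Hmul a a⁻¹ ha.1 (inv_mem ha.1)
        rw [mul_inv_cancel, H1, ha.2, one_mul] at this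
        exact this.symm⟩ }
  have hle : moved g γ Y ≤ S := by
    refine sup_le (fun a ha => ?_) (Subgroup.commutator_le.mpr fun u hu δ hδ => ?_)
    · have ha' := (h.mem_radical L).mp ha
      exact ⟨h.supp a ha', Finset.prod_eq_one fun i _ => (h.rad a (h.supp a ha')).mp ha' _ (hcT i)⟩
    · obtain ⟨j, rfl⟩ := (mem_powers_iff_mem_zpowers (x := γ) (y := δ)).mpr hδ
      refine ⟨L.comm_mem (hYT hu) _, ?_⟩
      rw [show ⁅u, γ ^ j⁆ = u * (γ ^ j * u⁻¹ * (γ ^ j)⁻¹) by
          simp only [commutatorElement_def]; group,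
        Hmul _ _ (hYT hu) (L.conj_mem _ (inv_mem (hYT hu))), Hconjn j _ (inv_mem (hYT hu)),
        ← Hmul _ _ (hYT hu) (inv_mem (hYT hu)), mul_inv_cancel, H1]
  have hzT : z ∈ T := (hle hz).1
  have hH : H z = g ⁅z, t⁆ ^ M := by
    simp only [H]
    conv_rhs => rw [← Finset.card_range M, ← Finset.prod_const]
    refine Finset.prod_congr rfl fun i _ => ?_
    rw [← h.pair_congr L hzT (hcT i) (h.cong_pow L hγ hfix i)]
    exact pair_conj (hgj i) z t
  refine h.eq_one_of_pow L (h.comm_ne_zero L hzT (hYT ht)) hcop ?_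
  rw [← hH]
  exact (hle hz).2

theorem radical_le_moved (γ : Γ) (Y : Subgroup Γ) : radical g ≤ moved g γ Y := le_sup_left

theorem moved_le [Finite Γ] {γ : Γ} {Y : Subgroup Γ} (hA : radical g ≤ Y)
    (hinv : ∀ y ∈ Y, γ * y * γ⁻¹ ∈ Y) : moved g γ Y ≤ Y := by
  refine sup_le hA (Subgroup.le_normalizer_iff_commutator_le_left.mp ?_)
  exact Subgroup.zpowers_le.mpr (mul_left_invariant hinv)

omit L in
theorem map_radical {δ : Γ} (hδ : δ • g = g) {x : Γ} (hx : x ∈ radical g) :
    δ * x * δ⁻¹ ∈ radical g := by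
  have hle : radical g ≤ (radical g).comap (MulAut.conj δ).toMonoidHom :=
    (Subgroup.closure_le _).mpr fun a (ha : g a ≠ 0) => Subgroup.mem_comap.mpr
      (Subgroup.subset_closure (show g (δ * a * δ⁻¹) ≠ 0 by rw [apply_conj_of_fixed hδ]; exact ha))
  exact hle hx

omit L in
theorem map_moved {δ γ : Γ} (hδ : δ • g = g) (hc : δ * γ = γ * δ) {Y : Subgroup Γ}
    (hinv : ∀ y ∈ Y, δ * y * δ⁻¹ ∈ Y) {x : Γ} (hx : x ∈ moved g γ Y) :
    δ * x * δ⁻¹ ∈ moved g γ Y := by
  have hle : moved g γ Y ≤ (moved g γ Y).comap (MulAut.conj δ).toMonoidHom := by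
    refine sup_le (fun a ha => ?_) (Subgroup.commutator_le.mpr fun u hu ε hε => ?_)
    · exact Subgroup.mem_comap.mpr (Subgroup.mem_sup_left (h.map_radical hδ ha))
    · refine Subgroup.mem_comap.mpr (Subgroup.mem_sup_right ?_)
      obtain ⟨j, rfl⟩ := Subgroup.mem_zpowers_iff.mp hε
      have hj : δ * γ ^ j * δ⁻¹ = γ ^ j := by
        rw [(Commute.zpow_right (show Commute δ γ from hc) j).eq, mul_inv_cancel_right]
      show δ * ⁅u, γ ^ j⁆ * δ⁻¹ ∈ _
      rw [show δ * ⁅u, γ ^ j⁆ * δ⁻¹ = ⁅δ * u * δ⁻¹, δ * γ ^ j * δ⁻¹⁆ by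
        simp only [commutatorElement_def]; group, hj]
      exact Subgroup.commutator_mem_commutator (hinv u hu) hε
  exact hle hx

end IsPoint

/-- A subgroup between the radical and `T` on which `s` is semiregular and the pairing is
nondegenerate modulo the radical. -/
structure Piece (T : Subgroup Γ) (s : Γ) (g : Pt Γ k) (Y : Subgroup Γ) : Prop where
  le_T : Y ≤ T
  rad_le : radical g ≤ Y
  inv : ∀ y ∈ Y, s * y * s⁻¹ ∈ Y
  nondeg : ∀ x ∈ Y, (∀ y ∈ Y, g ⁅x, y⁆ = 1) → g x ≠ 0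
  semi : ∀ z ∈ Y, g (z⁻¹ * (s * z * s⁻¹)) ≠ 0 → g z ≠ 0

/-- The eigenspace as a `T`-module. -/
noncomputable def pW (π : Γ →* Module.End k V) (g : Pt Γ k) (γ : Γ) (hγ : γ • g = g) :
    Module.End k (W π g) :=
  (π γ).restrict fun v hv => by
    have := pi_mem_W_smul (γ := γ) hv
    rwa [hγ] at this

theorem pW_apply (π : Γ →* Module.End k V) (g : Pt Γ k) (γ : Γ) (hγ : γ • g = g) (v : W π g) :
    (pW π g γ hγ v : V) = π γ v := rfl

/-- Conjugation on a piece. -/
noncomputable def conjY [Finite Γ] {Y : Subgroup Γ} {γ : Γ} (hinv : ∀ y ∈ Y, γ * y * γ⁻¹ ∈ Y) : MulAut Y :=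
  Y.normalizerMonoidHom ⟨γ, mul_left_invariant hinv⟩

theorem conjY_apply [Finite Γ] {Y : Subgroup Γ} {γ : Γ} (hinv : ∀ y ∈ Y, γ * y * γ⁻¹ ∈ Y) (y : Y) :
    ((conjY hinv y : Y) : Γ) = γ * y * γ⁻¹ := rfl

theorem conjY_pow [Finite Γ] {Y : Subgroup Γ} {γ : Γ} (hinv : ∀ y ∈ Y, γ * y * γ⁻¹ ∈ Y) (i : ℕ) (y : Y) :
    (((conjY hinv ^ i) y : Y) : Γ) = γ ^ i * y * (γ ^ i)⁻¹ := by
  induction i with
  | zero => simp
  | succ i ih => rw [pow_succ', MulAut.mul_apply, conjY_apply, ih]; simp [pow_succ', mul_assoc]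

namespace IsPoint

variable (h : IsPoint π T g) (L : Level π T q s r)
include h L

/-- An element of `T` trivial on the eigenspace has value one. -/
theorem eq_one_of_trivial {x : Γ} (hx : x ∈ T) (htriv : ∀ v ∈ W π g, π x v = v) : g x = 1 := by
  obtain ⟨v, hv0, hv⟩ := h.exists_vec
  have hxA : g x ≠ 0 := by
    refine (h.rad x hx).mpr fun y hy => ?_
    have h1 : π ⁅x, y⁆ v = v := by
      rw [commutatorElement_def, map_mul, map_mul, map_mul, Module.End.mul_apply,
        Module.End.mul_apply, Module.End.mul_apply]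
      have hy' := h.smul_mem_W L (inv_mem hy) (mem_W.mpr hv)
      have h2 : π x⁻¹ (π y⁻¹ v) = π y⁻¹ v := by
        conv_lhs => rw [← htriv _ hy', pi_inv_apply_apply]
      rw [h2, pi_apply_inv_apply, htriv v hv]
    refine smul_left_injective k hv0 ?_
    show g ⁅x, y⁆ • v = (1 : k) • v
    rw [← hv _ (h.comm_ne_zero L hx hy), h1, one_smul]
  refine smul_left_injective k hv0 ?_
  show g x • v = (1 : k) • v
  rw [← hv x hxA, htriv v hv, one_smul]

theorem moved_piece [Finite Γ] (hs : s • g = g) : Piece T s g (moved g s T) where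
  le_T := h.moved_le L (h.radical_le L) fun _ hy => L.conj_mem s hy
  rad_le := le_sup_left
  inv := fun _ hy => h.map_moved hs rfl (fun _ hu => L.conj_mem s hu) hy
  nondeg := by
    intro x hx hall
    have hxT : x ∈ T := h.moved_le L (h.radical_le L) (fun _ hy => L.conj_mem s hy) hx
    have hfix : g (x⁻¹ * (s * x * s⁻¹)) ≠ 0 := by
      have hxs : s * x * s⁻¹ ∈ T := L.conj_mem s hxT
      refine (h.rad _ (mul_mem (inv_mem hxT) hxs)).mpr fun t ht => ?_
      have ht' : s⁻¹ * t * s ∈ T := L.conj_mem' s ht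
      have hu : ⁅s⁻¹ * t * s, s⁆ ∈ moved g s T :=
        Subgroup.mem_sup_right (Subgroup.commutator_mem_commutator ht' (Subgroup.mem_zpowers s))
      have e2 : g ⁅x, s⁻¹ * t * s⁆ * g ⁅x, t⁻¹⁆ = 1 := by
        rw [← h.pair_mul_right L hxT ht' (inv_mem ht), ← hall _ hu]
        congr 2
        simp only [commutatorElement_def]; group
      have e3 : g ⁅x, s⁻¹ * t * s⁆ = g ⁅s * x * s⁻¹, t⁆ := by
        rw [← pair_conj hs x (s⁻¹ * t * s)]
        congr 2
        group
      rw [e3] at e2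
      have e4 := h.pair_inv_right L hxT ht
      have e5 : g ⁅s * x * s⁻¹, t⁆ = g ⁅x, t⁆ :=
        mul_right_cancel₀ (h.comm_ne_zero L hxT (inv_mem ht)) (e2.trans e4.symm)
      rw [h.pair_mul_left L (inv_mem hxT) hxs ht, e5,
        ← h.pair_mul_left L (inv_mem hxT) hxT ht, inv_mul_cancel, h.pair_one_left L]
    refine (h.rad x hxT).mpr fun t ht => ?_
    exact h.pair_eq_one L hs le_rfl (fun _ hy => L.conj_mem s hy) L.rprime.pos
      ((Nat.coprime_primes L.rprime L.qprime).mpr L.ne.symm)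
      (fun t _ => by rw [L.pow]; simp [h.one]) hx hfix ht
  semi := by
    intro z hz hfix
    have hzT : z ∈ T := h.moved_le L (h.radical_le L) (fun _ hy => L.conj_mem s hy) hz
    refine (h.rad z hzT).mpr fun t ht => ?_
    exact h.pair_eq_one L hs le_rfl (fun _ hy => L.conj_mem s hy) L.rprime.pos
      ((Nat.coprime_primes L.rprime L.qprime).mpr L.ne.symm)
      (fun t _ => by rw [L.pow]; simp [h.one]) hz hfix ht

variable {Y : Subgroup Γ}

/-- The radical inside a piece, as a normal subgroup. -/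
theorem radical_subgroupOf_normal (hP : Piece T s g Y) : ((radical g).subgroupOf Y).Normal := by
  constructor
  intro a ha y
  rw [Subgroup.mem_subgroupOf] at ha ⊢
  have ha' := (h.mem_radical L).mp ha
  have e : g ((y : Γ) * a * (y : Γ)⁻¹) = g a := h.apply_conj_rad L (hP.le_T y.2)
  exact (h.mem_radical L).mpr (by simpa using e ▸ ha')

/-- The character on the radical inside a piece. -/
def pieceChar (Y : Subgroup Γ) : (radical g).subgroupOf Y →* k where
  toFun a := g ((a : Y) : Γ)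
  map_one' := h.one
  map_mul' a b := h.mul _ _ ((h.mem_radical L).mp a.2) ((h.mem_radical L).mp b.2)

/-- The eigenspace as a module of a piece. -/
noncomputable def pieceRep (hP : Piece T s g Y) : Y →* Module.End k (W π g) where
  toFun y := pW π g y (h.smul_eq_self L (hP.le_T y.2))
  map_one' := LinearMap.ext fun v => Subtype.ext (by simp [pW_apply])
  map_mul' a b := LinearMap.ext fun v => Subtype.ext (by simp [pW_apply])

theorem pieceRep_apply (hP : Piece T s g Y) (y : Y) (v : W π g) :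
    (h.pieceRep L hP y v : V) = π y v := rfl

variable [Finite Γ]

theorem pres_conjY {γ : Γ} (hγ : γ • g = g) (hinv : ∀ y ∈ Y, γ * y * γ⁻¹ ∈ Y) :
    Twisted.Pres ((radical g).subgroupOf Y) (h.pieceChar L Y) (conjY hinv) := by
  refine ⟨fun a ha => ?_, fun a => ?_⟩
  · rw [Subgroup.mem_subgroupOf] at ha ⊢
    exact h.map_radical hγ ha
  · exact apply_conj_of_fixed hγ _

theorem impl_conjY (hP : Piece T s g Y) {γ : Γ} (hγ : γ • g = g)
    (hinv : ∀ y ∈ Y, γ * y * γ⁻¹ ∈ Y) :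
    Twisted.Impl (h.pieceRep L hP) (conjY hinv) (pW π g γ hγ) := by
  intro y
  refine LinearMap.ext fun v => Subtype.ext ?_
  simp only [Module.End.mul_apply, pW_apply, pieceRep_apply, conjY_apply]
  simp only [← Module.End.mul_apply, ← map_mul]
  congr 2
  group

theorem pieceDatum [IsAlgClosed k] (hP : Piece T s g Y) (hs : s • g = g)
    (hne : ∃ y ∈ Y, g y = 0) :
    Fixed.Datum (h.pieceChar L Y) (conjY hP.inv) r (h.pieceRep L hP) (pW π g s hs) where
  heis :=
    { comm := fun u y => by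
        rw [Subgroup.mem_subgroupOf]
        refine (h.mem_radical L).mpr ?_
        have := h.comm_ne_zero L (hP.le_T u.2) (hP.le_T y.2)
        simpa [commutatorElement_def] using this
      nondeg := fun y hy => by
        by_contra hcon
        push Not at hcon
        refine hy ?_
        rw [Subgroup.mem_subgroupOf]
        refine (h.mem_radical L).mpr (hP.nondeg y y.2 fun u hu => ?_)
        have h1 : g ⁅u, (y : Γ)⁆ = 1 := by
          have := hcon ⟨u, hu⟩
          simpa [pieceChar, comEl, commutatorElement_def] using this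
        have h2 := h.pair_symm L (hP.le_T y.2) (hP.le_T hu)
        rwa [h1, mul_one] at h2
      ne_top := fun htop => by
        obtain ⟨y, hy, hy0⟩ := hne
        have : (⟨y, hy⟩ : Y) ∈ (radical g).subgroupOf Y := htop ▸ Subgroup.mem_top _
        exact (h.mem_radical L).mp this hy0
      cast_card := L.card_cast hP.le_T }
  scalar := fun a => LinearMap.ext fun v => Subtype.ext (by
    simp only [pieceRep_apply, LinearMap.smul_apply, Module.End.one_apply, SetLike.val_smul]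
    exact v.2 _ ((h.mem_radical L).mp a.2))
  pres := h.pres_conjY L hs hP.inv
  prime := L.rprime
  cast := L.rcast
  pow := MulEquiv.ext fun y => Subtype.ext (by rw [conjY_pow, L.pow]; simp)
  semi := fun i hi hir y hy => by
    rw [Subgroup.mem_subgroupOf] at hy ⊢
    refine (h.mem_radical L).mpr (hP.semi y y.2 ?_)
    have hy' := (h.mem_radical L).mp hy
    simp only [Subgroup.coe_mul, Subgroup.coe_inv, conjY_pow] at hy'
    have hig : s ^ i • g = g := by
      clear hy hy' hi hir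
      induction i with
      | zero => rw [pow_zero, one_smul]
      | succ i ih => rw [pow_succ, mul_smul, hs, ih]
    obtain ⟨j, -, hj⟩ := Nat.exists_mul_mod_eq_one_of_coprime
      ((L.rprime.coprime_iff_not_dvd.mpr fun hd => absurd (Nat.le_of_dvd hi hd) (not_le.mpr hir)).symm)
      L.rprime.one_lt
    have h1 := h.cong_pow L hig hy' j
    rwa [← pow_mul, pow_eq_pow_mod (i * j) L.pow, hj, pow_one] at h1
  impl := h.impl_conjY L hP hs hP.inv
  powW := by
    have : ∀ (i : ℕ) (v : W π g), ((pW π g s hs ^ i) v : V) = π (s ^ i) v := fun i => by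
      induction i with
      | zero => intro v; simp
      | succ i ih =>
        intro v
        rw [pow_succ, Module.End.mul_apply, ih, pW_apply, pow_succ, map_mul, Module.End.mul_apply]
    exact LinearMap.ext fun v => Subtype.ext (by rw [this, L.pow, map_one]; rfl)

theorem nontrivial_W : Nontrivial (W π g) := by
  obtain ⟨v, hv0, hv⟩ := h.exists_vec
  exact ⟨⟨⟨v, hv⟩, 0, fun e => hv0 (congrArg Subtype.val e)⟩⟩

variable [IsAlgClosed k] [FiniteDimensional k V] (hs : s • g = g)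
include hs

theorem exists_zero_of_relIndex (hbig : (radical g).relIndex (moved g s T) ≠ 1) :
    ∃ y ∈ moved g s T, g y = 0 := by
  by_contra hcon
  push Not at hcon
  exact hbig (Subgroup.relIndex_eq_one.mpr fun y hy => (h.mem_radical L).mpr (hcon y hy))

/-- A small moved part has order one or `(r - 1)²`. -/
theorem small_dichotomy (hsmall : (radical g).relIndex (moved g s T) < r * r) :
    (radical g).relIndex (moved g s T) = 1 ∨
      (radical g).relIndex (moved g s T) = (r - 1) * (r - 1) := by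
  by_cases h1 : (radical g).relIndex (moved g s T) = 1
  · exact Or.inl h1
  have hP := h.moved_piece L hs
  haveI := h.nontrivial_W L
  haveI := h.radical_subgroupOf_normal L hP
  haveI := Fintype.ofFinite (↥(moved g s T) ⧸ (radical g).subgroupOf (moved g s T))
  exact Or.inr ((h.pieceDatum L hP hs (h.exists_zero_of_relIndex L hs h1)).card_small hsmall)

theorem exists_zero_of_not_bad (hbad : ¬ Bad T s r g) : ∃ y ∈ moved g s T, g y = 0 := by
  refine h.exists_zero_of_relIndex L hs fun h1 => hbad ⟨hs, ?_⟩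
  rw [h1]
  have := L.rprime.two_le
  nlinarith

/-- All eigenvalues occur in a large fixed point. -/
theorem exists_eigen (hbad : ¬ Bad T s r g) {a : k} (ha : a ^ r = 1) :
    ∃ v ∈ W π g, v ≠ 0 ∧ π s v = a • v := by
  have hP := h.moved_piece L hs
  haveI := h.nontrivial_W L
  haveI := h.radical_subgroupOf_normal L hP
  haveI := Fintype.ofFinite (↥(moved g s T) ⧸ (radical g).subgroupOf (moved g s T))
  obtain ⟨w, hw0, hw⟩ := (h.pieceDatum L hP hs (h.exists_zero_of_not_bad L hs hbad)).exists_eigenvector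
    (not_lt.mp fun hlt => hbad ⟨hs, hlt⟩) ha
  exact ⟨w, w.2, fun e => hw0 (Subtype.ext e), congrArg Subtype.val hw⟩

/-- A large fixed point has noncommuting moved elements. -/
theorem exists_pair_ne_one (hbad : ¬ Bad T s r g) :
    ∃ u ∈ ⁅T, Subgroup.zpowers s⁆, ∃ v ∈ ⁅T, Subgroup.zpowers s⁆, g ⁅u, v⁆ ≠ 1 := by
  by_contra hcon
  push Not at hcon
  obtain ⟨y, hy, hy0⟩ := h.exists_zero_of_not_bad L hs hbad
  have hK : ⁅T, Subgroup.zpowers s⁆ ≤ T :=
    Subgroup.le_normalizer_iff_commutator_le_left.mp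
      (Subgroup.zpowers_le.mpr (mul_left_invariant fun _ hu => L.conj_mem s hu))
  have key : ∀ x ∈ T, (∀ v ∈ ⁅T, Subgroup.zpowers s⁆, g ⁅x, v⁆ = 1) →
      ∀ w ∈ moved g s T, g ⁅x, w⁆ = 1 := by
    intro x hx hv w hw
    let S : Subgroup Γ :=
      { carrier := {w | w ∈ T ∧ g ⁅x, w⁆ = 1}
        one_mem' := ⟨one_mem _, by rw [commutatorElement_one_right, h.one]⟩
        mul_mem' := fun {a b} ha hb => ⟨mul_mem ha.1 hb.1, by
          rw [h.pair_mul_right L hx ha.1 hb.1, ha.2, hb.2, mul_one]⟩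
        inv_mem' := fun {a} ha => ⟨inv_mem ha.1, by
          have := h.pair_inv_right L hx ha.1
          rwa [ha.2, one_mul] at this⟩ }
    refine ((sup_le (fun a ha => ⟨h.radical_le L ha, ?_⟩) fun v hv' => ⟨hK hv', hv v hv'⟩ :
      moved g s T ≤ S) hw).2
    have h1 := h.pair_symm L hx (h.radical_le L ha)
    rwa [(h.rad a (h.radical_le L ha)).mp ((h.mem_radical L).mp ha) x hx, mul_one] at h1
  have hP := h.moved_piece L hs
  refine hP.nondeg y hy (fun w hw => ?_) hy0
  refine key y (hP.le_T hy) (fun v hv => ?_) w hw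
  have h1 := key v (hK hv) (fun u hu => hcon v hv u hu) y hy
  have h2 := h.pair_symm L (hP.le_T hy) (hK hv)
  rwa [h1, mul_one] at h2

/-- A fixed element trivial on the fixed vectors is trivial on the eigenspace. -/
theorem eq_one_of_fixed (hbad : ¬ Bad T s r g) {x : Γ} (hx : x ∈ T) (hxs : s * x = x * s)
    (htriv : ∀ v ∈ W π g, π s v = v → π x v = v) : g x = 1 := by
  have hP := h.moved_piece L hs
  haveI := h.nontrivial_W L
  haveI := h.radical_subgroupOf_normal L hP
  haveI := Fintype.ofFinite (↥(moved g s T) ⧸ (radical g).subgroupOf (moved g s T))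
  have hxg := h.smul_eq_self L hx
  have hfix : g (x⁻¹ * (s * x * s⁻¹)) ≠ 0 := by
    rw [hxs, mul_inv_cancel_right, inv_mul_cancel, h.one]
    exact one_ne_zero
  have hZ : pW π g x hxg - 1 = 0 := by
    refine (h.pieceDatum L hP hs (h.exists_zero_of_not_bad L hs hbad)).eq_zero_of_fixed
      (not_lt.mp fun hlt => hbad ⟨hs, hlt⟩) (fun y => ?_) ?_ fun w hw => ?_
    · refine Commute.sub_left (LinearMap.ext fun v => Subtype.ext ?_) (Commute.one_left _)
      simp only [Module.End.mul_apply, pW_apply, pieceRep_apply]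
      have h1 : g ⁅x, (y : Γ)⁆ = 1 := h.pair_moved L hs le_rfl hx hfix y.2
      rw [← Module.End.mul_apply, ← map_mul, show x * (y : Γ) = ⁅x, (y : Γ)⁆ * ((y : Γ) * x) by
        simp [commutatorElement_def, mul_assoc]]
      simp only [map_mul, Module.End.mul_apply]
      have hv' := h.smul_mem_W L (hP.le_T y.2) (h.smul_mem_W L hx v.2)
      rw [hv' _ (by rw [h1]; exact one_ne_zero), h1, one_smul]
    · refine Commute.sub_left (LinearMap.ext fun v => Subtype.ext ?_) (Commute.one_left _)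
      simp only [Module.End.mul_apply, pW_apply, ← map_mul, hxs]
      simp only [← Module.End.mul_apply, ← map_mul, hxs]
    · rw [LinearMap.sub_apply, Module.End.one_apply, sub_eq_zero]
      exact Subtype.ext (htriv w w.2 (congrArg Subtype.val hw))
  refine h.eq_one_of_trivial L hx fun v hv => ?_
  have := LinearMap.congr_fun (sub_eq_zero.mp hZ) ⟨v, hv⟩
  exact congrArg Subtype.val this

/-- Trivial on the moved part and on fixed elements gives trivial on `T`. -/
theorem trivial_extend {γ : Γ} (hγ : γ • g = g)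
    (hY : ∀ u ∈ moved g s T, g (u⁻¹ * (γ * u * γ⁻¹)) ≠ 0)
    (hC : ∀ t ∈ T, s * t = t * s → g (t⁻¹ * (γ * t * γ⁻¹)) ≠ 0) {t : Γ} (ht : t ∈ T) :
    g (t⁻¹ * (γ * t * γ⁻¹)) ≠ 0 := by
  haveI := Fact.mk L.qprime
  have hn : Subgroup.zpowers s ≤ Subgroup.normalizer (T : Set Γ) :=
    Subgroup.zpowers_le.mpr (mul_left_invariant fun _ hu => L.conj_mem s hu)
  have hcop : (Nat.card (Subgroup.zpowers s)).Coprime (Nat.card T) := by
    obtain ⟨l, hl⟩ := L.isPGroup_card
    rw [hl, Nat.card_zpowers]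
    exact Nat.Coprime.pow_right l (Nat.Coprime.coprime_dvd_left (orderOf_dvd_of_pow_eq_one L.pow)
      ((Nat.coprime_primes L.rprime L.qprime).mpr L.ne.symm))
  obtain ⟨n, hn', c, hc, rfl⟩ := Coprime.exists_commutator_mul_fixed hn hcop
    (Or.inl (Coprime.isSolvable_zpowers s)) ht
  obtain ⟨hcT, hcs⟩ := Subgroup.mem_inf.mp hc
  have hcs' : s * c = c * s :=
    Subgroup.mem_centralizer_iff.mp hcs s (Subgroup.mem_zpowers s)
  have h1 := hY n (Subgroup.mem_sup_right hn')
  rw [show (n * c)⁻¹ * (γ * (n * c) * γ⁻¹) =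
    (c⁻¹ * (n⁻¹ * (γ * n * γ⁻¹)) * c⁻¹⁻¹) * (c⁻¹ * (γ * c * γ⁻¹)) by group]
  have h2 : g (c⁻¹ * (n⁻¹ * (γ * n * γ⁻¹)) * c⁻¹⁻¹) ≠ 0 := by
    rw [h.apply_conj_rad L (inv_mem hcT)]; exact h1
  rw [h.mul _ _ h2 (hC c hcT hcs')]
  exact mul_ne_zero h2 (hC c hcT hcs')

/-- With a small moved part, centralising automorphisms of order prime to `r` are trivial. -/
theorem trivial_of_bad (hbad : Bad T s r g) {γ : Γ} (hγs : s * γ = γ * s) (hγ : γ • g = g)
    {e : ℕ} (he : γ ^ e = 1) (her : r.Coprime e) (he0 : 0 < e)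
    (hC : ∀ t ∈ T, s * t = t * s → g (t⁻¹ * (γ * t * γ⁻¹)) ≠ 0) {t : Γ} (ht : t ∈ T) :
    g (t⁻¹ * (γ * t * γ⁻¹)) ≠ 0 := by
  refine h.trivial_extend L hs hγ (fun u hu => ?_) hC ht
  have hP := h.moved_piece L hs
  have hinv : ∀ y ∈ moved g s T, γ * y * γ⁻¹ ∈ moved g s T :=
    fun _ hy => h.map_moved hγ hγs.symm (fun _ hv => L.conj_mem γ hv) hy
  by_cases hne : ∃ y ∈ moved g s T, g y = 0
  · haveI := h.nontrivial_W L
    haveI := h.radical_subgroupOf_normal L hP
    haveI := Fintype.ofFinite (↥(moved g s T) ⧸ (radical g).subgroupOf (moved g s T))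
    have := (h.pieceDatum L hP hs hne).trivial_of_small hbad.2 (h.pres_conjY L hγ hinv) he0
      (MulEquiv.ext fun y => Subtype.ext (by rw [conjY_pow, he]; simp)) her
      (MulEquiv.ext fun y => Subtype.ext (by
        simp only [MulAut.mul_apply, conjY_apply]
        rw [show s * (γ * (y : Γ) * γ⁻¹) * s⁻¹ = (s * γ) * y * (s * γ)⁻¹ by group, hγs]
        group)) ⟨u, hu⟩
    exact (h.mem_radical L).mp (Subgroup.mem_subgroupOf.mp this)
  · push Not at hne
    exact (h.mem_radical L).mp (mul_mem (inv_mem ((h.mem_radical L).mpr (hne u hu)))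
      ((h.mem_radical L).mpr (hne _ (hinv u hu))))

theorem inv_pair_of_power [Fact r.Prime] {γ : Γ} (hγs : s * γ = γ * s) (hγ : γ • g = g) {o e : ℕ}
    (ho : o.Prime) (hor : o ≠ r) (he : γ ^ e = 1) (heq : e.Coprime q) (hoe : o ∣ e)
    (hper : ∀ u ∈ moved g s T, g (u⁻¹ * (γ ^ o * u * (γ ^ o)⁻¹)) ≠ 0)
    (hnt : ∃ u ∈ moved g s T, g (u⁻¹ * (γ * u * γ⁻¹)) = 0)
    (htriv : ∀ v ∈ W π g, π s v = v → π γ v = v) :
    o = 2 ∧ (∀ u ∈ moved g s T, g (u * (γ * u * γ⁻¹)) ≠ 0) ∧
      ∀ τ : Γ, s * τ = τ * s → τ • g = g → τ ^ 2 = γ → False := by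
  have hP := h.moved_piece L hs
  have hinv : ∀ y ∈ moved g s T, γ * y * γ⁻¹ ∈ moved g s T :=
    fun _ hy => h.map_moved hγ hγs.symm (fun _ hv => L.conj_mem γ hv) hy
  have hoq : o.Coprime q := heq.coprime_dvd_left hoe
  have hsemi : ∀ z ∈ moved g γ (moved g s T), g (z⁻¹ * (γ * z * γ⁻¹)) ≠ 0 → g z ≠ 0 :=
    fun z hz hfix => hP.nondeg z (h.moved_le L hP.rad_le hinv hz) fun y hy =>
      h.pair_eq_one L hγ hP.le_T hinv ho.pos hoq hper hz hfix hy
  have hperp : ∀ z ∈ moved g γ (moved g s T),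
      (∀ y ∈ moved g γ (moved g s T), g ⁅z, y⁆ = 1) → g z ≠ 0 := by
    intro z hz hall
    refine hsemi z hz ?_
    have hzY := h.moved_le L hP.rad_le hinv hz
    have hzT := hP.le_T hzY
    refine hP.nondeg _ (mul_mem (inv_mem hzY) (hinv z hzY)) fun t ht => ?_
    have hn : γ ∈ Subgroup.normalizer (moved g s T : Set Γ) := mul_left_invariant hinv
    have ht' : γ⁻¹ * t * γ ∈ moved g s T := (Subgroup.mem_normalizer_iff''.mp hn t).mp ht
    have hu : ⁅γ⁻¹ * t * γ, γ⁆ ∈ moved g γ (moved g s T) :=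
      Subgroup.mem_sup_right (Subgroup.commutator_mem_commutator ht' (Subgroup.mem_zpowers γ))
    have e2 : g ⁅z, γ⁻¹ * t * γ⁆ * g ⁅z, t⁻¹⁆ = 1 := by
      rw [← h.pair_mul_right L hzT (hP.le_T ht') (inv_mem (hP.le_T ht)), ← hall _ hu]
      congr 2
      simp only [commutatorElement_def]; group
    have e3 : g ⁅z, γ⁻¹ * t * γ⁆ = g ⁅γ * z * γ⁻¹, t⁆ := by
      rw [← pair_conj hγ z (γ⁻¹ * t * γ)]
      congr 2
      group
    rw [e3] at e2
    have e5 : g ⁅γ * z * γ⁻¹, t⁆ = g ⁅z, t⁆ :=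
      mul_right_cancel₀ (h.comm_ne_zero L hzT (inv_mem (hP.le_T ht)))
        (e2.trans (h.pair_inv_right L hzT (hP.le_T ht)).symm)
    rw [h.pair_mul_left L (inv_mem hzT) (L.conj_mem γ hzT) (hP.le_T ht), e5,
      ← h.pair_mul_left L (inv_mem hzT) hzT (hP.le_T ht), inv_mul_cancel, h.pair_one_left L]
  have hle1 := h.moved_le L hP.rad_le hinv
  have hinv1s : ∀ y ∈ moved g γ (moved g s T), s * y * s⁻¹ ∈ moved g γ (moved g s T) :=
    fun _ hy => h.map_moved hs hγs hP.inv hy
  have hinv1 : ∀ y ∈ moved g γ (moved g s T), γ * y * γ⁻¹ ∈ moved g γ (moved g s T) :=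
    fun _ hy => h.map_moved hγ rfl hinv hy
  have hP1 : Piece T s g (moved g γ (moved g s T)) :=
    ⟨hle1.trans hP.le_T, le_sup_left, hinv1s, hperp, fun z hz => hP.semi z (hle1 hz)⟩
  have hne1 : ∃ y ∈ moved g γ (moved g s T), g y = 0 := by
    obtain ⟨u, hu, hu0⟩ := hnt
    refine ⟨⁅u⁻¹, γ⁆, Subgroup.mem_sup_right (Subgroup.commutator_mem_commutator (inv_mem hu)
      (Subgroup.mem_zpowers γ)), ?_⟩
    rw [show ⁅u⁻¹, γ⁆ = u⁻¹ * (γ * u * γ⁻¹) by simp [commutatorElement_def, mul_assoc]]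
    exact hu0
  haveI := h.nontrivial_W L
  haveI := h.radical_subgroupOf_normal L hP1
  haveI := Fintype.ofFinite
    (↥(moved g γ (moved g s T)) ⧸ (radical g).subgroupOf (moved g γ (moved g s T)))
  have hd := h.pieceDatum L hP1 hs hne1
  have hf : Fixed.Fpf (h.pieceChar L (moved g γ (moved g s T))) (conjY hP1.inv)
      (h.pieceRep L hP1) (pW π g s hs) r (conjY hinv1) o e (pW π g γ hγ) := by
    refine ⟨h.pres_conjY L hγ hinv1, ho, hor, fun y => ?_, fun i hi hio y hy => ?_,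
      MulEquiv.ext fun y => Subtype.ext (by rw [conjY_pow, he]; simp), ?_,
      MulEquiv.ext fun y => Subtype.ext (by
        simp only [MulAut.mul_apply, conjY_apply]
        rw [show s * (γ * (y : Γ) * γ⁻¹) * s⁻¹ = (s * γ) * y * (s * γ)⁻¹ by group, hγs]
        group), h.impl_conjY L hP1 hγ hinv1, LinearMap.ext fun v => Subtype.ext ?_,
      fun w hw => Subtype.ext (htriv w w.2 (congrArg Subtype.val hw))⟩
    · show _ ∈ (radical g).subgroupOf _
      rw [Subgroup.mem_subgroupOf]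
      refine (h.mem_radical L).mpr ?_
      simpa [conjY_pow] using hper y (hle1 y.2)
    · have hy' := (h.mem_radical L).mp (Subgroup.mem_subgroupOf.mp hy)
      simp only [Subgroup.coe_mul, Subgroup.coe_inv, conjY_pow] at hy'
      rw [Subgroup.mem_subgroupOf]
      refine (h.mem_radical L).mpr (hsemi y y.2 ?_)
      have hig : γ ^ i • g = g := by
        clear hy hy' hi hio
        induction i with
        | zero => rw [pow_zero, one_smul]
        | succ i ih => rw [pow_succ, mul_smul, hγ, ih]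
      obtain ⟨j, -, hj⟩ := Nat.exists_mul_mod_eq_one_of_coprime
        ((ho.coprime_iff_not_dvd.mpr fun hd => absurd (Nat.le_of_dvd hi hd) (not_le.mpr hio)).symm)
        ho.one_lt
      have h1 := h.cong_pow L hig hy' j
      have hsplit : i * j = 1 + o * (i * j / o) := by
        conv_lhs => rw [← Nat.mod_add_div (i * j) o, hj]
      rw [← pow_mul, hsplit] at h1
      have hoo : ∀ l : ℕ, g (((y : Γ))⁻¹ * (γ ^ (o * l) * y * (γ ^ (o * l))⁻¹)) ≠ 0 := fun l => by
        rw [pow_mul]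
        exact h.cong_pow L (pow_fixed hγ o) (hper y (hle1 y.2)) l
      refine h.cong_trans L h1 (h.cong_symm L ?_)
      have := cong_conj hγ (hoo (i * j / o))
      simpa [pow_add, mul_assoc] using this
    · haveI := Fact.mk L.qprime
      obtain ⟨l, hl⟩ := IsPGroup.iff_card.mp (L.pgroup.to_le hP1.le_T)
      rw [hl]
      exact Nat.Coprime.pow_right l heq
    · simp only [Module.End.mul_apply, pW_apply]
      simp only [← Module.End.mul_apply, ← map_mul, hγs]
  obtain ⟨ho2, hcentral⟩ := hf.main hd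
  have hfixA : ∀ z ∈ moved g s T, g (z⁻¹ * (γ * z * γ⁻¹)) ≠ 0 → g z ≠ 0 := by
    intro z hz hzfix
    refine hP.semi z hz ?_
    have hzT := hP.le_T hz
    have hc := hcentral (pW π g z (h.smul_eq_self L hzT)) fun y => by
      refine LinearMap.ext fun v => Subtype.ext ?_
      simp only [Module.End.mul_apply, pW_apply, pieceRep_apply]
      have h1 : g ⁅z, (y : Γ)⁆ = 1 := h.pair_moved L hγ hP.le_T hzT hzfix y.2
      rw [← Module.End.mul_apply, ← map_mul, show z * (y : Γ) = ⁅z, (y : Γ)⁆ * ((y : Γ) * z) by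
        simp [commutatorElement_def, mul_assoc]]
      simp only [map_mul, Module.End.mul_apply]
      have hv' := h.smul_mem_W L (hP1.le_T y.2) (h.smul_mem_W L hzT v.2)
      rw [hv' _ (by rw [h1]; exact one_ne_zero), h1, one_smul]
    rw [h.eq_one_of_trivial L (mul_mem (inv_mem hzT) (L.conj_mem s hzT)) fun v hv => ?_]
    · exact one_ne_zero
    have hv' : π s⁻¹ v ∈ W π g := by
      have hsg : s⁻¹ • g = g := by
        conv_lhs => rw [← hs, inv_smul_smul]
      exact hsg ▸ pi_mem_W_smul hv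
    have h2 : π z (π s (π s⁻¹ v)) = π s (π z (π s⁻¹ v)) :=
      congrArg Subtype.val (LinearMap.congr_fun hc.eq ⟨π s⁻¹ v, hv'⟩)
    rw [pi_apply_inv_apply] at h2
    simp only [map_mul, Module.End.mul_apply]
    rw [← h2, pi_inv_apply_apply]
  have hinvert : ∀ u ∈ moved g s T, g (u * (γ * u * γ⁻¹)) ≠ 0 := by
    intro u hu
    refine hfixA _ (mul_mem hu (hinv u hu)) ?_
    set d := γ * u * γ⁻¹ with hd'
    have hdT : d ∈ T := L.conj_mem γ (hP.le_T hu)
    have h2 := cong_conj (γ := d) (h.smul_eq_self L hdT) (x := u) (y := γ ^ o * u * (γ ^ o)⁻¹)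
      (hper u hu)
    have huT := hP.le_T hu
    have e1 : g ((u * d)⁻¹ * (d * u)) ≠ 0 := by
      rw [show (u * d)⁻¹ * (d * u) = ⁅d⁻¹, u⁻¹⁆ by simp [commutatorElement_def, mul_assoc]]
      exact h.comm_ne_zero L (inv_mem hdT) (inv_mem huT)
    refine h.cong_trans L e1 ?_
    rw [show γ * (u * d) * γ⁻¹ = d * (γ ^ o * u * (γ ^ o)⁻¹) by
      rw [ho2, hd', pow_two]; group]
    rw [show (d * u)⁻¹ * (d * (γ ^ o * u * (γ ^ o)⁻¹)) = u⁻¹ * (γ ^ o * u * (γ ^ o)⁻¹) by group]
    exact hper u hu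
  refine ⟨ho2, hinvert, fun τ hτs hτg hτ2 => ?_⟩
  have hτγ : τ * γ = γ * τ := by rw [← hτ2, ← pow_succ', ← pow_succ]
  have hinvτ : ∀ y ∈ moved g γ (moved g s T), τ * y * τ⁻¹ ∈ moved g γ (moved g s T) := fun _ hy =>
    h.map_moved hτg hτγ (fun _ hu => h.map_moved hτg hτs.symm (fun _ hv => L.conj_mem τ hv) hu) hy
  refine hf.no_sqrt hd (fun y => ?_) (t := conjY hinvτ)
    (MulEquiv.ext fun y => Subtype.ext (by rw [conjY_pow, conjY_apply, hτ2]))
    (h.pres_conjY L hτg hinvτ)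
    (MulEquiv.ext fun y => Subtype.ext (by
      simp only [MulAut.mul_apply, conjY_apply]
      rw [show s * (τ * (y : Γ) * τ⁻¹) * s⁻¹ = (s * τ) * y * (s * τ)⁻¹ by group, hτs]
      group))
  show _ ∈ (radical g).subgroupOf _
  rw [Subgroup.mem_subgroupOf]
  have h1 := (radical g).inv_mem ((h.mem_radical L).mpr (hinvert y (hle1 y.2)))
  simpa [conjY_apply, mul_assoc] using h1

/-- Centralising automorphisms trivial on fixed vectors are trivial or invert the moved part. -/
theorem trivial_or_invert {γ : Γ} (hγs : s * γ = γ * s) (hγ : γ • g = g) {e : ℕ} (he0 : 0 < e)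
    (he : γ ^ e = 1) (her : r.Coprime e) (heq : e.Coprime q)
    (htriv : ∀ v ∈ W π g, π s v = v → π γ v = v)
    (hC : ∀ t ∈ T, s * t = t * s → g (t⁻¹ * (γ * t * γ⁻¹)) ≠ 0) :
    (∀ t ∈ T, g (t⁻¹ * (γ * t * γ⁻¹)) ≠ 0) ∨
      ∀ u ∈ moved g s T, g (u * (γ * u * γ⁻¹)) ≠ 0 := by
  classical
  haveI := Fact.mk L.rprime
  have hgp : ∀ i : ℕ, γ ^ i • g = g := fun i => by
    induction i with
    | zero => rw [pow_zero, one_smul]
    | succ i ih => rw [pow_succ, mul_smul, hγ, ih]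
  have hex : ∃ m, 0 < m ∧ ∀ u ∈ moved g s T, g (u⁻¹ * (γ ^ m * u * (γ ^ m)⁻¹)) ≠ 0 :=
    ⟨e, he0, fun u _ => by rw [he]; simp [h.one]⟩
  obtain ⟨hm0, hm⟩ := Nat.find_spec hex
  have hmin : ∀ i, 0 < i → i < Nat.find hex →
      ∃ u ∈ moved g s T, g (u⁻¹ * (γ ^ i * u * (γ ^ i)⁻¹)) = 0 := by
    intro i hi hlt
    have := Nat.find_min hex hlt
    push Not at this
    exact this hi
  set m := Nat.find hex
  have hme : m ∣ e := by
    by_contra hnd
    obtain ⟨u, hu, hu0⟩ := hmin (e % m)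
      (Nat.pos_of_ne_zero fun h0 => hnd (Nat.dvd_of_mod_eq_zero h0)) (Nat.mod_lt e hm0)
    have h1 := h.cong_pow L (hgp m) (hm u hu) (e / m)
    rw [← pow_mul] at h1
    have h2 := cong_conj (hgp (e % m)) h1
    have h3 : g ((γ ^ (e % m) * u * (γ ^ (e % m))⁻¹)⁻¹ * u) ≠ 0 := by
      have e' : γ ^ (e % m) * (γ ^ (m * (e / m)) * u * (γ ^ (m * (e / m)))⁻¹) * (γ ^ (e % m))⁻¹ = u := by
        rw [show γ ^ (e % m) * (γ ^ (m * (e / m)) * u * (γ ^ (m * (e / m)))⁻¹) * (γ ^ (e % m))⁻¹ =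
          (γ ^ (e % m) * γ ^ (m * (e / m))) * u * (γ ^ (e % m) * γ ^ (m * (e / m)))⁻¹ by group,
          ← pow_add, Nat.mod_add_div, he]
        simp
      rwa [e'] at h2
    exact h.cong_symm L h3 hu0
  by_cases hm1 : m = 1
  · left
    intro t ht
    refine h.trivial_extend L hs hγ (fun u hu => ?_) hC ht
    have := hm u hu
    rwa [hm1, pow_one] at this
  right
  have key : ∀ o, o.Prime → o ∣ m → o = 2 ∧
      (∀ u ∈ moved g s T, g (u * (γ ^ (m / o) * u * (γ ^ (m / o))⁻¹)) ≠ 0) ∧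
      ∀ τ : Γ, s * τ = τ * s → τ • g = g → τ ^ 2 = γ ^ (m / o) → False := by
    intro o ho hom
    have hdiv : 0 < m / o := Nat.div_pos (Nat.le_of_dvd hm0 hom) ho.pos
    have hpowv : ∀ i : ℕ, ∀ v ∈ W π g, π s v = v → π (γ ^ i) v = v := by
      intro i
      induction i with
      | zero => intro v _ _; simp
      | succ i ih => intro v hv hsv; rw [pow_succ, map_mul, Module.End.mul_apply, htriv v hv hsv, ih v hv hsv]
    refine h.inv_pair_of_power L hs (γ := γ ^ (m / o))
      ((show Commute s γ from hγs).pow_right _).eq (hgp _) ho ?_ (e := e)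
      (by rw [← pow_mul, Nat.mul_comm, pow_mul, he, one_pow]) heq (hom.trans hme)
      (fun u hu => by rw [← pow_mul, Nat.div_mul_cancel hom]; exact hm u hu)
      (hmin _ hdiv (Nat.div_lt_self hm0 ho.one_lt)) (hpowv _)
    rintro rfl
    exact L.rprime.one_lt.ne' (her.eq_one_of_dvd (hom.trans hme))
  have hpow2 : ∀ o, o.Prime → o ∣ m → o = 2 := fun o ho hom => (key o ho hom).1
  have h2m : 2 ∣ m := by
    obtain ⟨o, ho, hom⟩ := Nat.exists_prime_and_dvd hm1
    rwa [hpow2 o ho hom] at hom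
  obtain ⟨-, hinvert, hsq⟩ := key 2 Nat.prime_two h2m
  by_cases h4 : 2 ∣ m / 2
  · refine absurd (hsq (γ ^ (m / 2 / 2)) ((show Commute s γ from hγs).pow_right _).eq (hgp _) ?_) id
    rw [← pow_mul, Nat.div_mul_cancel h4]
  · have hm2 : m = 2 := by
      by_contra hne
      have : m / 2 ≠ 1 := by
        intro h1
        have := Nat.div_mul_cancel h2m
        omega
      obtain ⟨o, ho, hod⟩ := Nat.exists_prime_and_dvd this
      exact h4 (hpow2 o ho (hod.trans (Nat.div_dvd_of_dvd h2m)) ▸ hod)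
    rwa [hm2, Nat.div_self (by norm_num), pow_one] at hinvert

end IsPoint

end Cfsg.Agent.Lib.PrimeFitting.Points
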