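/-
Groups fixing a small fixed point: their commutators with `s` act trivially there.
-/
import Cfsg.Agent.Lib.PrimeFitting.Pointwise
import Cfsg.Agent.Lib.PGroups.Frattini
import Mathlib.LinearAlgebra.Matrix.GeneralLinearGroup.Defs
import Mathlib.LinearAlgebra.Matrix.ToLin
import Mathlib.FieldTheory.IsAlgClosed.AlgebraicClosure
import Mathlib.FieldTheory.Finite.Basic

set_option autoImplicit false
set_option linter.style.haveILetI false
set_option linter.unusedSectionVars false

open scoped commutatorElement Matrix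

namespace Cfsg.Agent.Lib.PrimeFitting.Points

variable {Γ : Type*} [Group Γ] {k : Type*} [Field k] {V : Type*} [AddCommGroup V] [Module k V]
  {π : Γ →* Module.End k V} {T : Subgroup Γ} {q r : ℕ} {s : Γ} {g : Pt Γ k}

open Classical in
/-- The inverse character. -/
noncomputable def invPt (g : Pt Γ k) : Pt Γ k := fun x => (g x)⁻¹

theorem invPt_apply (g : Pt Γ k) (x : Γ) : invPt g x = (g x)⁻¹ := rfl

theorem invPt_smul (γ : Γ) (g : Pt Γ k) : invPt (γ • g) = γ • invPt g := rfl

theorem invPt_ne_zero {g : Pt Γ k} {x : Γ} : invPt g x ≠ 0 ↔ g x ≠ 0 := by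
  rw [invPt_apply, Ne, inv_eq_zero]

section Linear

variable {d : ℕ}

/-- The reduction of a matrix group to a linear representation over a larger field. -/
noncomputable def linRep (G : Subgroup (GL (Fin d) (ZMod 2))) :
    G →* Module.End (AlgebraicClosure (ZMod 2)) (Fin d → AlgebraicClosure (ZMod 2)) where
  toFun U := Matrix.toLin' (((U : GL (Fin d) (ZMod 2)) : Matrix (Fin d) (Fin d) (ZMod 2)).map
    (algebraMap (ZMod 2) (AlgebraicClosure (ZMod 2))))
  map_one' := by
    rw [Subgroup.coe_one, Units.val_one,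
      Matrix.map_one _ (map_zero _) (map_one _), Matrix.toLin'_one]
    rfl
  map_mul' U U' := by
    rw [Subgroup.coe_mul, Units.val_mul, Matrix.map_mul, Matrix.toLin'_mul]
    rfl

theorem linRep_apply (G : Subgroup (GL (Fin d) (ZMod 2))) (U : G) :
    linRep G U = Matrix.toLin' (((U : GL (Fin d) (ZMod 2)) : Matrix (Fin d) (Fin d) (ZMod 2)).map
      (algebraMap (ZMod 2) (AlgebraicClosure (ZMod 2)))) := rfl

theorem linRep_injective (G : Subgroup (GL (Fin d) (ZMod 2))) : Function.Injective (linRep G) := by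
  intro U U' h
  rw [linRep_apply, linRep_apply] at h
  exact Subtype.ext (Units.ext (Matrix.map_injective
    (algebraMap (ZMod 2) (AlgebraicClosure (ZMod 2))).injective (Matrix.toLin'.injective h)))

theorem natCast_ne_zero_of_odd {n : ℕ} (hn : ¬ 2 ∣ n) : (n : AlgebraicClosure (ZMod 2)) ≠ 0 :=
  fun h => hn ((CharP.cast_eq_zero_iff (AlgebraicClosure (ZMod 2)) 2 n).mp h)

theorem finrank_range_map_le (A : Matrix (Fin d) (Fin d) (ZMod 2)) :
    Module.finrank (AlgebraicClosure (ZMod 2))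
        (LinearMap.range (Matrix.toLin' (A.map (algebraMap (ZMod 2) (AlgebraicClosure (ZMod 2)))))) ≤
      Module.finrank (ZMod 2) (LinearMap.range (Matrix.toLin' A)) := by
  set b := Module.finBasis (ZMod 2) (LinearMap.range (Matrix.toLin' A))
  let v : Fin (Module.finrank (ZMod 2) (LinearMap.range (Matrix.toLin' A))) →
      (Fin d → AlgebraicClosure (ZMod 2)) := fun j i =>
    algebraMap (ZMod 2) (AlgebraicClosure (ZMod 2)) ((b j : Fin d → ZMod 2) i)
  refine (Submodule.finrank_mono (t := Submodule.span (AlgebraicClosure (ZMod 2)) (Set.range v))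
    ?_).trans ((finrank_range_le_card v).trans (Fintype.card_fin _).le)
  rw [Matrix.range_toLin', Submodule.span_le]
  rintro _ ⟨l, rfl⟩
  have hmem : A.col l ∈ LinearMap.range (Matrix.toLin' A) := by
    rw [Matrix.range_toLin']
    exact Submodule.subset_span ⟨l, rfl⟩
  have e : (A.map (algebraMap (ZMod 2) (AlgebraicClosure (ZMod 2)))).col l =
      ∑ j, algebraMap (ZMod 2) (AlgebraicClosure (ZMod 2)) (b.repr ⟨A.col l, hmem⟩ j) • v j := by
    funext i
    have h := congrArg (fun w : LinearMap.range (Matrix.toLin' A) => (w : Fin d → ZMod 2) i)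
      (b.sum_repr ⟨A.col l, hmem⟩)
    simp only [Submodule.coe_sum, Finset.sum_apply, Submodule.coe_smul, Pi.smul_apply,
      smul_eq_mul] at h
    simp only [Matrix.col_apply, Matrix.map_apply, Finset.sum_apply, Pi.smul_apply, smul_eq_mul, v,
      ← map_mul, ← map_sum]
    exact congrArg _ (by simpa [Matrix.col_apply] using h.symm)
  rw [e]
  exact Submodule.sum_mem _ fun j _ => Submodule.smul_mem _ _ (Submodule.subset_span ⟨j, rfl⟩)

theorem sq_lt_four_mul_two_pow : ∀ n : ℕ, n * n < 4 * 2 ^ n := by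
  intro n
  induction n with
  | zero => simp
  | succ n ih =>
    have h2 : 2 * n + 1 ≤ 4 * 2 ^ n := by
      have := Nat.lt_two_pow_self (n := n)
      omega
    rw [pow_succ]
    nlinarith

variable [Finite Γ] [IsAlgClosed k] [FiniteDimensional k V]

/-- An eigenvector for each root of unity on the orbit of a moved or large point. -/
theorem IsPoint.exists_orbit_eigen (h : IsPoint π T g) (L : Level π T q s r)
    (hbad : ¬ Bad T s r g) {ζ : k} (hζ : ζ ^ r = 1) :
    ∃ u : V, u ≠ 0 ∧ π s u = ζ • u ∧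
      ∀ (g' : Pt Γ k) (h' : IsPoint π T g'), (∀ i < r, g' ≠ s ^ i • g) → h'.proj L u = 0 := by
  by_cases hs : s • g = g
  · obtain ⟨v, hv, hv0, hvs⟩ := h.exists_eigen L hs hbad hζ
    refine ⟨v, hv0, hvs, fun g' h' hne => h'.proj_eq_zero L h (fun e => hne 0 L.rprime.pos ?_) hv⟩
    rw [pow_zero, one_smul, e]
  obtain ⟨v, hv0, hv⟩ := h.exists_vec
  have hζ0 : ζ ≠ 0 := fun e => by
    rw [e, zero_pow L.rprime.ne_zero] at hζ
    exact zero_ne_one hζ
  refine ⟨∑ i ∈ Finset.range r, (ζ ^ i)⁻¹ • π (s ^ i) v, fun h0 => hv0 ?_, ?_, fun g' h' hne => ?_⟩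
  · have h1 := congrArg (h.proj L) h0
    rw [map_sum, map_zero, Finset.sum_eq_single 0] at h1
    · simpa [h.proj_eq_self L (mem_W.mpr hv)] using h1
    · intro i hi hi0
      rw [map_smul, h.proj_eq_zero L (L.isPoint_smul h _) (fun e => hs ?_)
        (pi_mem_W_smul (mem_W.mpr hv)), smul_zero]
      obtain ⟨j, -, hj⟩ := Nat.exists_mul_mod_eq_one_of_coprime
        ((L.rprime.coprime_iff_not_dvd.mpr fun hd => absurd (Nat.le_of_dvd (Nat.pos_of_ne_zero hi0) hd)
          (not_le.mpr (Finset.mem_range.mp hi))).symm) L.rprime.one_lt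
      have := pow_fixed e j
      rwa [← pow_mul, pow_eq_pow_mod (i * j) L.pow, hj, pow_one] at this
    · intro h'; exact absurd (Finset.mem_range.mpr L.rprime.pos) h'
  · rw [map_sum, Finset.smul_sum]
    have hstep : ∀ i, π s ((ζ ^ i)⁻¹ • π (s ^ i) v) = ζ • ((ζ ^ (i + 1))⁻¹ • π (s ^ (i + 1)) v) := by
      intro i
      rw [map_smul, ← Module.End.mul_apply, ← map_mul, ← pow_succ', smul_smul, pow_succ ζ, mul_inv,
        mul_comm ζ, mul_assoc, inv_mul_cancel₀ hζ0, mul_one]
    simp only [hstep, ← Finset.smul_sum]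
    congr 1
    have h1 := Finset.sum_range_succ' (fun i => (ζ ^ i)⁻¹ • π (s ^ i) v) r
    rw [Finset.sum_range_succ, hζ, L.pow, pow_zero, pow_zero] at h1
    exact add_right_cancel h1.symm
  · rw [map_sum]
    refine Finset.sum_eq_zero fun i hi => ?_
    rw [map_smul, h'.proj_eq_zero L (L.isPoint_smul h _) (fun e => hne i (Finset.mem_range.mp hi) e.symm)
      (pi_mem_W_smul (mem_W.mpr hv)), smul_zero]

set_option maxHeartbeats 2000000 in
omit [Finite Γ] [IsAlgClosed k] [FiniteDimensional k V] in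
/-- The heart of the small case over the field of two elements. -/
theorem commute_of_small {G : Subgroup (GL (Fin d) (ZMod 2))} {M : Matrix (Fin d) (Fin d) (ZMod 2)}
    (hM : IsUnit M)
    (hform : ∀ U : G, ((U : GL (Fin d) (ZMod 2)) : Matrix (Fin d) (Fin d) (ZMod 2))ᵀ * M *
      ((U : GL (Fin d) (ZMod 2)) : Matrix (Fin d) (Fin d) (ZMod 2)) = M)
    {H : Subgroup G} {s : G} {p : ℕ} (hp : p.Prime) (hp2 : p ≠ 2) (hr : r.Prime) (hr2 : r ≠ 2)
    (hpr : p ≠ r) (hH : IsPGroup p H) (hs : s ^ r = 1) (hn : ∀ h ∈ H, s * h * s⁻¹ ∈ H)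
    (hE : 2 ^ Module.finrank (ZMod 2) (LinearMap.range (Matrix.toLin'
      (((s : GL (Fin d) (ZMod 2)) : Matrix (Fin d) (Fin d) (ZMod 2)) - 1))) = (r - 1) * (r - 1)) :
    ∀ h ∈ H, s * h = h * s := by
  classical
  by_contra hcon
  push Not at hcon
  haveI := Fact.mk hp
  haveI := Fact.mk hr
  obtain ⟨H0, ⟨hH0H, hsN, hH0⟩, hmin⟩ :=
    (Set.toFinite {H' : Subgroup G | H' ≤ H ∧ s ∈ Subgroup.normalizer (H' : Set G) ∧
      ∃ h ∈ H', s * h ≠ h * s}).exists_minimal ⟨H, le_rfl, mul_left_invariant hn, hcon⟩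
  have hH0p : IsPGroup p H0 := hH.to_le hH0H
  have hzN : Subgroup.zpowers s ≤ Subgroup.normalizer (H0 : Set G) := Subgroup.zpowers_le.mpr hsN
  have hproper : ∀ K : Subgroup G, K ≤ H0 → K ≠ H0 → s ∈ Subgroup.normalizer (K : Set G) →
      ∀ h ∈ K, s * h = h * s := by
    intro K hK hne hsK h hh
    by_contra hne'
    exact hne (le_antisymm hK (hmin ⟨hK.trans hH0H, hsK, h, hh, hne'⟩ hK))
  have hcop : (Nat.card (Subgroup.zpowers s)).Coprime (Nat.card H0) := by
    obtain ⟨l, hl⟩ := IsPGroup.iff_card.mp hH0p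
    rw [hl, Nat.card_zpowers]
    exact Nat.Coprime.pow_right l (Nat.Coprime.coprime_dvd_left (orderOf_dvd_of_pow_eq_one hs)
      ((Nat.coprime_primes hr hp).mpr hpr.symm))
  have hK : ⁅H0, Subgroup.zpowers s⁆ = H0 := by
    by_contra hne
    have hc := hproper _ (Coprime.commutator_le_of_le_normalizer hzN) hne
      (Coprime.right_le_normalizer_commutator H0 _ (Subgroup.mem_zpowers s))
    have h2 : ⁅⁅H0, Subgroup.zpowers s⁆, Subgroup.zpowers s⁆ = ⊥ := by
      rw [Subgroup.commutator_eq_bot_iff_le_centralizer]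
      intro x hx
      rw [Subgroup.mem_centralizer_iff]
      intro y hy
      obtain ⟨j, rfl⟩ := Subgroup.mem_zpowers_iff.mp hy
      exact (Commute.zpow_left (hc x hx) j).eq
    rw [Coprime.commutator_commutator_eq hzN hcop (Or.inl (Coprime.isSolvable_zpowers s)),
      Subgroup.commutator_eq_bot_iff_le_centralizer] at h2
    obtain ⟨h, hh, hne'⟩ := hH0
    exact hne' (Subgroup.mem_centralizer_iff.mp (h2 hh) s (Subgroup.mem_zpowers s))
  set Φ := (frattini H0).map H0.subtype with hΦdef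
  have hΦle : Φ ≤ H0 := Subgroup.map_subtype_le _
  have hΦne : Φ ≠ H0 := by
    intro e
    have htop : frattini H0 = ⊤ := by
      refine Subgroup.map_injective H0.subtype_injective ?_
      rw [← MonoidHom.range_eq_map, Subgroup.range_subtype]
      exact e
    obtain ⟨h, hh, hne'⟩ := hH0
    rcases (eq_top_or_exists_le_coatom (⊥ : Subgroup H0)) with hbot | ⟨M', hM', -⟩
    · have : (⟨h, hh⟩ : H0) ∈ (⊥ : Subgroup H0) := hbot ▸ Subgroup.mem_top _
      have h1 : h = 1 := congrArg Subtype.val (Subgroup.mem_bot.mp this)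
      exact hne' (by rw [h1, mul_one, one_mul])
    · exact hM'.1 (top_unique (htop ▸ frattini_le_coatom hM'))
  have hΦn : ∀ γ ∈ Subgroup.normalizer (H0 : Set G), ∀ x ∈ Φ, γ * x * γ⁻¹ ∈ Φ := by
    rintro γ hγ _ ⟨⟨y, hy⟩, hyΦ, rfl⟩
    exact ⟨⟨γ * y * γ⁻¹, (Subgroup.mem_normalizer_iff.mp hγ y).mp hy⟩,
      Subgroup.characteristic_iff_map_le.mp inferInstance
        (H0.normalizerMonoidHom ⟨γ, hγ⟩) ⟨⟨y, hy⟩, hyΦ, rfl⟩, rfl⟩
  have hΦs : ∀ x ∈ Φ, s * x = x * s :=
    hproper Φ hΦle hΦne (mul_left_invariant fun x hx => hΦn s hsN x hx)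
  have hcent : ∀ h ∈ H0, ∀ x ∈ Φ, h * x = x * h := by
    have : ⁅H0, Subgroup.zpowers s⁆ ≤ Subgroup.centralizer (Φ : Set G) := by
      rw [Subgroup.commutator_le]
      intro h hh δ hδ
      obtain ⟨j, rfl⟩ := Subgroup.mem_zpowers_iff.mp hδ
      rw [Subgroup.mem_centralizer_iff]
      intro x hx
      have hx' : h⁻¹ * x * h ∈ Φ := by
        simpa using hΦn h⁻¹ (Subgroup.le_normalizer (inv_mem hh)) x hx
      have e1 : s ^ j * (h⁻¹ * x * h) = (h⁻¹ * x * h) * s ^ j :=
        (Commute.zpow_left (hΦs _ hx') j).eq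
      have e2 : s ^ j * x = x * s ^ j := (Commute.zpow_left (hΦs x hx) j).eq
      simp only [commutatorElement_def]
      calc x * (h * s ^ j * h⁻¹ * (s ^ j)⁻¹) = h * ((h⁻¹ * x * h) * s ^ j) * h⁻¹ * (s ^ j)⁻¹ := by
            group
        _ = h * s ^ j * h⁻¹ * (x * (s ^ j) * (s ^ j)⁻¹ ) * (h * h⁻¹) * (s ^ j)⁻¹ := by
            rw [← e1]; group
        _ = h * s ^ j * h⁻¹ * (s ^ j)⁻¹ * (s ^ j * x) * (s ^ j)⁻¹ := by group
        _ = h * s ^ j * h⁻¹ * (s ^ j)⁻¹ * x := by rw [e2]; group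
    intro h hh x hx
    rw [hK] at this
    exact (Subgroup.mem_centralizer_iff.mp (this hh) x hx).symm
  -- the level
  set N := Subgroup.normalizer (H0 : Set G) with hNdef
  set T' := H0.subgroupOf N with hT'
  set s' : N := ⟨s, hsN⟩
  set ρ := (linRep G).comp N.subtype with hρ
  have hT'p : IsPGroup p T' := hH0p.of_equiv (Subgroup.subgroupOfEquivOfLe Subgroup.le_normalizer).symm
  have hpow : ∀ a ∈ H0, a ^ p ∈ Φ := fun a ha =>
    ⟨_, Cfsg.Agent.Lib.PGroups.pow_mem_frattini hH0p ⟨a, ha⟩, rfl⟩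
  have hcm : ∀ a ∈ H0, ∀ b ∈ H0, ⁅a, b⁆ ∈ Φ := fun a ha b hb =>
    ⟨_, Cfsg.Agent.Lib.PGroups.commutatorElement_mem_frattini hH0p ⟨a, ha⟩ ⟨b, hb⟩, rfl⟩
  have hodd2 : ∀ {n : ℕ}, n.Prime → n ≠ 2 → ¬ 2 ∣ n := fun hn hn2 h =>
    hn2 ((Nat.prime_dvd_prime_iff_eq Nat.prime_two hn).mp h).symm
  have L : Level ρ T' p s' r :=
    { normal := inferInstance
      qprime := hp
      pgroup := hT'p
      qcast := natCast_ne_zero_of_odd (hodd2 hp hp2)
      rprime := hr
      rcast := natCast_ne_zero_of_odd (hodd2 hr hr2)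
      ne := hpr
      pow := Subtype.ext hs
      nice := fun a ha b hb c hc => by
        have : ⁅⁅a, b⁆, c⁆ = 1 := Subtype.ext (by
          have hx := hcm a ha b hb
          show ⁅⁅(a : G), (b : G)⁆, (c : G)⁆ = 1
          rw [commutatorElement_eq_one_iff_mul_comm]
          exact (hcent c hc _ hx).symm)
        rw [this, map_one]
      expo := fun a ha b hb => by
        have : ⁅a ^ p, b⁆ = 1 := Subtype.ext (by
          show ⁅(a : G) ^ p, (b : G)⁆ = 1
          rw [commutatorElement_eq_one_iff_mul_comm]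
          exact (hcent b hb _ (hpow a ha)).symm)
        rw [this, map_one] }
  -- some point is moved or large
  have hTle : T' ≤ ⁅T', Subgroup.zpowers s'⁆ := by
    intro x hx
    have h1 : (x : G) ∈ ⁅T', Subgroup.zpowers s'⁆.map N.subtype := by
      rw [Subgroup.map_commutator, MonoidHom.map_zpowers, hT', Subgroup.subgroupOf_map_subtype,
        inf_eq_left.mpr Subgroup.le_normalizer]
      exact hK.symm ▸ hx
    exact (Subgroup.mem_map_iff_mem N.subtype_injective).mp h1
  obtain ⟨g, hg, hgb⟩ : ∃ g, IsPoint ρ T' g ∧ ¬ Bad T' s' r g := by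
    by_contra hall
    push Not at hall
    obtain ⟨h, hh, hne'⟩ := hH0
    refine hne' ?_
    have h1 : ρ ⟨h, Subgroup.le_normalizer hh⟩ = 1 := by
      refine eq_of_forall_W L fun g hg v hv => ?_
      obtain ⟨hsg, hsmall⟩ := hall g hg
      have hidx : (radical g).relIndex (moved g s' T') = 1 := by
        refine (hg.small_dichotomy L hsg hsmall).resolve_right fun e => hodd2 hp hp2 ?_
        obtain ⟨l, hl⟩ := IsPGroup.iff_card.mp
          (hT'p.to_le ((hg.moved_piece L hsg).le_T))
        have h2 : 2 ∣ p ^ l := by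
          rw [← hl]
          refine dvd_trans ?_ (Subgroup.relIndex_dvd_card (radical g) _)
          rw [e]
          exact dvd_mul_of_dvd_left (hr.even_sub_one hr2).two_dvd _
        exact Nat.prime_two.dvd_of_dvd_pow h2
      have hsupp : ∀ x ∈ T', g x ≠ 0 := fun x hx =>
        (hg.mem_radical L).mp (Subgroup.relIndex_eq_one.mp hidx (Subgroup.mem_sup_right (hTle hx)))
      let S : Subgroup N :=
        { carrier := {x | x ∈ T' ∧ g x = 1}
          one_mem' := ⟨one_mem _, hg.one⟩
          mul_mem' := fun {a b} ha hb => ⟨mul_mem ha.1 hb.1, by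
            rw [hg.mul a b (hsupp a ha.1) (hsupp b hb.1), ha.2, hb.2, one_mul]⟩
          inv_mem' := fun {a} ha => ⟨inv_mem ha.1, by
            rw [hg.apply_inv (hsupp a ha.1) (hsupp _ (inv_mem ha.1)), ha.2, inv_one]⟩ }
      have hS : T' ≤ S := by
        refine hTle.trans (Subgroup.commutator_le.mpr fun u hu δ hδ => ?_)
        obtain ⟨j, rfl⟩ := (mem_powers_iff_mem_zpowers (x := s') (y := δ)).mpr hδ
        refine ⟨L.comm_mem hu _, ?_⟩
        rw [show ⁅u, s' ^ j⁆ = u * (s' ^ j * u⁻¹ * (s' ^ j)⁻¹) by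
            simp only [commutatorElement_def]; group,
          hg.mul _ _ (hsupp u hu) (hsupp _ (L.conj_mem _ (inv_mem hu))),
          apply_conj_of_fixed (pow_fixed hsg j), hg.apply_inv (hsupp u hu) (hsupp _ (inv_mem hu)),
          mul_inv_cancel₀ (hsupp u hu)]
      rw [hv _ (hsupp ⟨h, Subgroup.le_normalizer hh⟩ hh), (hS (show (⟨h, _⟩ : N) ∈ T' from hh)).2,
        one_smul, Module.End.one_apply]
    have h2 : (⟨h, Subgroup.le_normalizer hh⟩ : N).1 = 1 := linRep_injective G (by
      rw [map_one]; exact h1)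
    have h3 : h = 1 := h2
    rw [h3, mul_one, one_mul]
  -- the inverse point
  have hM' : ∀ x : N, ((((x : N) : G) : GL (Fin d) (ZMod 2)) : Matrix (Fin d) (Fin d) (ZMod 2))ᵀ * M *
      ((((x : N) : G) : GL (Fin d) (ZMod 2)) : Matrix (Fin d) (Fin d) (ZMod 2)) = M :=
    fun x => hform x
  have hg' : IsPoint ρ T' (invPt g) :=
    { supp := fun x hx => hg.supp x (invPt_ne_zero.mp hx)
      one := by rw [invPt_apply, hg.one, inv_one]
      ker := fun x hx hπ => by rw [invPt_apply, hg.ker x hx hπ, inv_one]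
      mul := fun a b ha hb => by
        rw [invPt_apply, invPt_apply, invPt_apply,
          hg.mul a b (invPt_ne_zero.mp ha) (invPt_ne_zero.mp hb), mul_inv]
      rad := fun a ha => by
        rw [invPt_ne_zero, hg.rad a ha]
        simp [invPt_apply]
      exists_vec := by
        haveI := Fintype.ofFinite (hg.supportSubgroup L)
        set A := hg.supportSubgroup L
        set P' : Module.End (AlgebraicClosure (ZMod 2)) (Fin d → AlgebraicClosure (ZMod 2)) :=
          ∑ a : A, g a • ρ a with hP'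
        have hmem : ∀ v, P' v ∈ W ρ (invPt g) := by
          intro v b hb
          have hb' := invPt_ne_zero.mp hb
          rw [hP', LinearMap.sum_apply, map_sum, Finset.smul_sum]
          refine Fintype.sum_bijective (⟨b, hb'⟩ * · : A → A) (Group.mulLeft_bijective _) _ _
            fun a => ?_
          rw [LinearMap.smul_apply, LinearMap.smul_apply, map_smul, Subgroup.coe_mul, map_mul,
            Module.End.mul_apply, smul_smul]
          rw [hg.mul _ _ hb' a.2, invPt_apply, ← mul_assoc, inv_mul_cancel₀ hb', one_mul]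
        by_contra hnone
        have hzero : P' = 0 := LinearMap.ext fun v => by
          by_contra hne'
          exact hnone ⟨P' v, hne', hmem v⟩
        have hMu : IsUnit (M.map (algebraMap (ZMod 2) (AlgebraicClosure (ZMod 2)))) :=
          hM.map (algebraMap (ZMod 2) (AlgebraicClosure (ZMod 2))).mapMatrix
        set m : N → Matrix (Fin d) (Fin d) (AlgebraicClosure (ZMod 2)) := fun x =>
          ((((x : N) : G) : GL (Fin d) (ZMod 2)) : Matrix (Fin d) (Fin d) (ZMod 2)).map
            (algebraMap (ZMod 2) (AlgebraicClosure (ZMod 2))) with hm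
        have hm1 : ∀ x, (m x)ᵀ * M.map (algebraMap (ZMod 2) (AlgebraicClosure (ZMod 2))) =
            M.map (algebraMap (ZMod 2) (AlgebraicClosure (ZMod 2))) * m x⁻¹ := by
          intro x
          have h1 : ((((x : N) : G) : GL (Fin d) (ZMod 2)) : Matrix (Fin d) (Fin d) (ZMod 2))ᵀ * M =
              M * ((((x⁻¹ : N) : G) : GL (Fin d) (ZMod 2)) : Matrix (Fin d) (Fin d) (ZMod 2)) := by
            conv_rhs => rw [← hM' x]
            rw [mul_assoc, mul_assoc, ← Units.val_mul, ← Subgroup.coe_mul, ← Subgroup.coe_mul,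
              mul_inv_cancel]
            simp
          simp only [hm]
          rw [← Matrix.map_mul, ← h1, Matrix.map_mul, Matrix.transpose_map]
        have hsum : ∑ a : A, g a • m a = 0 := by
          refine Matrix.toLin'.injective ?_
          rw [map_sum, map_zero, ← hzero, hP']
          exact Finset.sum_congr rfl fun a _ => by rw [map_smul]; rfl
        have hsum' : ∑ a : A, g a • m (a : N)⁻¹ = 0 := by
          have h1 := congrArg (fun X => Xᵀ * M.map (algebraMap (ZMod 2) (AlgebraicClosure (ZMod 2)))) hsum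
          simp only [Matrix.transpose_sum, Matrix.transpose_smul, Finset.sum_mul, smul_mul_assoc,
            hm1, Matrix.transpose_zero, zero_mul] at h1
          simp only [← mul_smul_comm, ← Finset.mul_sum] at h1
          exact (hMu.mul_right_eq_zero).mp h1
        obtain ⟨v, hv0, hv⟩ := hg.exists_vec
        have h2 := congrArg (fun X => Matrix.toLin' X v) hsum'
        simp only [map_sum, LinearMap.sum_apply, map_smul, LinearMap.smul_apply, map_zero,
          LinearMap.zero_apply] at h2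
        rw [Finset.sum_congr rfl fun (a : A) _ => show g a • Matrix.toLin' (m (a : N)⁻¹) v = v by
          show g a • ρ (a : N)⁻¹ v = v
          rw [hv _ (A.inv_mem a.2), smul_smul, hg.apply_inv a.2 (A.inv_mem a.2),
            mul_inv_cancel₀ a.2, one_smul], Finset.sum_const, Finset.card_univ,
          ← Nat.card_eq_fintype_card, ← Nat.cast_smul_eq_nsmul (AlgebraicClosure (ZMod 2))] at h2
        exact hv0 ((smul_eq_zero.mp h2).resolve_left (L.card_cast (hg.supportSubgroup_le L))) }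
  have hsymm : ∀ i < r, invPt g ≠ s' ^ i • g := by
    intro i hi e
    have hgg : invPt g = g := by
      rcases Nat.eq_zero_or_pos i with rfl | hi0
      · rwa [pow_zero, one_smul] at e
      have h1 : g = s' ^ (i * 2) • g := by
        conv_lhs => rw [show g = invPt (invPt g) from Pt.ext fun x => (inv_inv _).symm, e,
          invPt_smul, e, ← mul_smul, ← pow_add, ← Nat.mul_two]
      have hnd : ¬ r ∣ i * 2 := by
        intro hd
        rcases hr.dvd_mul.mp hd with hd | hd
        · exact absurd (Nat.le_of_dvd hi0 hd) (not_le.mpr hi)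
        · exact hr2 ((Nat.prime_dvd_prime_iff_eq hr Nat.prime_two).mp hd)
      obtain ⟨j, -, hj⟩ := Nat.exists_mul_mod_eq_one_of_coprime
        (hr.coprime_iff_not_dvd.mpr hnd).symm hr.one_lt
      have hsg := pow_fixed h1.symm j
      rw [← pow_mul, pow_eq_pow_mod (i * 2 * j) L.pow, hj, pow_one] at hsg
      rw [e, pow_fixed hsg i]
    have hone : ∀ x, g x ≠ 0 → g x = 1 := fun x hx => by
      refine hg.eq_one_of_pow L hx (M := 2) ((Nat.coprime_primes Nat.prime_two hp).mpr hp2.symm) ?_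
      have := congrFun hgg x
      rw [invPt_apply] at this
      rw [sq]
      conv_lhs => arg 1; rw [← this]
      exact inv_mul_cancel₀ hx
    have hall : ∀ x ∈ T', g x ≠ 0 := fun x hx => (hg.rad x hx).mpr fun y hy =>
      hone _ (hg.comm_ne_zero L hx hy)
    refine hgb ⟨Pt.ext fun x => ?_, ?_⟩
    · rw [smul_apply]
      by_cases hx : x ∈ T'
      · rw [hone _ (hall _ (L.conj_mem' s' hx)), hone _ (hall x hx)]
      · have hx' : s'⁻¹ * x * s' ∉ T' := fun h' => hx (by
          have := L.conj_mem s' h'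
          simpa [mul_assoc] using this)
        rw [show g x = 0 by by_contra h'; exact hx (hg.supp x h'),
          show g (s'⁻¹ * x * s') = 0 by by_contra h'; exact hx' (hg.supp _ h')]
    · have hle : moved g s' T' ≤ radical g := sup_le le_rfl fun x hx => (hg.mem_radical L).mpr
        (hall x (Subgroup.le_normalizer_iff_commutator_le_left.mp
          (Subgroup.zpowers_le.mpr (mul_left_invariant fun _ hu => L.conj_mem s' hu)) hx))
      rw [Subgroup.relIndex_eq_one.mpr hle]
      have := hr.two_le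
      nlinarith
  have hgb' : ¬ Bad T' s' r (invPt g) := by
    rintro ⟨h1, h2⟩
    refine hgb ⟨?_, ?_⟩
    · rw [← invPt_smul] at h1
      exact Pt.ext fun x => inv_injective (congrFun h1 x)
    · have e : radical (invPt g) = radical g := by
        unfold radical
        congr 1
        ext x
        exact invPt_ne_zero
      rwa [moved, e] at h2
  -- eigenvectors
  set Z := (Fixed.roots (AlgebraicClosure (ZMod 2)) r).erase 1 with hZ
  have hZm : ∀ ζ : Z, (ζ : AlgebraicClosure (ZMod 2)) ^ r = 1 ∧ (ζ : AlgebraicClosure (ZMod 2)) ≠ 1 :=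
    fun ζ => ⟨(Fixed.mem_roots hr.pos).mp (Finset.mem_of_mem_erase ζ.2), Finset.ne_of_mem_erase ζ.2⟩
  have hu := fun ζ : Z => hg.exists_orbit_eigen L hgb (hZm ζ).1
  have hu' := fun ζ : Z => hg'.exists_orbit_eigen L hgb' (hZm ζ).1
  choose u hu0 hus huo using hu
  choose u' hu0' hus' huo' using hu'
  haveI := finite_points L
  haveI := Fintype.ofFinite {g // IsPoint ρ T' g}
  let O : Finset {g // IsPoint ρ T' g} := (Finset.range r).image fun i => ⟨s' ^ i • g, L.isPoint_smul hg _⟩
  let P : Module.End (AlgebraicClosure (ZMod 2)) (Fin d → AlgebraicClosure (ZMod 2)) :=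
    ∑ x ∈ O, x.2.proj L
  have hPu : ∀ ζ, P (u ζ) = u ζ := fun ζ => by
    conv_rhs => rw [← sum_proj L (u ζ)]
    rw [LinearMap.sum_apply]
    refine Finset.sum_subset (Finset.subset_univ _) fun x _ hx => huo ζ x.1 x.2 fun i hi e => hx ?_
    exact Finset.mem_image.mpr ⟨i, Finset.mem_range.mpr hi, Subtype.ext e.symm⟩
  have hPu' : ∀ ζ, P (u' ζ) = 0 := fun ζ => by
    rw [LinearMap.sum_apply]
    refine Finset.sum_eq_zero fun x hx => huo' ζ x.1 x.2 fun i hi e => ?_
    obtain ⟨l, hl, rfl⟩ := Finset.mem_image.mp hx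
    have h1 : invPt g = s' ^ ((r - i + l) % r) • g := by
      have e' := congrArg (fun z => s' ^ (r - i) • z) e
      simp only [← mul_smul, ← pow_add] at e'
      rw [Nat.sub_add_cancel hi.le, L.pow, one_smul] at e'
      rw [← e', pow_eq_pow_mod _ L.pow]
    exact hsymm _ (Nat.mod_lt _ hr.pos) h1
  have hev : ∀ (w : Z → Fin d → AlgebraicClosure (ZMod 2)), (∀ ζ, w ζ ≠ 0) →
      (∀ ζ, ρ s' (w ζ) = (ζ : AlgebraicClosure (ZMod 2)) • w ζ) →
      LinearIndependent (AlgebraicClosure (ZMod 2)) w := fun w h0 he =>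
    Module.End.eigenvectors_linearIndependent' (ρ s') _ Subtype.val_injective w fun ζ =>
      ⟨Module.End.mem_eigenspace_iff.mpr (he ζ), h0 ζ⟩
  have hli : LinearIndependent (AlgebraicClosure (ZMod 2)) (Sum.elim u u') := by
    rw [Fintype.linearIndependent_iff]
    intro c hc
    rw [Fintype.sum_sum_type] at hc
    simp only [Sum.elim_inl, Sum.elim_inr] at hc
    have h1 := congrArg P hc
    simp only [map_add, map_sum, map_smul, hPu, hPu', smul_zero, Finset.sum_const_zero, add_zero,
      map_zero] at h1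
    have h2 := Fintype.linearIndependent_iff.mp (hev u hu0 hus) _ h1
    rw [h1, zero_add] at hc
    have h3 := Fintype.linearIndependent_iff.mp (hev u' hu0' hus') _ hc
    rintro (ζ | ζ)
    · exact h2 ζ
    · exact h3 ζ
  set R := LinearMap.range (Matrix.toLin' ((((s : G) : GL (Fin d) (ZMod 2)) :
    Matrix (Fin d) (Fin d) (ZMod 2)) - 1 |>.map (algebraMap (ZMod 2) (AlgebraicClosure (ZMod 2)))))
  have hin : ∀ (w : Fin d → AlgebraicClosure (ZMod 2)) (ζ : Z),
      ρ s' w = (ζ : AlgebraicClosure (ZMod 2)) • w → w ∈ R := by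
    intro w ζ hw
    refine ⟨((ζ : AlgebraicClosure (ZMod 2)) - 1)⁻¹ • w, ?_⟩
    rw [map_smul, Matrix.map_sub _ (map_sub _), Matrix.map_one _ (map_zero _) (map_one _), map_sub,
      Matrix.toLin'_one, LinearMap.sub_apply, LinearMap.id_apply]
    rw [show Matrix.toLin' ((((s : G) : GL (Fin d) (ZMod 2)) : Matrix (Fin d) (Fin d) (ZMod 2)).map
      (algebraMap (ZMod 2) (AlgebraicClosure (ZMod 2)))) w = (ζ : AlgebraicClosure (ZMod 2)) • w from hw]
    conv_lhs => arg 2; rw [show (ζ : AlgebraicClosure (ZMod 2)) • w - w =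
      ((ζ : AlgebraicClosure (ZMod 2)) - 1) • w by rw [sub_smul, one_smul]]
    rw [smul_smul, inv_mul_cancel₀ (sub_ne_zero.mpr (hZm ζ).2), one_smul]
  have hcardle : Fintype.card (Z ⊕ Z) ≤ Module.finrank (AlgebraicClosure (ZMod 2)) R := by
    let w : Z ⊕ Z → R := fun x => match x with
      | Sum.inl ζ => ⟨u ζ, hin _ ζ (hus ζ)⟩
      | Sum.inr ζ => ⟨u' ζ, hin _ ζ (hus' ζ)⟩
    have : LinearIndependent (AlgebraicClosure (ZMod 2)) w := by
      refine LinearIndependent.of_comp R.subtype ?_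
      convert hli using 1
      funext x
      rcases x with ζ | ζ <;> rfl
    exact this.fintype_card_le_finrank
  have hZcard : Z.card = r - 1 := by
    rw [hZ, Finset.card_erase_of_mem ((Fixed.mem_roots hr.pos).mpr (one_pow r)),
      Fixed.card_roots (natCast_ne_zero_of_odd (hodd2 hr hr2))]
  rw [Fintype.card_sum, Fintype.card_coe, hZcard] at hcardle
  have h1 := hcardle.trans (finrank_range_map_le _)
  have h2 := Nat.mul_le_mul h1 h1
  have h3 := sq_lt_four_mul_two_pow (Module.finrank (ZMod 2) (LinearMap.range (Matrix.toLin'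
    (((s : GL (Fin d) (ZMod 2)) : Matrix (Fin d) (Fin d) (ZMod 2)) - 1))))
  rw [hE] at h3
  nlinarith

end Linear

/-- The coordinates of `T` modulo the radical when squares lie in the radical. -/
theorem IsPoint.exists_coords [Finite Γ] (h : IsPoint π T g) (L : Level π T q s r) (hq : q = 2) :
    ∃ (d : ℕ) (cl : T → Fin d → ZMod 2), Function.Surjective cl ∧
      (∀ x y, cl (x * y) = cl x + cl y) ∧ ∀ x : T, cl x = 0 ↔ g x ≠ 0 := by
  subst hq
  let A := (radical g).subgroupOf T
  haveI hA : A.Normal := ⟨fun a ha y => by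
    rw [Subgroup.mem_subgroupOf] at ha ⊢
    refine (h.mem_radical L).mpr ?_
    have e := h.apply_conj_rad L (a := (a : Γ)) y.2
    simpa using e ▸ (h.mem_radical L).mp ha⟩
  letI : CommGroup (T ⧸ A) :=
    { (inferInstance : Group (T ⧸ A)) with
      mul_comm := fun a b => by
        induction a using QuotientGroup.induction_on with | _ a => ?_
        induction b using QuotientGroup.induction_on with | _ b => ?_
        rw [← QuotientGroup.mk_mul, ← QuotientGroup.mk_mul, QuotientGroup.eq,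
          Subgroup.mem_subgroupOf]
        refine (h.mem_radical L).mpr ?_
        have := h.comm_ne_zero L (inv_mem b.2) (inv_mem a.2)
        simpa [commutatorElement_def, mul_assoc] using this }
  letI : Module (ZMod 2) (Additive (T ⧸ A)) := AddCommGroup.zmodModule fun x => by
    obtain ⟨x, rfl⟩ := Additive.ofMul.surjective x
    induction x using QuotientGroup.induction_on with | _ x => ?_
    rw [← ofMul_pow, ← QuotientGroup.mk_pow, show ((x ^ 2 : T) : T ⧸ A) = 1 from ?_, ofMul_one]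
    rw [QuotientGroup.eq_one_iff, Subgroup.mem_subgroupOf]
    refine (h.mem_radical L).mpr ((h.rad _ (by simpa using pow_mem x.2 2)).mpr fun y hy => ?_)
    refine h.ker _ (L.comm_mem (by simpa using pow_mem x.2 2) y) ?_
    simpa using L.expo x x.2 y hy
  haveI : Module.Finite (ZMod 2) (Additive (T ⧸ A)) := Module.Finite.of_finite
  let b := Module.finBasis (ZMod 2) (Additive (T ⧸ A))
  refine ⟨_, fun x => b.equivFun (Additive.ofMul (x : T ⧸ A)), fun u => ?_, fun x y => ?_,
    fun x => ?_⟩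
  · obtain ⟨x, hx⟩ := QuotientGroup.mk_surjective (Additive.toMul (b.equivFun.symm u))
    exact ⟨x, by show b.equivFun (Additive.ofMul _) = u; rw [hx, ofMul_toMul, LinearEquiv.apply_symm_apply]⟩
  · simp only [QuotientGroup.mk_mul, ofMul_mul, map_add]
  · rw [LinearEquiv.map_eq_zero_iff, ofMul_eq_zero, QuotientGroup.eq_one_iff,
      Subgroup.mem_subgroupOf, h.mem_radical L]

open Classical in
set_option maxHeartbeats 1000000 in
/-- Groups fixing a small fixed point have commutators with `s` trivial there. -/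
theorem IsPoint.centralize_bad [Finite Γ] [IsAlgClosed k] [FiniteDimensional k V]
    (h : IsPoint π T g) (L : Level π T q s r) (hbad : Bad T s r g) {p : ℕ} (hp : p.Prime)
    (hpq : p ≠ q) (hpr : p ≠ r) {H : Subgroup Γ} (hH : IsPGroup p H)
    (hsH : ∀ γ ∈ H, s * γ * s⁻¹ ∈ H) (hfix : ∀ γ ∈ H, γ • g = g) {γ : Γ} (hγ : γ ∈ H) {t : Γ}
    (ht : t ∈ T) : g (t⁻¹ * (⁅γ, s⁆ * t * ⁅γ, s⁆⁻¹)) ≠ 0 := by
  obtain ⟨hs, hsmall⟩ := hbad
  have hδ : ⁅γ, s⁆ • g = g := by
    have hi : ∀ {x : Γ}, x • g = g → x⁻¹ • g = g := fun hx => by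
      conv_lhs => rw [← hx, inv_smul_smul]
    simp only [commutatorElement_def, mul_smul, hi hs, hi (hfix γ hγ), hs, hfix γ hγ]
  by_cases h1 : (radical g).relIndex (moved g s T) = 1
  · -- `s` is trivial modulo the radical
    have hA : ∀ x ∈ T, g (x⁻¹ * (s * x * s⁻¹)) ≠ 0 := fun x hx => by
      refine (h.mem_radical L).mp (Subgroup.relIndex_eq_one.mp h1 (Subgroup.mem_sup_right ?_))
      rw [show x⁻¹ * (s * x * s⁻¹) = ⁅x⁻¹, s⁆ by simp [commutatorElement_def, mul_assoc]]
      exact Subgroup.commutator_mem_commutator (inv_mem hx) (Subgroup.mem_zpowers s)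
    -- `⁅γ, s⁆ = γ s γ⁻¹ s⁻¹`
    set t1 := s⁻¹ * t * s with ht1
    have c1 : g (t1⁻¹ * t) ≠ 0 := by
      have := hA t1 (L.conj_mem' s ht)
      rwa [show s * t1 * s⁻¹ = t by rw [ht1]; group] at this
    set t2 := γ⁻¹ * t1 * γ
    have c2 : g (t2⁻¹ * (s * t2 * s⁻¹)) ≠ 0 := hA t2 (L.conj_mem' γ (L.conj_mem' s ht))
    have c3 := cong_conj (hfix γ hγ) c2
    rw [show γ * t2 * γ⁻¹ = t1 by simp only [t2]; group] at c3
    refine h.cong_trans L (h.cong_symm L c1) ?_
    rwa [show γ * (s * t2 * s⁻¹) * γ⁻¹ = ⁅γ, s⁆ * t * ⁅γ, s⁆⁻¹ by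
      simp only [t2, ht1, commutatorElement_def]; group] at c3
  replace h1 : (radical g).relIndex (moved g s T) = (r - 1) * (r - 1) ∧
      (radical g).relIndex (moved g s T) ≠ 1 :=
    ⟨(h.small_dichotomy L hs hsmall).resolve_left h1, h1⟩
  obtain ⟨h1, h1'⟩ := h1
  have hr := L.rprime
  have hr2 : r ≠ 2 := by
    rintro rfl
    exact h1' (by simpa using h1)
  have hq2 : q = 2 := by
    haveI := Fact.mk L.qprime
    obtain ⟨l, hl⟩ := IsPGroup.iff_card.mp (L.pgroup.to_le (h.moved_piece L hs).le_T)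
    have h2 : 2 ∣ q ^ l := by
      rw [← hl]
      refine dvd_trans ?_ (Subgroup.relIndex_dvd_card (radical g) _)
      rw [h1]
      exact dvd_mul_of_dvd_left (hr.even_sub_one hr2).two_dvd _
    exact ((Nat.prime_dvd_prime_iff_eq Nat.prime_two L.qprime).mp
      (Nat.prime_two.dvd_of_dvd_pow h2)).symm
  obtain ⟨d, cl, hcl, hadd, hker⟩ := h.exists_coords L hq2
  have hone : cl 1 = 0 := by
    have := hadd 1 1
    rw [mul_one] at this
    exact add_left_cancel (a := cl 1) (by rw [← this, add_zero])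
  have hinv : ∀ x, cl x⁻¹ = cl x := fun x => by
    have := hadd x x⁻¹
    rw [mul_inv_cancel, hone] at this
    rw [← add_left_cancel_iff (a := cl x), ← this]
    funext i
    exact (CharTwo.add_self_eq_zero _).symm
  have hcong : ∀ x y : T, cl x = cl y ↔ g ((x : Γ)⁻¹ * y) ≠ 0 := fun x y => by
    have e : cl (x⁻¹ * y) = cl x + cl y := by rw [hadd, hinv]
    rw [show (x : Γ)⁻¹ * y = ((x⁻¹ * y : T) : Γ) by simp, ← hker, e]
    constructor
    · intro he; rw [he]; funext i; exact CharTwo.add_self_eq_zero _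
    · intro he
      funext i
      have := congrFun he i
      simp only [Pi.add_apply, Pi.zero_apply] at this
      exact CharTwo.add_eq_zero.mp this
  choose σ hσ using hcl
  -- the action
  let S := MulAction.stabilizer Γ g
  have hl : ∀ (δ : S) (x : T), cl ⟨(δ : Γ) * σ (cl x) * (δ : Γ)⁻¹, L.conj_mem _ (σ (cl x)).2⟩ =
      cl ⟨(δ : Γ) * x * (δ : Γ)⁻¹, L.conj_mem _ x.2⟩ := fun δ x =>
    (hcong _ _).mpr (cong_conj δ.2 ((hcong _ _).mp (hσ (cl x))))
  let lin : S → (Fin d → ZMod 2) →ₗ[ZMod 2] (Fin d → ZMod 2) := fun δ =>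
    AddMonoidHom.toZModLinearMap 2 (AddMonoidHom.mk'
      (fun u => cl ⟨(δ : Γ) * σ u * (δ : Γ)⁻¹, L.conj_mem _ (σ u).2⟩) fun u w => by
        have hw : cl (σ u * σ w) = u + w := by rw [hadd, hσ, hσ]
        have e := hl δ (σ u * σ w)
        rw [hw] at e
        rw [e, ← hadd]
        congr 1
        apply Subtype.ext
        simp only [Subgroup.coe_mul]
        group)
  have hlin : ∀ (δ : S) (x : T), lin δ (cl x) = cl ⟨(δ : Γ) * x * (δ : Γ)⁻¹, L.conj_mem _ x.2⟩ :=
    fun δ x => hl δ x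
  let act0 : S →* Matrix (Fin d) (Fin d) (ZMod 2) :=
    { toFun := fun δ => LinearMap.toMatrix' (lin δ)
      map_one' := by
        rw [← LinearMap.toMatrix'_one]
        congr 1
        refine LinearMap.ext fun u => ?_
        rw [← hσ u, hlin]
        congr 1
        apply Subtype.ext
        simp
      map_mul' := fun δ δ' => by
        rw [← LinearMap.toMatrix'_mul]
        congr 1
        refine LinearMap.ext fun u => ?_
        rw [Module.End.mul_apply, ← hσ u, hlin δ', hlin, hlin]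
        congr 1
        apply Subtype.ext
        simp [mul_assoc] }
  let act := act0.toHomUnits
  have hact : ∀ δ : S, ((act δ : GL (Fin d) (ZMod 2)) : Matrix (Fin d) (Fin d) (ZMod 2)) =
      LinearMap.toMatrix' (lin δ) := fun δ => rfl
  -- the form
  let bt : Γ → Γ → ZMod 2 := fun x y => if g ⁅x, y⁆ = 1 then 0 else 1
  have hsq : ∀ x y : T, g ⁅(x : Γ), (y : Γ)⁆ = 1 ∨ g ⁅(x : Γ), (y : Γ)⁆ = -1 := fun x y => by
    refine sq_eq_one_iff.mp ?_
    rw [sq, ← h.pair_mul_left L x.2 x.2 y.2, ← sq, ← hq2]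
    exact h.ker _ (L.comm_mem (pow_mem x.2 q) y) (L.expo x x.2 y y.2)
  have hne : (-1 : k) ≠ 1 := fun e => L.qcast (by
    rw [hq2, Nat.cast_two]
    linear_combination -e)
  have hbt : ∀ x x' y : T, bt ((x * x' : T) : Γ) y = bt x y + bt x' y := fun x x' y => by
    simp only [bt, Subgroup.coe_mul, h.pair_mul_left L x.2 x'.2 y.2]
    rcases hsq x y with e | e <;> rcases hsq x' y with e' | e' <;> simp [e, e', hne] <;> rfl
  have hbt' : ∀ x y y' : T, bt x ((y * y' : T) : Γ) = bt x y + bt x y' := fun x y y' => by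
    simp only [bt, Subgroup.coe_mul, h.pair_mul_right L x.2 y.2 y'.2]
    rcases hsq x y with e | e <;> rcases hsq x y' with e' | e' <;> simp [e, e', hne] <;> rfl
  have hbc : ∀ x x' y : T, cl x = cl x' → bt x' y = bt x y := fun x x' y e => by
    simp only [bt, h.pair_congr L x.2 y.2 ((hcong x x').mp e)]
  have hbc' : ∀ x y y' : T, cl y = cl y' → bt x y' = bt x y := fun x y y' e => by
    simp only [bt, h.pair_congr_right L x.2 y.2 ((hcong y y').mp e)]
  let B : (Fin d → ZMod 2) →ₗ[ZMod 2] (Fin d → ZMod 2) →ₗ[ZMod 2] ZMod 2 :=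
    AddMonoidHom.toZModLinearMap 2 (AddMonoidHom.mk'
      (fun u => AddMonoidHom.toZModLinearMap 2 (AddMonoidHom.mk' (fun w => bt (σ u) (σ w))
        fun w w' => by
          rw [← hbt']
          exact hbc' _ _ _ (by rw [hadd, hσ, hσ, hσ])))
      fun u u' => LinearMap.ext fun w => by
        show bt (σ (u + u')) (σ w) = bt (σ u) (σ w) + bt (σ u') (σ w)
        rw [← hbt]
        exact hbc _ _ _ (by rw [hadd, hσ, hσ, hσ]))
  have hB : ∀ x y : T, B (cl x) (cl y) = bt x y := fun x y =>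
    (hbc x (σ (cl x)) (σ (cl y)) (hσ (cl x)).symm).trans (hbc' x y (σ (cl y)) (hσ (cl y)).symm)
  set M := LinearMap.toMatrix₂' (ZMod 2) B with hMdef
  have hform : ∀ δ : S, ((act δ : GL (Fin d) (ZMod 2)) : Matrix (Fin d) (Fin d) (ZMod 2))ᵀ * M *
      ((act δ : GL (Fin d) (ZMod 2)) : Matrix (Fin d) (Fin d) (ZMod 2)) = M := fun δ => by
    rw [hact, hMdef, ← LinearMap.toMatrix₂'_compl₁₂]
    congr 1
    refine LinearMap.ext fun u => LinearMap.ext fun w => ?_
    rw [LinearMap.compl₁₂_apply, ← hσ u, ← hσ w, hlin, hlin, hB, hB]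
    simp only [bt, pair_conj (show (δ : Γ) • g = g from δ.2)]
  have hMu : IsUnit M := by
    rw [← Matrix.mulVec_injective_iff_isUnit]
    intro w w' e
    have e2 : B.flip w = B.flip w' := LinearMap.ext fun u => by
      show B u w = B u w'
      have : ∀ v, B u v = u ⬝ᵥ (M *ᵥ v) := fun v => by
        rw [← Matrix.toLinearMap₂'_apply', hMdef, Matrix.toLinearMap₂'_toMatrix']
      rw [this, this]
      rw [e]
    rw [← hσ w, ← hσ w', hcong]
    refine (h.rad _ (mul_mem (inv_mem (σ w).2) (σ w').2)).mpr fun y hy => ?_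
    have e3 : B (cl ⟨y, hy⟩) (cl (σ w)) = B (cl ⟨y, hy⟩) (cl (σ w')) := by
      rw [hσ, hσ]; exact LinearMap.congr_fun e2 _
    rw [hB, hB] at e3
    have e4 : g ⁅y, (σ w : Γ)⁆ = g ⁅y, (σ w' : Γ)⁆ := by
      simp only [bt] at e3
      rcases hsq ⟨y, hy⟩ (σ w) with a | a <;> rcases hsq ⟨y, hy⟩ (σ w') with a' | a' <;>
        simp_all
    have e5 : g ⁅(σ w : Γ), y⁆ = g ⁅(σ w' : Γ), y⁆ := by
      refine mul_right_cancel₀ (h.comm_ne_zero L hy (σ w).2) ?_
      rw [h.pair_symm L (σ w).2 hy, e4, h.pair_symm L (σ w').2 hy]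
    rw [h.pair_mul_left L (inv_mem (σ w).2) (σ w').2 hy, ← e5,
      ← h.pair_mul_left L (inv_mem (σ w).2) (σ w).2 hy, inv_mul_cancel, h.pair_one_left L]
  -- apply the linear statement
  have hsS : s ∈ S := hs
  have hE : 2 ^ Module.finrank (ZMod 2) (LinearMap.range (Matrix.toLin'
      (((act.rangeRestrict ⟨s, hsS⟩ : act.range) : GL (Fin d) (ZMod 2)) :
        Matrix (Fin d) (Fin d) (ZMod 2)) - Matrix.toLin' 1)) = (r - 1) * (r - 1) := by
    rw [← h1]
    have hco : (((act.rangeRestrict ⟨s, hsS⟩ : act.range) : GL (Fin d) (ZMod 2)) :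
        Matrix (Fin d) (Fin d) (ZMod 2)) = LinearMap.toMatrix' (lin ⟨s, hsS⟩) := rfl
    rw [hco, Matrix.toLin'_toMatrix', Matrix.toLin'_one]
    set R := LinearMap.range (lin ⟨s, hsS⟩ - LinearMap.id) with hR
    have hP := h.moved_piece L hs
    let φ : moved g s T →* Multiplicative (Fin d → ZMod 2) :=
      { toFun := fun x => Multiplicative.ofAdd (cl ⟨x, hP.le_T x.2⟩)
        map_one' := by
          show Multiplicative.ofAdd (cl 1) = 1
          rw [hone]; rfl
        map_mul' := fun x y => by rw [← ofAdd_add, ← hadd]; rfl }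
    have hk : φ.ker = (radical g).subgroupOf (moved g s T) := by
      ext x
      rw [MonoidHom.mem_ker, Subgroup.mem_subgroupOf, h.mem_radical L]
      exact ofAdd_eq_one.trans (hker _)
    have hrange : (φ.range : Set (Multiplicative (Fin d → ZMod 2))) =
        Multiplicative.ofAdd '' (R : Set (Fin d → ZMod 2)) := by
      have hstep : ∀ (x : T) (j : ℕ), cl ⟨s ^ j * x * (s ^ j)⁻¹, L.conj_mem _ x.2⟩ + cl x ∈ R := by
        intro x j
        induction j with
        | zero =>
          have e : cl ⟨s ^ 0 * x * (s ^ 0)⁻¹, L.conj_mem _ x.2⟩ + cl x = 0 := by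
            rw [show (⟨s ^ 0 * x * (s ^ 0)⁻¹, L.conj_mem _ x.2⟩ : T) = x from
              Subtype.ext (by simp)]
            funext i; exact CharTwo.add_self_eq_zero _
          rw [e]; exact zero_mem _
        | succ j ih =>
          set y : T := ⟨s ^ j * x * (s ^ j)⁻¹, L.conj_mem _ x.2⟩
          have e : cl ⟨s ^ (j + 1) * x * (s ^ (j + 1))⁻¹, L.conj_mem _ x.2⟩ + cl x =
              (lin ⟨s, hsS⟩ - LinearMap.id : (Fin d → ZMod 2) →ₗ[ZMod 2] (Fin d → ZMod 2)) (cl y) + (cl y + cl x) := by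
            rw [LinearMap.sub_apply, LinearMap.id_apply, hlin]
            have e' : (⟨s * y * s⁻¹, L.conj_mem _ y.2⟩ : T) =
                ⟨s ^ (j + 1) * x * (s ^ (j + 1))⁻¹, L.conj_mem _ x.2⟩ := by
              apply Subtype.ext
              simp [y, pow_succ', mul_assoc]
            rw [e']
            abel
          rw [e]
          exact add_mem ⟨_, rfl⟩ ih
      ext z
      constructor
      · rintro ⟨⟨x, hx⟩, rfl⟩
        refine ⟨cl ⟨x, hP.le_T hx⟩, ?_, rfl⟩
        let S' : Subgroup Γ :=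
          { carrier := {x | ∃ hx : x ∈ T, cl ⟨x, hx⟩ ∈ R}
            one_mem' := ⟨one_mem _, by
              rw [show (⟨(1 : Γ), one_mem _⟩ : T) = 1 from rfl, hone]; exact zero_mem _⟩
            mul_mem' := fun {a b} ⟨ha, ha'⟩ ⟨hb, hb'⟩ => ⟨mul_mem ha hb, by
              rw [show (⟨a * b, mul_mem ha hb⟩ : T) = ⟨a, ha⟩ * ⟨b, hb⟩ from rfl, hadd]
              exact add_mem ha' hb'⟩
            inv_mem' := fun {a} ⟨ha, ha'⟩ => ⟨inv_mem ha, by
              rw [show (⟨a⁻¹, inv_mem ha⟩ : T) = (⟨a, ha⟩ : T)⁻¹ from rfl, hinv]; exact ha'⟩ }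
        have hle : moved g s T ≤ S' := by
          refine sup_le (fun a ha => ⟨h.radical_le L ha, ?_⟩)
            (Subgroup.commutator_le.mpr fun u hu δ hδ' => ?_)
          · rw [(hker ⟨a, _⟩).mpr ((h.mem_radical L).mp ha)]; exact zero_mem _
          · obtain ⟨j, rfl⟩ := (mem_powers_iff_mem_zpowers (x := s) (y := δ)).mpr hδ'
            refine ⟨L.comm_mem hu _, ?_⟩
            rw [show (⟨⁅u, s ^ j⁆, L.comm_mem hu _⟩ : T) =
              ⟨u, hu⟩ * (⟨s ^ j * u * (s ^ j)⁻¹, L.conj_mem _ hu⟩ : T)⁻¹ from Subtype.ext (by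
                simp only [commutatorElement_def, Subgroup.coe_mul, Subgroup.coe_inv]; group),
              hadd, hinv, add_comm]
            exact hstep ⟨u, hu⟩ j
        obtain ⟨_, hx'⟩ := hle hx
        exact hx'
      · rintro ⟨v, ⟨u, rfl⟩, rfl⟩
        refine ⟨⟨⁅s, (σ u : Γ)⁆, Subgroup.mem_sup_right (by
          rw [Subgroup.commutator_comm]
          exact Subgroup.commutator_mem_commutator (Subgroup.mem_zpowers s) (σ u).2)⟩, ?_⟩
        show Multiplicative.ofAdd _ = _
        congr 1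
        rw [LinearMap.sub_apply, LinearMap.id_apply, ← hσ u, hlin, hσ]
        rw [show (⟨⁅s, (σ u : Γ)⁆, _⟩ : T) =
          ⟨s * σ u * s⁻¹, L.conj_mem _ (σ u).2⟩ * (σ u)⁻¹ from Subtype.ext (by
            simp only [commutatorElement_def, Subgroup.coe_mul, Subgroup.coe_inv]),
          hadd, hinv, hσ]
        funext i
        exact (CharTwo.sub_eq_add _ _).symm
    rw [show (radical g).relIndex (moved g s T) = φ.ker.index by rw [hk]; rfl, Subgroup.index_ker,
      show 2 ^ Module.finrank (ZMod 2) R = Nat.card R by rw [Module.natCard_eq_pow_finrank (K := ZMod 2), Nat.card_zmod]]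
    show Nat.card (R : Set (Fin d → ZMod 2)) = Nat.card (φ.range : Set (Multiplicative (Fin d → ZMod 2)))
    rw [← Nat.card_image_of_injective Multiplicative.ofAdd.injective (R : Set (Fin d → ZMod 2)),
      ← hrange]
  have hcomm := commute_of_small (r := r) (G := act.range) hMu
    (fun U => by obtain ⟨δ, hδ'⟩ := U.2; rw [← hδ']; exact hform δ)
    (H := (H.subgroupOf S).map act.rangeRestrict) (s := act.rangeRestrict ⟨s, hsS⟩) hp
    (hq2 ▸ hpq) hr hr2 hpr ((hH.comap_subtype).map _)
    (by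
      rw [← map_pow]
      have : (⟨s, hsS⟩ : S) ^ r = 1 := Subtype.ext L.pow
      rw [this, map_one])
    (by
      rintro _ ⟨δ, hδ', rfl⟩
      exact ⟨⟨s, hsS⟩ * δ * ⟨s, hsS⟩⁻¹, hsH δ hδ', by rw [map_mul, map_mul, map_inv]⟩)
    (by rw [map_sub]; exact hE)
    (act.rangeRestrict ⟨γ, hfix γ hγ⟩) ⟨⟨γ, hfix γ hγ⟩, hγ, rfl⟩
  rw [← map_mul, ← map_mul] at hcomm
  have hlineq : lin ⟨⁅γ, s⁆, hδ⟩ = LinearMap.id := by
    refine LinearMap.toMatrix'.injective ?_
    rw [← hact, LinearMap.toMatrix'_id]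
    have e : act.rangeRestrict ⟨⁅γ, s⁆, hδ⟩ = 1 := by
      have : (⟨⁅γ, s⁆, hδ⟩ : S) = ⟨γ, hfix γ hγ⟩ * ⟨s, hsS⟩ * (⟨s, hsS⟩ * ⟨γ, hfix γ hγ⟩)⁻¹ :=
        Subtype.ext (by simp [commutatorElement_def, mul_assoc])
      rw [this, map_mul, map_inv, ← hcomm, mul_inv_cancel]
    have := congrArg (fun z : act.range => ((z : GL (Fin d) (ZMod 2)) : Matrix (Fin d) (Fin d) (ZMod 2))) e
    simpa using this
  have hfin := hlin ⟨⁅γ, s⁆, hδ⟩ ⟨t, ht⟩
  rw [hlineq, LinearMap.id_apply] at hfin
  exact (hcong _ _).mp hfin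

end Cfsg.Agent.Lib.PrimeFitting.Points
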