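/-
Coordinate systems on a module: orbit lemma, averaging, and the two transfer lemmas from fixed
vectors to points.
-/
import Cfsg.Agent.Lib.PrimeFitting.Pointwise
import Cfsg.Agent.Lib.Coprime.Glauberman
import Cfsg.Agent.Lib.PGroups.Frattini

set_option autoImplicit false
set_option linter.style.haveILetI false
set_option linter.unusedSectionVars false

open scoped commutatorElement

namespace Cfsg.Agent.Lib.PrimeFitting.Coord

open Points

variable {Γ : Type*} [Group Γ] [Finite Γ]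

theorem normalizer_of_conj {A : Subgroup Γ} {s : Γ} (h : ∀ a ∈ A, s * a * s⁻¹ ∈ A) :
    Subgroup.zpowers s ≤ Subgroup.normalizer (A : Set Γ) :=
  Subgroup.zpowers_le.mpr (mul_left_invariant h)

theorem conj_pow_mem {A : Subgroup Γ} {s : Γ} (h : ∀ a ∈ A, s * a * s⁻¹ ∈ A) (i : ℕ) {a : Γ}
    (ha : a ∈ A) : s ^ i * a * (s ^ i)⁻¹ ∈ A :=
  (Subgroup.mem_normalizer_iff.mp
    (normalizer_of_conj h (Subgroup.npow_mem_zpowers s i)) a).mp ha

theorem coprime_zpowers {q r : ℕ} [Fact q.Prime] {s : Γ} (hs : s ^ r = 1) (hqr : r.Coprime q)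
    {A : Subgroup Γ} (hA : IsPGroup q A) :
    (Nat.card (Subgroup.zpowers s)).Coprime (Nat.card A) := by
  obtain ⟨l, hl⟩ := IsPGroup.iff_card.mp hA
  rw [hl, Nat.card_zpowers]
  exact Nat.Coprime.pow_right l (Nat.Coprime.coprime_dvd_left (orderOf_dvd_of_pow_eq_one hs) hqr)

theorem exists_inv_mod {r i : ℕ} (hr : r.Prime) (hi : ¬ r ∣ i) :
    ∃ j, i * j % r = 1 := by
  obtain ⟨j, -, hj⟩ := Nat.exists_mul_mod_eq_one_of_coprime
    (hr.coprime_iff_not_dvd.mpr hi).symm hr.one_lt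
  exact ⟨j, hj⟩

theorem eq_pow_pow {r i : ℕ} {s : Γ} (hr : r.Prime) (hs : s ^ r = 1) (hi : ¬ r ∣ i) :
    ∃ j, (s ^ i) ^ j = s := by
  obtain ⟨j, hj⟩ := exists_inv_mod hr hi
  exact ⟨j, by rw [← pow_mul, pow_eq_pow_mod (i * j) hs, hj, pow_one]⟩

/-- In an abelian `s`-quotient of a group of order prime to `r`, moved and fixed parts meet
trivially. -/
theorem mem_of_fixed {q r : ℕ} [Fact q.Prime] {s : Γ} (hs : s ^ r = 1) (hqr : r.Coprime q)
    {A M : Subgroup Γ} (hA : IsPGroup q A) (hMA : M ≤ A) (hsA : ∀ a ∈ A, s * a * s⁻¹ ∈ A)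
    (hsM : ∀ a ∈ M, s * a * s⁻¹ ∈ M) (hcomm : ⁅A, A⁆ ≤ M) {c : Γ} (hc : s * c = c * s)
    (hmem : c ∈ ⁅A, Subgroup.zpowers s⁆ ⊔ M) : c ∈ M := by
  classical
  have hMn : ∀ a ∈ A, ∀ x ∈ M, a * x * a⁻¹ ∈ M := fun a ha x hx => by
    have h1 : ⁅a, x⁆ ∈ M := hcomm (Subgroup.commutator_mem_commutator ha (hMA hx))
    rw [show a * x * a⁻¹ = ⁅a, x⁆ * x by simp [commutatorElement_def, mul_assoc]]
    exact mul_mem h1 hx
  haveI hN : (M.subgroupOf A).Normal := ⟨fun x hx a => by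
    rw [Subgroup.mem_subgroupOf] at hx ⊢
    simpa using hMn a a.2 x hx⟩
  letI : CommGroup (A ⧸ M.subgroupOf A) :=
    { (inferInstance : Group (A ⧸ M.subgroupOf A)) with
      mul_comm := fun a b => by
        induction a using QuotientGroup.induction_on with | _ a => ?_
        induction b using QuotientGroup.induction_on with | _ b => ?_
        rw [← QuotientGroup.mk_mul, ← QuotientGroup.mk_mul, QuotientGroup.eq,
          Subgroup.mem_subgroupOf]
        have := hcomm (Subgroup.commutator_mem_commutator (inv_mem b.2) (inv_mem a.2))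
        simpa [commutatorElement_def, mul_assoc] using this }
  set φ := QuotientGroup.mk' (M.subgroupOf A) with hφ
  let cj : ℕ → A → A := fun i a => ⟨s ^ i * a * (s ^ i)⁻¹, conj_pow_mem hsA i a.2⟩
  let ν : A →* A ⧸ M.subgroupOf A :=
    { toFun := fun a => ∏ i ∈ Finset.range r, φ (cj i a)
      map_one' := Finset.prod_eq_one fun i _ => by
        rw [show cj i 1 = 1 from Subtype.ext (by simp [cj]), map_one]
      map_mul' := fun a b => by
        rw [← Finset.prod_mul_distrib]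
        refine Finset.prod_congr rfl fun i _ => ?_
        rw [← map_mul]
        congr 1
        exact Subtype.ext (by simp [cj, mul_assoc]) }
  have hνs : ∀ a : A, ν (cj 1 a) = ν a := by
    intro a
    show ∏ i ∈ Finset.range r, φ (cj i (cj 1 a)) = ∏ i ∈ Finset.range r, φ (cj i a)
    have e : ∀ i, cj i (cj 1 a) = cj (i + 1) a := fun i =>
      Subtype.ext (by simp [cj, pow_succ, mul_assoc])
    simp only [e]
    have h1 := Finset.prod_range_succ' (fun i => φ (cj i a)) r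
    rw [Finset.prod_range_succ, show cj r a = cj 0 a from Subtype.ext (by simp [cj, hs])] at h1
    exact mul_right_cancel h1.symm
  have hνj : ∀ (j : ℕ) (a : A), ν (cj j a) = ν a := by
    intro j
    induction j with
    | zero => intro a; rw [show cj 0 a = a from Subtype.ext (by simp [cj])]
    | succ j ih =>
      intro a
      rw [show cj (j + 1) a = cj 1 (cj j a) from Subtype.ext (by simp [cj, pow_succ', mul_assoc]),
        hνs, ih]
  let S : Subgroup Γ := (ν.ker).map A.subtype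
  have hle : ⁅A, Subgroup.zpowers s⁆ ⊔ M ≤ S := by
    refine sup_le (Subgroup.commutator_le.mpr fun a ha δ hδ => ?_) fun x hx => ?_
    · obtain ⟨j, rfl⟩ := (mem_powers_iff_mem_zpowers (x := s) (y := δ)).mpr hδ
      refine ⟨⟨a, ha⟩ * (cj j ⟨a, ha⟩)⁻¹, ?_, by simp [cj, commutatorElement_def, mul_assoc]⟩
      rw [SetLike.mem_coe, MonoidHom.mem_ker, map_mul, map_inv, hνj, mul_inv_cancel]
    · refine ⟨⟨x, hMA hx⟩, ?_, rfl⟩
      show ∏ i ∈ Finset.range r, φ (cj i ⟨x, hMA hx⟩) = 1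
      refine Finset.prod_eq_one fun i _ => (QuotientGroup.eq_one_iff _).mpr ?_
      rw [Subgroup.mem_subgroupOf]
      exact conj_pow_mem hsM i hx
  obtain ⟨⟨c', hc'⟩, hker, rfl⟩ := hle hmem
  have hν : ν ⟨c', hc'⟩ = φ ⟨c', hc'⟩ ^ r := by
    show ∏ i ∈ Finset.range r, φ (cj i ⟨c', hc'⟩) = _
    conv_rhs => rw [← Finset.card_range r, ← Finset.prod_const]
    refine Finset.prod_congr rfl fun i _ => congrArg φ (Subtype.ext ?_)
    show s ^ i * c' * (s ^ i)⁻¹ = c'
    rw [((show Commute s c' from hc).pow_left i).eq, mul_inv_cancel_right]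
  have h1 : φ ⟨c', hc'⟩ ^ r = 1 := by rw [← hν]; exact hker
  obtain ⟨l, hl⟩ := IsPGroup.iff_card.mp (hA.to_quotient (M.subgroupOf A))
  have h2 := pow_gcd_eq_one.mpr ⟨h1, pow_card_eq_one' (x := φ ⟨c', hc'⟩)⟩
  rw [hl, (Nat.Coprime.pow_right l hqr).gcd_eq_one, pow_one] at h2
  exact Subgroup.mem_subgroupOf.mp ((QuotientGroup.eq_one_iff _).mp h2)

/-- Fixed points in the orbit of a `q`-group: `a⁻¹ τ(a) f` fixed forces it to be `f`. -/
theorem orbit_eq {Ω : Type*} [MulAction Γ Ω] {q r : ℕ} [Fact q.Prime] {τ : Γ} (hτ : τ ^ r = 1)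
    (hqr : r.Coprime q) {f : Ω} (hf : τ • f = f) :
    ∀ (A : Subgroup Γ), IsPGroup q A → (∀ a ∈ A, τ * a * τ⁻¹ ∈ A) → ∀ a ∈ A,
      τ • (a⁻¹ * (τ * a * τ⁻¹)) • f = (a⁻¹ * (τ * a * τ⁻¹)) • f →
        (a⁻¹ * (τ * a * τ⁻¹)) • f = f := by
  suffices ∀ (n : ℕ) (A : Subgroup Γ), Nat.card A ≤ n → IsPGroup q A →
      (∀ a ∈ A, τ * a * τ⁻¹ ∈ A) → ∀ a ∈ A,
      τ • (a⁻¹ * (τ * a * τ⁻¹)) • f = (a⁻¹ * (τ * a * τ⁻¹)) • f →
        (a⁻¹ * (τ * a * τ⁻¹)) • f = f from fun A => this _ A le_rfl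
  intro n
  induction n with
  | zero => intro A h; exact absurd (Nat.le_zero.mp h) Nat.card_pos.ne'
  | succ n ih =>
    intro A hn hA hτA a ha hfix
    set u := a⁻¹ * (τ * a * τ⁻¹) with hu
    have huA : u ∈ A := mul_mem (inv_mem ha) (hτA a ha)
    have hzp : ∀ δ ∈ Subgroup.zpowers τ, ∀ y : Ω, τ • y = y → δ • y = y := fun δ hδ y hy =>
      (Subgroup.zpowers_le.mpr (MulAction.mem_stabilizer_iff.mpr hy) hδ :)
    obtain ⟨c, hc, hcf⟩ := Coprime.exists_fixed_smul_eq (x := f) (y := u • f)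
      (normalizer_of_conj hτA) (coprime_zpowers hτ hqr hA) (Or.inl (Coprime.isSolvable_zpowers τ))
      ⟨u, huA, rfl⟩ (fun δ hδ => hzp δ hδ f hf) (fun δ hδ => hzp δ hδ _ hfix)
    obtain ⟨hcA, hcτ⟩ := Subgroup.mem_inf.mp hc
    have hcτ' : τ * c = c * τ :=
      Subgroup.mem_centralizer_iff.mp hcτ τ (Subgroup.mem_zpowers τ)
    set St := A ⊓ MulAction.stabilizer Γ f with hSt
    by_cases hStA : St = A
    · have : u ∈ St := hStA.symm ▸ huA
      exact this.2
    have hsSt : ∀ x ∈ St, τ * x * τ⁻¹ ∈ St := fun x hx => ⟨hτA x hx.1, by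
      have hf' : τ⁻¹ • f = f := by conv_lhs => rw [← hf, inv_smul_smul]
      show (τ * x * τ⁻¹) • f = f
      rw [mul_smul, mul_smul, hf', show x • f = f from hx.2, hf]⟩
    set M := St ⊔ ⁅A, A⁆ with hM
    have hcA' : ⁅A, A⁆ ≤ A := Subgroup.commutator_le.mpr fun x hx y hy => by
      rw [commutatorElement_def]; exact mul_mem (mul_mem (mul_mem hx hy) (inv_mem hx)) (inv_mem hy)
    have hMA : M ≤ A := sup_le inf_le_left hcA'
    have hsM : ∀ x ∈ M, τ * x * τ⁻¹ ∈ M := by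
      intro x hx
      have hle : M ≤ M.comap (MulAut.conj τ).toMonoidHom := by
        refine sup_le (fun y hy => Subgroup.mem_sup_left (hsSt y hy)) (Subgroup.commutator_le.mpr ?_)
        intro y hy z hz
        refine Subgroup.mem_comap.mpr (Subgroup.mem_sup_right ?_)
        show τ * ⁅y, z⁆ * τ⁻¹ ∈ _
        rw [show τ * ⁅y, z⁆ * τ⁻¹ = ⁅τ * y * τ⁻¹, τ * z * τ⁻¹⁆ by
          simp only [commutatorElement_def]; group]
        exact Subgroup.commutator_mem_commutator (hτA y hy) (hτA z hz)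
      exact hle hx
    have hMne : M ≠ A := by
      intro hMA'
      haveI := hA.isNilpotent
      obtain hbot | ⟨C', hC', hle⟩ := eq_top_or_exists_le_coatom (St.subgroupOf A)
      · exact hStA (le_antisymm inf_le_left (Subgroup.subgroupOf_eq_top.mp hbot))
      · refine hC'.1 (eq_top_iff.mpr fun x _ => ?_)
        have h1 : commutator A ≤ C' :=
          (Cfsg.Agent.Lib.PGroups.commutator_le_frattini hA).trans (frattini_le_coatom hC')
        have h2 : M ≤ C'.map A.subtype := by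
          refine sup_le (fun y hy => ⟨⟨y, hy.1⟩, hle hy, rfl⟩) (Subgroup.commutator_le.mpr ?_)
          intro y hy z hz
          exact ⟨⁅⟨y, hy⟩, ⟨z, hz⟩⁆, h1 (Subgroup.commutator_mem_commutator (Subgroup.mem_top _)
            (Subgroup.mem_top _)), rfl⟩
        exact (Subgroup.mem_map_iff_mem A.subtype_injective).mp (h2 (hMA'.symm ▸ x.2))
    have hcSt : c⁻¹ * u ∈ St := by
      refine ⟨(mul_mem (inv_mem hcA) huA : c⁻¹ * u ∈ A), ?_⟩
      show (c⁻¹ * u) • f = f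
      rw [mul_smul, ← hcf, inv_smul_smul]
    have hcM : c ∈ M := by
      refine mem_of_fixed hτ hqr hA hMA hτA hsM le_sup_right hcτ' ?_
      rw [show c = u * (c⁻¹ * u)⁻¹ by group]
      refine mul_mem (Subgroup.mem_sup_left ?_) (Subgroup.mem_sup_right (Subgroup.mem_sup_left (inv_mem hcSt)))
      rw [hu, show a⁻¹ * (τ * a * τ⁻¹) = ⁅a⁻¹, τ⁆ by simp [commutatorElement_def, mul_assoc]]
      exact Subgroup.commutator_mem_commutator (inv_mem ha) (Subgroup.mem_zpowers τ)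
    have huM : u ∈ M := by
      rw [show u = c * (c⁻¹ * u) by group]
      exact mul_mem hcM (Subgroup.mem_sup_left hcSt)
    obtain ⟨m, hm, hmf⟩ := Coprime.exists_mul_fixed (normalizer_of_conj hsM)
      (coprime_zpowers hτ hqr (hA.to_le hMA)) (Or.inl (Coprime.isSolvable_zpowers τ)) (k := a)
      (fun δ hδ => by
        obtain ⟨j, rfl⟩ := (mem_powers_iff_mem_zpowers (x := τ) (y := δ)).mpr hδ
        clear hδ
        induction j with
        | zero => simp
        | succ j ihj =>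
          have h1 := hsM _ ihj
          have h2 := mul_mem huM h1
          simpa [hu, pow_succ', mul_assoc] using h2)
    have hfix' : τ * (a * m) = a * m * τ :=
      Subgroup.mem_centralizer_iff.mp hmf τ (Subgroup.mem_zpowers τ)
    have e : u = (m⁻¹)⁻¹ * (τ * m⁻¹ * τ⁻¹) := by
      rw [hu, show τ * a * τ⁻¹ = τ * (a * m) * m⁻¹ * τ⁻¹ by group, hfix']
      group
    rw [e] at hfix ⊢
    refine ih M ?_ (hA.to_le hMA) hsM _ (inv_mem hm) hfix
    have : Nat.card M < Nat.card A :=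
      lt_of_le_of_ne (Subgroup.card_le_of_le hMA) fun e => hMne (Subgroup.eq_of_le_of_card_ge hMA e.ge)
    omega

variable {k : Type*} [Field k] [IsAlgClosed k] {V : Type*} [AddCommGroup V] [Module k V]
  [FiniteDimensional k V] {Ω : Type*} [MulAction Γ Ω]

omit [Finite Γ] in
theorem pow_fixed' {Ω' : Type*} [MulAction Γ Ω'] {γ : Γ} {x : Ω'} (h : γ • x = x) (i : ℕ) :
    γ ^ i • x = x :=
  MulAction.mem_stabilizer_iff.mp (pow_mem (MulAction.mem_stabilizer_iff.mpr h) i)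

/-- A system of coordinates permuted by `Γ`, with bad coordinates fixed by `s`. -/
structure Sys (π : Γ →* Module.End k V) (T : Subgroup Γ) (s : Γ) (N : Ω → Submodule k V)
    (B : Ω → Prop) : Prop where
  inj : ∀ v, (∀ f, v ∈ N f) → v = 0
  equiv : ∀ (γ : Γ) f v, v ∈ N f → π γ v ∈ N (γ • f)
  bad_fixed : ∀ f, B f → s • f = f
  bad_smul : ∀ (γ : Γ) f, s * γ = γ * s → B f → B (γ • f)
  bad_triv : ∀ (H : Subgroup Γ), H ≤ T → (∀ h ∈ H, s * h * s⁻¹ ∈ H) → ∀ f, B f →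
    (∀ h ∈ H, h • f = f) → ∀ h ∈ H, ∀ v, π ⁅h, s⁆ v - v ∈ N f

/-- Fixed vectors supported on bad coordinates. -/
def K0 (π : Γ →* Module.End k V) (s : Γ) (N : Ω → Submodule k V) (B : Ω → Prop) :
    Submodule k V where
  carrier := {v | π s v = v ∧ ∀ f, ¬ B f → v ∈ N f}
  add_mem' := fun {v w} hv hw =>
    ⟨by rw [map_add, hv.1, hw.1], fun f hf => add_mem (hv.2 f hf) (hw.2 f hf)⟩
  zero_mem' := ⟨map_zero _, fun f _ => zero_mem _⟩
  smul_mem' := fun t v hv => ⟨by rw [map_smul, hv.1], fun f hf => (N f).smul_mem t (hv.2 f hf)⟩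

/-- The average over a subgroup. -/
noncomputable def avg (π : Γ →* Module.End k V) (A : Subgroup Γ) : Module.End k V :=
  haveI := Fintype.ofFinite A
  (Nat.card A : k)⁻¹ • ∑ a : A, π a

variable {π : Γ →* Module.End k V} {T : Subgroup Γ} {q r : ℕ} {s : Γ}
  {N : Ω → Submodule k V} {B : Ω → Prop}

theorem avg_eq (π : Γ →* Module.End k V) (A : Subgroup Γ) [Fintype A] :
    avg π A = (Nat.card A : k)⁻¹ • ∑ a : A, π a := by
  rw [avg]; congr!

theorem pi_mul_avg {A : Subgroup Γ} {a : Γ} (ha : a ∈ A) : π a * avg π A = avg π A := by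
  haveI := Fintype.ofFinite A
  rw [avg_eq, mul_smul_comm, Finset.mul_sum]
  congr 1
  refine Fintype.sum_bijective ((⟨a, ha⟩ : A) * ·) (Group.mulLeft_bijective _) _ _ fun x => ?_
  rw [Subgroup.coe_mul, map_mul]

theorem avg_mul_pi {A : Subgroup Γ} {a : Γ} (ha : a ∈ A) : avg π A * π a = avg π A := by
  haveI := Fintype.ofFinite A
  rw [avg_eq, smul_mul_assoc, Finset.sum_mul]
  congr 1
  refine Fintype.sum_bijective (· * (⟨a, ha⟩ : A)) (Group.mulRight_bijective _) _ _ fun x => ?_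
  rw [Subgroup.coe_mul, map_mul]

theorem avg_eq_self {A : Subgroup Γ} (hA : (Nat.card A : k) ≠ 0) {v : V}
    (hv : ∀ a ∈ A, π a v = v) : avg π A v = v := by
  haveI := Fintype.ofFinite A
  rw [avg_eq, LinearMap.smul_apply, LinearMap.sum_apply,
    Finset.sum_congr rfl fun (a : A) _ => hv a a.2, Finset.sum_const, Finset.card_univ,
    ← Nat.card_eq_fintype_card, ← Nat.cast_smul_eq_nsmul k, smul_smul, inv_mul_cancel₀ hA, one_smul]

theorem avg_commute {A : Subgroup Γ} {γ : Γ} (hγ : γ ∈ Subgroup.normalizer (A : Set Γ)) :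
    Commute (π γ) (avg π A) := by
  haveI := Fintype.ofFinite A
  rw [avg_eq, commute_iff_eq, mul_smul_comm, smul_mul_assoc, Finset.mul_sum, Finset.sum_mul]
  congr 1
  refine Fintype.sum_bijective
    (fun a : A => (⟨γ * a * γ⁻¹, (Subgroup.mem_normalizer_iff.mp hγ a).mp a.2⟩ : A)) ?_ _ _
    fun a => ?_
  · exact Finite.injective_iff_bijective.mp fun a b e =>
      Subtype.ext (by simpa using congrArg Subtype.val e)
  · rw [← map_mul, ← map_mul]
    simp [mul_assoc]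

theorem avg_eq_zero_of_scalar {A : Subgroup Γ} {a : Γ} (ha : a ∈ A) {v : V} {ζ : k} (hζ : ζ ≠ 1)
    (hv : π a v = ζ • v) : avg π A v = 0 := by
  have h := LinearMap.congr_fun (avg_mul_pi (π := π) ha) v
  rw [Module.End.mul_apply, hv, map_smul] at h
  have : (ζ - 1) • avg π A v = 0 := by rw [sub_smul, one_smul, h, sub_self]
  exact (smul_eq_zero.mp this).resolve_left (sub_ne_zero.mpr hζ)

/-- The sum over the orbit of `s`. -/
def osum (π : Γ →* Module.End k V) (s : Γ) (r : ℕ) (v : V) : V :=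
  ∑ i ∈ Finset.range r, π (s ^ i) v

section

variable (L : Level π T q s r)
include L

theorem pi_s_osum (v : V) : π s (osum π s r v) = osum π s r v := by
  rw [osum, map_sum]
  simp only [← Module.End.mul_apply, ← map_mul, ← pow_succ']
  have h1 := Finset.sum_range_succ' (fun i => π (s ^ i) v) r
  rw [Finset.sum_range_succ, L.pow, pow_zero] at h1
  exact add_right_cancel h1.symm

omit L in
theorem osum_comm {γ : Γ} (hγ : s * γ = γ * s) (v : V) :
    π γ (osum π s r v) = osum π s r (π γ v) := by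
  rw [osum, osum, map_sum]
  refine Finset.sum_congr rfl fun i _ => ?_
  rw [← Module.End.mul_apply, ← Module.End.mul_apply, ← map_mul, ← map_mul,
    ((show Commute s γ from hγ).pow_left i).eq]

theorem comm_self {A : Subgroup Γ} (hAT : A ≤ T) (hsA : ∀ a ∈ A, s * a * s⁻¹ ∈ A) :
    ⁅⁅A, Subgroup.zpowers s⁆, Subgroup.zpowers s⁆ = ⁅A, Subgroup.zpowers s⁆ :=
  haveI := Fact.mk L.qprime
  Coprime.commutator_commutator_eq (normalizer_of_conj hsA)
    (coprime_zpowers L.pow ((Nat.coprime_primes L.rprime L.qprime).mpr L.ne.symm)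
      (L.pgroup.to_le hAT)) (Or.inl (Coprime.isSolvable_zpowers s))

theorem comm_le_T {A : Subgroup Γ} (hAT : A ≤ T) : ⁅A, Subgroup.zpowers s⁆ ≤ T :=
  Subgroup.commutator_le.mpr fun _ ha _ _ => L.comm_mem (hAT ha) _

omit L in
theorem comm_conj_mem {A : Subgroup Γ} :
    ∀ a ∈ ⁅A, Subgroup.zpowers s⁆, s * a * s⁻¹ ∈ ⁅A, Subgroup.zpowers s⁆ := fun a ha =>
  (Subgroup.mem_normalizer_iff.mp
    (Coprime.right_le_normalizer_commutator A _ (Subgroup.mem_zpowers s)) a).mp ha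

/-- A point of the orbit which is fixed. -/
theorem exists_fixed_conj {A : Subgroup Γ} (hAT : A ≤ T) (hsA : ∀ a ∈ A, s * a * s⁻¹ ∈ A)
    {f f' : Ω} (hf : s • f = f) (hf' : s • f' = f') (h : ∃ a ∈ A, a • f = f') :
    ∃ c ∈ A, s * c = c * s ∧ c • f = f' := by
  haveI := Fact.mk L.qprime
  have hzp : ∀ y : Ω, s • y = y → ∀ δ ∈ Subgroup.zpowers s, δ • y = y := fun y hy δ hδ =>
    (Subgroup.zpowers_le.mpr (MulAction.mem_stabilizer_iff.mpr hy) hδ :)
  obtain ⟨c, hc, hcf⟩ := Coprime.exists_fixed_smul_eq (normalizer_of_conj hsA)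
    (coprime_zpowers L.pow ((Nat.coprime_primes L.rprime L.qprime).mpr L.ne.symm)
      (L.pgroup.to_le hAT)) (Or.inl (Coprime.isSolvable_zpowers s)) h (hzp f hf) (hzp f' hf')
  obtain ⟨hcA, hcs⟩ := Subgroup.mem_inf.mp hc
  exact ⟨c, hcA, Subgroup.mem_centralizer_iff.mp hcs s (Subgroup.mem_zpowers s), hcf⟩

/-- Decomposition into a moved and a fixed part. -/
theorem exists_decomp {A : Subgroup Γ} (hAT : A ≤ T) (hsA : ∀ a ∈ A, s * a * s⁻¹ ∈ A) {a : Γ}
    (ha : a ∈ A) : ∃ n ∈ ⁅A, Subgroup.zpowers s⁆, ∃ c ∈ A, s * c = c * s ∧ a = n * c := by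
  haveI := Fact.mk L.qprime
  obtain ⟨n, hn, c, hc, e⟩ := Coprime.exists_commutator_mul_fixed (normalizer_of_conj hsA)
    (coprime_zpowers L.pow ((Nat.coprime_primes L.rprime L.qprime).mpr L.ne.symm)
      (L.pgroup.to_le hAT)) (Or.inl (Coprime.isSolvable_zpowers s)) ha
  obtain ⟨hcA, hcs⟩ := Subgroup.mem_inf.mp hc
  exact ⟨n, hn, c, hcA, Subgroup.mem_centralizer_iff.mp hcs s (Subgroup.mem_zpowers s), e⟩

variable (S : Sys π T s N B)
include S

omit L in
theorem mem_N_iff {γ : Γ} {f : Ω} {v : V} : π γ v ∈ N (γ • f) ↔ v ∈ N f := by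
  refine ⟨fun h => ?_, S.equiv γ f v⟩
  have := S.equiv γ⁻¹ _ _ h
  rwa [inv_smul_smul, pi_inv_apply_apply] at this

omit L in
theorem K0_smul {γ : Γ} (hγ : s * γ = γ * s) {v : V} (hv : v ∈ K0 π s N B) :
    π γ v ∈ K0 π s N B := by
  refine ⟨?_, fun f hf => ?_⟩
  · rw [← Module.End.mul_apply, ← map_mul, hγ, map_mul, Module.End.mul_apply, hv.1]
  · rw [← smul_inv_smul γ f, mem_N_iff S]
    refine hv.2 _ fun hB => hf ?_
    have := S.bad_smul γ _ hγ hB
    rwa [smul_inv_smul] at this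

omit L in
theorem exists_bad {d : V} (hd : d ∈ K0 π s N B) (h0 : d ≠ 0) : ∃ f, B f ∧ d ∉ N f := by
  by_contra hcon
  push Not at hcon
  refine h0 (S.inj d fun f => ?_)
  by_cases hB : B f
  · exact hcon f hB
  · exact hd.2 f hB

/-- Subgroups fixing a bad coordinate: their moved parts act trivially there. -/
theorem triv_of_fix {A : Subgroup Γ} (hAT : A ≤ T) (hsA : ∀ a ∈ A, s * a * s⁻¹ ∈ A) {f : Ω}
    (hB : B f) (hfix : ∀ a ∈ A, a • f = f) {x : Γ} (hx : x ∈ ⁅A, Subgroup.zpowers s⁆) :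
    x • f = f ∧ ∀ v, π x v - v ∈ N f := by
  let S' : Subgroup Γ :=
    { carrier := {x | x • f = f ∧ ∀ v, π x v - v ∈ N f}
      one_mem' := ⟨one_smul _ _, fun v => by simp⟩
      mul_mem' := fun {a b} ha hb => ⟨by rw [mul_smul, hb.1, ha.1], fun v => by
        rw [map_mul, Module.End.mul_apply,
          show π a (π b v) - v = π a (π b v - v) + (π a v - v) by rw [map_sub]; abel]
        have h1 := S.equiv a f _ (hb.2 v)
        rw [ha.1] at h1
        exact add_mem h1 (ha.2 v)⟩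
      inv_mem' := fun {a} ha => ⟨by conv_lhs => rw [← ha.1, inv_smul_smul], fun v => by
        have h1 := neg_mem (ha.2 (π a⁻¹ v))
        rwa [pi_apply_inv_apply, neg_sub] at h1⟩ }
  suffices ⁅A, Subgroup.zpowers s⁆ ≤ S' from this hx
  refine Subgroup.commutator_le.mpr fun a ha δ hδ => ?_
  obtain ⟨j, rfl⟩ := (mem_powers_iff_mem_zpowers (x := s) (y := δ)).mpr hδ
  clear hδ
  induction j with
  | zero => simp only [pow_zero, commutatorElement_one_right]; exact one_mem _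
  | succ j ih =>
    have hsf := S.bad_fixed f hB
    have hsinv : s⁻¹ • f = f := by conv_lhs => rw [← hsf, inv_smul_smul]
    have h1 : ⁅a, s⁆ ∈ S' := by
      refine ⟨?_, S.bad_triv A hAT hsA f hB hfix a ha⟩
      simp only [commutatorElement_def, mul_smul, hsinv, hfix a⁻¹ (inv_mem ha), hsf, hfix a ha]
    have h2 : s * ⁅a, s ^ j⁆ * s⁻¹ ∈ S' := by
      refine ⟨by rw [mul_smul, mul_smul, hsinv, ih.1, hsf], fun v => ?_⟩
      have h3 := S.equiv s f _ (ih.2 (π s⁻¹ v))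
      rw [hsf, map_sub, pi_apply_inv_apply] at h3
      simpa [map_mul] using h3
    rw [show ⁅a, s ^ (j + 1)⁆ = ⁅a, s⁆ * (s * ⁅a, s ^ j⁆ * s⁻¹) by
      simp only [commutatorElement_def, pow_succ']; group]
    exact mul_mem h1 h2

/-- Only the unmoved term of an orbit sum is seen at a moved coordinate. -/
theorem osum_sub_mem {A : Subgroup Γ} (hAT : A ≤ T) (hsA : ∀ a ∈ A, s * a * s⁻¹ ∈ A) {f : Ω}
    (hB : B f) {d : V} (hd : d ∈ K0 π s N B) {a : Γ} (ha : a ∈ A)
    (hmov : s • a • f ≠ a • f) : osum π s r (π a d) - π a d ∈ N (a • f) := by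
  haveI := Fact.mk L.qprime
  rw [osum, ← Finset.add_sum_erase _ _ (Finset.mem_range.mpr L.rprime.pos), pow_zero, map_one,
    Module.End.one_apply, add_sub_cancel_left]
  refine Submodule.sum_mem _ fun i hi => ?_
  have hi0 : i ≠ 0 := Finset.ne_of_mem_erase hi
  have hir : i < r := Finset.mem_range.mp (Finset.mem_of_mem_erase hi)
  by_contra hne
  rw [← Module.End.mul_apply, ← map_mul, ← smul_inv_smul (s ^ i * a) (a • f), mem_N_iff S] at hne
  have hbad : B ((s ^ i * a)⁻¹ • a • f) := by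
    by_contra hb
    exact hne (hd.2 _ hb)
  set τ := s ^ (r - i) with hτ
  have hτi : τ = (s ^ i)⁻¹ := by
    rw [eq_inv_iff_mul_eq_one, hτ, ← pow_add, Nat.sub_add_cancel hir.le, L.pow]
  have hsf := S.bad_fixed f hB
  have hτr : τ ^ r = 1 := by rw [hτ, ← pow_mul, Nat.mul_comm, pow_mul, L.pow, one_pow]
  have hτf : τ • f = f := pow_fixed' hsf _
  have e : (s ^ i * a)⁻¹ • a • f = (a⁻¹ * (τ * a * τ⁻¹)) • f := by
    have h1 : τ⁻¹ • f = f := by conv_lhs => rw [← hτf, inv_smul_smul]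
    rw [mul_inv_rev, ← hτi]
    simp only [mul_smul, h1]
  rw [e] at hbad
  have hkey := orbit_eq hτr ((Nat.coprime_primes L.rprime L.qprime).mpr L.ne.symm) hτf A
    (L.pgroup.to_le hAT) (fun x hx => conj_pow_mem hsA (r - i) hx) a ha
    (pow_fixed' (S.bad_fixed _ hbad) _)
  have h2 : τ • a • f = a • f := by
    have h1 : τ⁻¹ • f = f := by conv_lhs => rw [← hτf, inv_smul_smul]
    simp only [mul_smul, h1] at hkey
    conv_rhs => rw [← hkey, smul_inv_smul]
  obtain ⟨j, hj⟩ := eq_pow_pow L.rprime L.pow (i := r - i)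
    (fun hd' => by have := Nat.le_of_dvd (by omega) hd'; omega)
  exact hmov (by
    have := pow_fixed' h2 j
    rwa [hj] at this)

/-- A vector of `K0` whose orbit sums stay small fixes whole orbits. -/
theorem fix_of_osum {A : Subgroup Γ} (hAT : A ≤ T) (hsA : ∀ a ∈ A, s * a * s⁻¹ ∈ A) {d : V}
    (hd : d ∈ K0 π s N B)
    (h : ∀ f, B f → d ∉ N f → ∀ a ∈ A, s • a • f ≠ a • f → osum π s r (π a d) ∈ N (a • f))
    {f : Ω} (hf : d ∉ N f) {x : Γ} (hx : x ∈ ⁅A, Subgroup.zpowers s⁆) :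
    x • f = f ∧ ∀ v, π x v - v ∈ N f := by
  have hB : B f := by
    by_contra hb
    exact hf (hd.2 f hb)
  have hfixed : ∀ a ∈ A, s • a • f = a • f := fun a ha => by
    by_contra hmov
    refine hf ((mem_N_iff S (γ := a)).mp ?_)
    have := sub_mem (h f hB hf a ha hmov) (osum_sub_mem L S hAT hsA hB hd ha hmov)
    rwa [sub_sub_cancel] at this
  have hsf := S.bad_fixed f hB
  have hfix1 : ∀ y ∈ ⁅A, Subgroup.zpowers s⁆, y • f = f := by
    suffices ⁅A, Subgroup.zpowers s⁆ ≤ MulAction.stabilizer Γ f from fun y hy => this hy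
    refine Subgroup.commutator_le.mpr fun a ha δ hδ => ?_
    have hst : δ • a⁻¹ • f = a⁻¹ • f :=
      (Subgroup.zpowers_le.mpr (MulAction.mem_stabilizer_iff.mpr (hfixed _ (inv_mem ha))) hδ :)
    have hst' : δ⁻¹ • f = f :=
      (Subgroup.zpowers_le.mpr (MulAction.mem_stabilizer_iff.mpr hsf) (inv_mem hδ) :)
    show (a * δ * a⁻¹ * δ⁻¹) • f = f
    rw [mul_smul, mul_smul, mul_smul, hst', hst, smul_inv_smul]
  refine triv_of_fix L S (comm_le_T L hAT) comm_conj_mem hB hfix1 ?_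
  rwa [comm_self L hAT hsA]

omit L in
/-- Elements trivial at the coordinates of `d` fix `d`. -/
theorem fix_vec {H : Subgroup Γ} {d : V}
    (h : ∀ f, d ∉ N f → ∀ x ∈ H, x • f = f ∧ ∀ v, π x v - v ∈ N f) {x : Γ} (hx : x ∈ H) :
    π x d = d := by
  refine sub_eq_zero.mp (S.inj _ fun f => ?_)
  by_cases h1 : d ∈ N f
  · by_cases h2 : d ∈ N (x⁻¹ • f)
    · refine sub_mem ?_ h1
      have := S.equiv x _ _ h2
      rwa [smul_inv_smul] at this
    · obtain ⟨e1, e2⟩ := h _ h2 x hx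
      rw [smul_inv_smul] at e1
      rw [e1]
      exact e2 d
  · exact (h f h1 x hx).2 d

/-- Commutators with fixed vectors landing in `K0` are centralised by the moved part. -/
theorem key_fix {x : Γ} (hx : x ∈ T) (hxs : s * x = x * s)
    (hD : ∀ c, π s c = c → π x c - c ∈ K0 π s N B) {c : V} (hc : π s c = c) {a : Γ}
    (ha : a ∈ ⁅T, Subgroup.zpowers s⁆) : π a (π x c - c) = π x c - c := by
  set d := π x c - c with hd'
  have hd : d ∈ K0 π s N B := hD c hc
  have hTs : ∀ t ∈ T, s * t * s⁻¹ ∈ T := fun t ht => L.conj_mem s ht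
  let Zc : Subgroup Γ :=
    { carrier := {z | z ∈ T ∧ ∀ y ∈ T, Commute (π z) (π y)}
      one_mem' := ⟨one_mem _, fun y _ => by rw [map_one]; exact Commute.one_left _⟩
      mul_mem' := fun {a b} ha hb => ⟨mul_mem ha.1 hb.1, fun y hy => by
        rw [map_mul]; exact (ha.2 y hy).mul_left (hb.2 y hy)⟩
      inv_mem' := fun {a} ha => ⟨inv_mem ha.1, fun y hy => by
        have h := (ha.2 y hy).eq
        show π a⁻¹ * π y = π y * π a⁻¹
        calc π a⁻¹ * π y = π a⁻¹ * (π y * π a) * π a⁻¹ := by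
              rw [mul_assoc, mul_assoc, pi_mul_inv, mul_one]
          _ = π y * π a⁻¹ := by rw [← h, ← mul_assoc, pi_inv_mul, one_mul]⟩ }
  have hZ : ∀ {u v : Γ}, u ∈ T → v ∈ T → ⁅u, v⁆ ∈ Zc := fun {u v} hu hv => ⟨L.comm_mem hu v,
    fun y hy => by
      rw [commute_iff_eq, ← map_mul, ← map_mul, show ⁅u, v⁆ * y = ⁅⁅u, v⁆, y⁆ * (y * ⁅u, v⁆) by
        simp only [commutatorElement_def]; group, map_mul, L.nice u hu v hv y hy, one_mul]⟩
  have hZT : Zc ≤ T := fun z hz => hz.1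
  have hZs : ∀ z ∈ Zc, s * z * s⁻¹ ∈ Zc := fun z hz => ⟨L.conj_mem s hz.1, fun y hy => by
    have h := (hz.2 _ (L.conj_mem' s hy)).eq
    rw [commute_iff_eq, ← map_mul, ← map_mul,
      show s * z * s⁻¹ * y = s * (z * (s⁻¹ * y * s)) * s⁻¹ by group,
      show y * (s * z * s⁻¹) = s * (s⁻¹ * y * s * z) * s⁻¹ by group]
    simp only [← map_mul] at h
    rw [map_mul, map_mul π s, h, ← map_mul, ← map_mul]⟩
  have h1 : ∀ f, d ∉ N f → ∀ z ∈ ⁅Zc, Subgroup.zpowers s⁆,
      z • f = f ∧ ∀ v, π z v - v ∈ N f := fun f hf z hz => by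
    refine fix_of_osum L S hZT hZs hd (fun f' hB hf' z' hz' hmov => ?_) hf hz
    have hcomm : π z' d = π x (π z' c) - π z' c := by
      rw [hd', map_sub, ← Module.End.mul_apply, (hz'.2 x hx).eq, Module.End.mul_apply]
    have e : osum π s r (π z' d) = π x (osum π s r (π z' c)) - osum π s r (π z' c) := by
      rw [osum_comm hxs, hcomm]
      simp only [osum, map_sub, Finset.sum_sub_distrib]
    rw [e]
    exact (hD _ (pi_s_osum L _)).2 _ fun hb => hmov (S.bad_fixed _ hb)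
  have hA := comm_le_T L (le_refl T)
  have hZle : ⁅Zc, Subgroup.zpowers s⁆ ≤ Zc :=
    Coprime.commutator_le_of_le_normalizer (normalizer_of_conj hZs)
  have hAs : ∀ t ∈ ⁅T, Subgroup.zpowers s⁆, s * t * s⁻¹ ∈ ⁅T, Subgroup.zpowers s⁆ := comm_conj_mem
  refine fix_vec S (H := ⁅T, Subgroup.zpowers s⁆) (fun f hf y hy => ?_) ha
  refine fix_of_osum L S hA hAs hd (fun f' hB hf' a' ha' hmov => ?_) hf
    (by rwa [comm_self L le_rfl hTs])
  -- the commutator with `x` lies in the moved part of the centre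
  let S' : Subgroup Γ :=
    { carrier := {t | t ∈ T ∧ ∃ w ∈ ⁅Zc, Subgroup.zpowers s⁆, π ⁅t, x⁆ = π w}
      one_mem' := ⟨one_mem _, 1, one_mem _, by rw [commutatorElement_one_left]⟩
      mul_mem' := fun {u v} ⟨hu, w, hw, e⟩ ⟨hv, w', hw', e'⟩ => ⟨mul_mem hu hv, w' * w,
        mul_mem hw' hw, by
          rw [show ⁅u * v, x⁆ = u * ⁅v, x⁆ * u⁻¹ * ⁅u, x⁆ by
            simp only [commutatorElement_def]; group, map_mul, map_mul, map_mul,
            ← ((hZ hv hx).2 u hu).eq, mul_assoc (π ⁅v, x⁆), pi_mul_inv, mul_one, e, e', map_mul]⟩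
      inv_mem' := fun {u} ⟨hu, w, hw, e⟩ => ⟨inv_mem hu, w⁻¹, inv_mem hw, by
        have h2 : π (u⁻¹ * ⁅u, x⁆ * u) = π ⁅u, x⁆ := by
          rw [map_mul, map_mul, ← ((hZ hu hx).2 u⁻¹ (inv_mem hu)).eq, mul_assoc, pi_inv_mul, mul_one]
        rw [show ⁅u⁻¹, x⁆ = (u⁻¹ * ⁅u, x⁆ * u)⁻¹ by simp only [commutatorElement_def]; group]
        have h3 : π ((u⁻¹ * ⁅u, x⁆ * u)⁻¹) * π (u⁻¹ * ⁅u, x⁆ * u) = 1 := pi_inv_mul π _
        rw [h2, e] at h3
        calc π ((u⁻¹ * ⁅u, x⁆ * u)⁻¹) = π ((u⁻¹ * ⁅u, x⁆ * u)⁻¹) * (π w * π w⁻¹) := by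
              rw [pi_mul_inv, mul_one]
          _ = π w⁻¹ := by rw [← mul_assoc, h3, one_mul]⟩ }
  have hS' : ⁅T, Subgroup.zpowers s⁆ ≤ S' := by
    refine Subgroup.commutator_le.mpr fun u hu δ hδ => ⟨L.comm_mem hu δ,
      ⁅⁅u, x⁆, δ⁆, Subgroup.commutator_mem_commutator (hZ hu hx) hδ, ?_⟩
    have hδx : δ * x = x * δ := by
      obtain ⟨j, rfl⟩ := Subgroup.mem_zpowers_iff.mp hδ
      exact (Commute.zpow_left (show Commute s x from hxs) j).eq
    have hv : δ * u⁻¹ * δ⁻¹ ∈ T := L.conj_mem δ (inv_mem hu)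
    have e1 : ⁅u, δ⁆ = u * (δ * u⁻¹ * δ⁻¹) := by simp only [commutatorElement_def]; group
    have e2 : ⁅δ * u⁻¹ * δ⁻¹, x⁆ = δ * ⁅u⁻¹, x⁆ * δ⁻¹ := by
      simp only [commutatorElement_def]
      rw [show δ * (u⁻¹ * x * u⁻¹⁻¹ * x⁻¹) * δ⁻¹ =
        δ * u⁻¹ * δ⁻¹ * (δ * x * δ⁻¹) * (δ * u⁻¹ * δ⁻¹)⁻¹ * (δ * x * δ⁻¹)⁻¹ by group, hδx]
      group
    have e3 : π ⁅u⁻¹, x⁆ = π ⁅u, x⁆⁻¹ := by
      have h2 : π (u⁻¹ * ⁅u, x⁆⁻¹ * u) = π ⁅u, x⁆⁻¹ := by
        rw [map_mul, map_mul, ← ((Zc.inv_mem (hZ hu hx)).2 u⁻¹ (inv_mem hu)).eq, mul_assoc,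
          pi_inv_mul, mul_one]
      rw [← h2]
      congr 1
      simp only [commutatorElement_def]; group
    rw [e1, show ⁅u * (δ * u⁻¹ * δ⁻¹), x⁆ = u * ⁅δ * u⁻¹ * δ⁻¹, x⁆ * u⁻¹ * ⁅u, x⁆ by
      simp only [commutatorElement_def]; group]
    have hc1 := ((hZ hv hx).2 u hu).eq
    simp only [map_mul]
    rw [← hc1, mul_assoc (π ⁅δ * u⁻¹ * δ⁻¹, x⁆), pi_mul_inv, mul_one,
      ((hZ hv hx).2 ⁅u, x⁆ (L.comm_mem hu x)).eq, e2]
    rw [commutatorElement_def ⁅u, x⁆ δ]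
    simp only [map_mul, e3, mul_assoc]
  obtain ⟨-, w, hw, hwe⟩ := hS' ha'
  have e : π a' d = (π w (π x (π a' c)) - π x (π a' c)) + (π x (π a' c) - π a' c) := by
    rw [hd', map_sub, ← Module.End.mul_apply (π a'), ← map_mul,
      show a' * x = ⁅a', x⁆ * (x * a') by simp only [commutatorElement_def]; group, map_mul,
      Module.End.mul_apply, map_mul, Module.End.mul_apply, hwe]
    abel
  have e' : osum π s r (π a' d) = osum π s r (π w (π x (π a' c)) - π x (π a' c)) +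
      (π x (osum π s r (π a' c)) - osum π s r (π a' c)) := by
    rw [e, osum_comm hxs]
    simp only [osum, map_add, map_sub, Finset.sum_add_distrib, Finset.sum_sub_distrib]
  rw [e']
  refine add_mem ?_ ((hD _ (pi_s_osum L _)).2 _ fun hb => hmov (S.bad_fixed _ hb))
  refine Submodule.sum_mem _ fun i _ => ?_
  rw [← smul_inv_smul (s ^ i) (a' • f'), mem_N_iff S]
  -- the coordinate lies in the orbit
  set b := (s ^ i)⁻¹ * a' * s ^ i with hb
  have hbT : b ∈ T := L.conj_mem' _ (hA ha')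
  have hsi : s ^ i • f' = f' :=
    MulAction.mem_stabilizer_iff.mp (pow_mem (MulAction.mem_stabilizer_iff.mpr (S.bad_fixed f' hB)) i)
  have eo : (s ^ i)⁻¹ • a' • f' = b • f' := by
    rw [hb, mul_smul, mul_smul, hsi]
  rw [eo, show π w (π x (π a' c)) - π x (π a' c) =
    π b (π w (π b⁻¹ (π x (π a' c))) - π b⁻¹ (π x (π a' c))) by
    rw [map_sub, pi_apply_inv_apply, ← Module.End.mul_apply (π b),
      ← ((hZle hw).2 b hbT).eq, Module.End.mul_apply, pi_apply_inv_apply]]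
  exact S.equiv b f' _ ((h1 f' hf' w hw).2 _)

/-- If all fixed vectors lie in `K0`, the moved part centralises them. -/
theorem key_fix' (hD : ∀ c, π s c = c → c ∈ K0 π s N B) {c : V} (hc : π s c = c) {a : Γ}
    (ha : a ∈ ⁅T, Subgroup.zpowers s⁆) : π a c = c := by
  refine fix_vec S (H := ⁅T, Subgroup.zpowers s⁆) (fun f hf y hy => ?_) ha
  exact fix_of_osum L S le_rfl (fun t ht => L.conj_mem s ht) (hD c hc)
    (fun f' _ _ a' _ hmov => (hD _ (pi_s_osum L _)).2 _ fun hb => hmov (S.bad_fixed _ hb)) hf hy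

end

end Cfsg.Agent.Lib.PrimeFitting.Coord
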