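/-
The linearisation of a finite `p`-group of class two: classes and central elements of order `p`.
-/
import Cfsg.Agent.Lib.Coprime.Action
import Mathlib.Algebra.Module.ZMod
import Mathlib.Algebra.Field.ZMod
import Mathlib.LinearAlgebra.Dual.Lemmas
import Mathlib.LinearAlgebra.Basis.VectorSpace
import Mathlib.LinearAlgebra.TensorProduct.Tower
import Mathlib.RingTheory.TensorProduct.Finite
import Mathlib.GroupTheory.Abelianization.Defs
import Mathlib.GroupTheory.PGroup

set_option autoImplicit false
set_option linter.style.haveILetI false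
set_option linter.unusedSectionVars false

open scoped commutatorElement TensorProduct

namespace Cfsg.Agent.Lib.PrimeFitting.Lin

variable (A : Type*) [Group A] (p : ℕ)

/-- Commutators, `p`-th powers and the centre. -/
def P0 : Subgroup A :=
  Subgroup.center A ⊔ commutator A ⊔ Subgroup.closure {x | ∃ y : A, y ^ p = x}

instance P0_normal : (P0 A p).Normal := by
  refine ⟨fun x hx g => ?_⟩
  rw [show g * x * g⁻¹ = ⁅g, x⁆ * x by simp [commutatorElement_def, mul_assoc]]
  exact mul_mem (Subgroup.mem_sup_left (Subgroup.mem_sup_right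
    (Subgroup.commutator_mem_commutator (Subgroup.mem_top g) (Subgroup.mem_top x)))) hx

/-- The central elements of order dividing `p`. -/
def Om : Subgroup A where
  carrier := {z | z ∈ Subgroup.center A ∧ z ^ p = 1}
  one_mem' := ⟨one_mem _, one_pow p⟩
  mul_mem' := fun {a b} ha hb => ⟨mul_mem ha.1 hb.1, by
    rw [Commute.mul_pow (show Commute a b from (Subgroup.mem_center_iff.mp hb.1 a)), ha.2, hb.2,
      mul_one]⟩
  inv_mem' := fun {a} ha => ⟨inv_mem ha.1, by rw [inv_pow, ha.2, inv_one]⟩

instance quotCommGroup : CommGroup (A ⧸ P0 A p) :=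
  { (inferInstance : Group (A ⧸ P0 A p)) with
    mul_comm := fun a b => by
      induction a using QuotientGroup.induction_on with | _ a => ?_
      induction b using QuotientGroup.induction_on with | _ b => ?_
      rw [← QuotientGroup.mk_mul, ← QuotientGroup.mk_mul, QuotientGroup.eq]
      have h : ⁅b⁻¹, a⁻¹⁆ ∈ P0 A p := Subgroup.mem_sup_left (Subgroup.mem_sup_right
        (Subgroup.commutator_mem_commutator (Subgroup.mem_top _) (Subgroup.mem_top _)))
      simpa [commutatorElement_def, mul_assoc] using h }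

instance omCommGroup : CommGroup (Om A p) :=
  { (inferInstance : Group (Om A p)) with
    mul_comm := fun a b => Subtype.ext (Subgroup.mem_center_iff.mp b.2.1 a) }

instance quotModule : Module (ZMod p) (Additive (A ⧸ P0 A p)) :=
  AddCommGroup.zmodModule fun x => by
    obtain ⟨x, rfl⟩ := Additive.ofMul.surjective x
    induction x using QuotientGroup.induction_on with | _ x => ?_
    rw [← ofMul_pow, ← QuotientGroup.mk_pow]
    exact congrArg Additive.ofMul ((QuotientGroup.eq_one_iff (x ^ p)).mpr
      (Subgroup.mem_sup_right (Subgroup.subset_closure ⟨x, rfl⟩)))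

instance omModule : Module (ZMod p) (Additive (Om A p)) :=
  AddCommGroup.zmodModule fun x => by
    obtain ⟨x, rfl⟩ := Additive.ofMul.surjective x
    rw [← ofMul_pow]
    exact congrArg Additive.ofMul (show x ^ p = 1 from Subtype.ext (show (x : A) ^ p = 1 from x.2.2))

/-- The linearisation. -/
abbrev Mod := Additive (A ⧸ P0 A p) × Additive (Om A p)

variable {A p}

/-- The class of an element. -/
def cl (a : A) : Mod A p := (Additive.ofMul (a : A ⧸ P0 A p), 0)

/-- A central element of order `p`. -/
def om (z : Om A p) : Mod A p := (0, Additive.ofMul z)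

theorem P0_map (e : MulAut A) {x : A} (hx : x ∈ P0 A p) : e x ∈ P0 A p := by
  have hle : P0 A p ≤ (P0 A p).comap e.toMonoidHom := by
    refine sup_le (sup_le (fun y hy => ?_) ?_) ((Subgroup.closure_le _).mpr ?_)
    · refine Subgroup.mem_comap.mpr (Subgroup.mem_sup_left (Subgroup.mem_sup_left ?_))
      rw [Subgroup.mem_center_iff] at hy ⊢
      intro g
      have := congrArg e (hy (e.symm g))
      simpa using this
    · rw [commutator_def, Subgroup.commutator_le]
      intro a _ b _
      refine Subgroup.mem_comap.mpr (Subgroup.mem_sup_left (Subgroup.mem_sup_right ?_))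
      rw [map_commutatorElement, commutator_def]
      exact Subgroup.commutator_mem_commutator (Subgroup.mem_top _) (Subgroup.mem_top _)
    · rintro _ ⟨y, rfl⟩
      exact Subgroup.mem_comap.mpr (Subgroup.mem_sup_right
        (Subgroup.subset_closure ⟨e y, (map_pow e y p).symm⟩))
  exact hle hx

/-- The action on classes. -/
def quotMap (e : MulAut A) : A ⧸ P0 A p →* A ⧸ P0 A p :=
  QuotientGroup.map _ _ e.toMonoidHom fun _ hx => P0_map e hx

/-- The action on central elements. -/
def omMap (e : MulAut A) : Om A p →* Om A p where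
  toFun z := ⟨e z, by
    refine ⟨Subgroup.mem_center_iff.mpr fun g => ?_, by rw [← map_pow, z.2.2, map_one]⟩
    have := congrArg e (Subgroup.mem_center_iff.mp z.2.1 (e.symm g))
    simpa using this⟩
  map_one' := Subtype.ext (map_one e)
  map_mul' a b := Subtype.ext (map_mul e _ _)

/-- The linear action. -/
def lin : MulAut A →* Module.End (ZMod p) (Mod A p) where
  toFun e := LinearMap.prodMap ((MonoidHom.toAdditive (quotMap e)).toZModLinearMap p)
    ((MonoidHom.toAdditive (omMap e)).toZModLinearMap p)
  map_one' := LinearMap.ext fun v => by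
    obtain ⟨a, z⟩ := v
    obtain ⟨a, rfl⟩ := Additive.ofMul.surjective a
    induction a using QuotientGroup.induction_on with | _ a => ?_
    rfl
  map_mul' e f := LinearMap.ext fun v => by
    obtain ⟨a, z⟩ := v
    obtain ⟨a, rfl⟩ := Additive.ofMul.surjective a
    induction a using QuotientGroup.induction_on with | _ a => ?_
    rfl

theorem lin_cl (e : MulAut A) (a : A) : lin e (cl (p := p) a) = cl (e a) :=
  Prod.ext rfl (map_zero ((MonoidHom.toAdditive (omMap e)).toZModLinearMap p))

theorem lin_om (e : MulAut A) (z : Om A p) : lin e (om z) = om (omMap e z) :=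
  Prod.ext (map_zero ((MonoidHom.toAdditive (quotMap (p := p) e)).toZModLinearMap p)) rfl

theorem exists_eq_add (l : Mod A p) : ∃ (a : A) (z : Om A p), l = cl a + om z := by
  obtain ⟨x, z⟩ := l
  obtain ⟨a, rfl⟩ := Additive.ofMul.surjective x
  induction a using QuotientGroup.induction_on with | _ a => ?_
  exact ⟨a, Additive.toMul z, by simp [cl, om]⟩

theorem cl_sub_cl (a b : A) : cl (p := p) a - cl b = cl (a * b⁻¹) := by
  simp [cl, sub_eq_add_neg]

theorem om_sub_om (a b : Om A p) : om a - om b = om (a * b⁻¹) := by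
  simp [om, sub_eq_add_neg]

/-- The subspace of a pair of subgroups. -/
def sub (B E : Subgroup A) : Submodule (ZMod p) (Mod A p) :=
  (Subgroup.toAddSubgroup (B.map (QuotientGroup.mk' (P0 A p)))).toZModSubmodule p |>.prod
    ((Subgroup.toAddSubgroup (E.subgroupOf (Om A p))).toZModSubmodule p)

theorem mem_sub_iff {B E : Subgroup A} {a : A} {z : Om A p} :
    cl a + om z ∈ sub (p := p) B E ↔
      (a : A ⧸ P0 A p) ∈ B.map (QuotientGroup.mk' (P0 A p)) ∧ (z : A) ∈ E := by
  simp [sub, cl, om, Submodule.mem_prod, Subgroup.mem_subgroupOf]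

theorem cl_mem_sub {B E : Subgroup A} {a : A} (ha : a ∈ B) : cl a ∈ sub (p := p) B E := by
  have h : cl a + om 1 ∈ sub (p := p) B E := mem_sub_iff.mpr ⟨⟨a, ha, rfl⟩, one_mem _⟩
  simpa [om, Prod.mk_zero_zero] using h

theorem om_mem_sub {B E : Subgroup A} {z : Om A p} (hz : (z : A) ∈ E) : om z ∈ sub B E := by
  have h : cl 1 + om z ∈ sub (p := p) B E := mem_sub_iff.mpr ⟨one_mem _, hz⟩
  simpa [cl, Prod.mk_zero_zero] using h

theorem lin_mem_sub (e : MulAut A) {B E B' E' : Subgroup A} (hB : ∀ a ∈ B, e a ∈ B')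
    (hE : ∀ z ∈ E, e z ∈ E') {l : Mod A p} (hl : l ∈ sub B E) : lin e l ∈ sub B' E' := by
  obtain ⟨a, z, rfl⟩ := exists_eq_add l
  obtain ⟨⟨b, hb, hbe⟩, hz⟩ := mem_sub_iff.mp hl
  rw [map_add, lin_cl, lin_om, mem_sub_iff]
  refine ⟨⟨e b, hB b hb, ?_⟩, hE _ hz⟩
  exact congrArg (quotMap e) hbe

/-- Trivial on classes and central elements modulo the pair. -/
theorem lin_sub_mem (e : MulAut A) {B E : Subgroup A} (hB : ∀ a, e a * a⁻¹ ∈ B)
    (hE : ∀ z : Om A p, e z * (z : A)⁻¹ ∈ E) (l : Mod A p) : lin e l - l ∈ sub B E := by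
  obtain ⟨a, z, rfl⟩ := exists_eq_add l
  rw [map_add, lin_cl, lin_om, add_sub_add_comm, cl_sub_cl, om_sub_om]
  exact add_mem (cl_mem_sub (hB a)) (om_mem_sub (hE z))

/-- An automorphism of order prime to `p` trivial on the linearisation is trivial. -/
theorem eq_one_of_lin [Finite A] [Fact p.Prime] (hA : IsPGroup p A)
    (hP0 : P0 A p ≤ Subgroup.center A) {e : MulAut A} {n : ℕ} (hn : e ^ n = 1) (hcop : n.Coprime p)
    (h : lin (p := p) e = 1) : e = 1 := by
  have hfix : ∀ a : A, e (e a * a⁻¹) = e a * a⁻¹ → e a = a := by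
    intro a hd
    set d := e a * a⁻¹ with hd'
    have hea : e a = d * a := by rw [hd', inv_mul_cancel_right]
    clear_value d
    have hk : ∀ k : ℕ, (e ^ k) a = d ^ k * a := by
      intro k
      induction k with
      | zero => simp
      | succ k ih =>
        rw [pow_succ', MulAut.mul_apply, ih, map_mul, map_pow, hd, hea, pow_succ, mul_assoc]
    have h0 := hk n
    rw [hn, MulAut.one_apply, eq_comm, mul_eq_right] at h0
    obtain ⟨l, hl⟩ := hA d
    have := pow_gcd_eq_one.mpr ⟨h0, hl⟩
    rw [(Nat.Coprime.pow_right l hcop).gcd_eq_one, pow_one] at this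
    rw [hea, this, one_mul]
  have hOm : ∀ z : Om A p, e z = z := fun z => by
    have h1 := LinearMap.congr_fun h (om z)
    rw [lin_om, Module.End.one_apply] at h1
    exact congrArg (fun w : Mod A p => ((Additive.toMul w.2 : Om A p) : A)) h1
  have hZ : ∀ (l : ℕ) (z : A), z ∈ Subgroup.center A → z ^ p ^ l = 1 → e z = z := by
    intro l
    induction l with
    | zero => intro z _ hz; rw [pow_zero, pow_one] at hz; rw [hz, map_one]
    | succ l ih =>
      intro z hz hzl
      have h1 : e (z ^ p) = z ^ p := ih _ (pow_mem hz p) (by rw [← pow_mul, ← pow_succ']; exact hzl)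
      refine hfix z (hOm ⟨e z * z⁻¹, mul_mem ?_ (inv_mem hz), ?_⟩)
      · refine Subgroup.mem_center_iff.mpr fun g => ?_
        have := congrArg e (Subgroup.mem_center_iff.mp hz (e.symm g))
        simpa using this
      · rw [Commute.mul_pow (show Commute (e z) z⁻¹ from
          (Subgroup.mem_center_iff.mp (inv_mem hz) (e z))), ← map_pow, h1, inv_pow, mul_inv_cancel]
  refine MulEquiv.ext fun a => hfix a ?_
  have h1 := LinearMap.congr_fun h (cl a)
  rw [lin_cl, Module.End.one_apply] at h1
  have h2 : ((e a : A) : A ⧸ P0 A p) = (a : A ⧸ P0 A p) := congrArg Prod.fst h1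
  have h3 : e a * a⁻¹ ∈ P0 A p := by
    rw [← QuotientGroup.eq_one_iff, QuotientGroup.mk_mul, QuotientGroup.mk_inv, h2, mul_inv_cancel]
  obtain ⟨l, hl⟩ := hA (e a * a⁻¹)
  exact hZ l _ (hP0 h3) hl

/-! ### Scalars -/

section Scalars

variable (k : Type*) [Field k] [Fact p.Prime] [Algebra (ZMod p) k]

/-- The representation on the extended space. -/
noncomputable def rep : MulAut A →* Module.End k (k ⊗[ZMod p] Mod A p) where
  toFun e := (lin e).baseChange k
  map_one' := by
    refine TensorProduct.AlgebraTensorModule.ext fun c l => ?_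
    rw [LinearMap.baseChange_tmul, map_one]; rfl
  map_mul' e f := by
    refine TensorProduct.AlgebraTensorModule.ext fun c l => ?_
    rw [Module.End.mul_apply, LinearMap.baseChange_tmul, LinearMap.baseChange_tmul,
      LinearMap.baseChange_tmul, map_mul]
    rfl

theorem rep_tmul (e : MulAut A) (c : k) (l : Mod A p) : rep k e (c ⊗ₜ l) = c ⊗ₜ lin e l :=
  LinearMap.baseChange_tmul _ _ _

theorem lin_of_rep {e : MulAut A} (h : rep (p := p) k e = 1) : lin (p := p) e = 1 := by
  refine LinearMap.ext fun l => sub_eq_zero.mp ?_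
  refine (Module.forall_dual_apply_eq_zero_iff (ZMod p) _).mp fun φ => ?_
  have h1 := congrArg (fun t : k ⊗[ZMod p] Mod A p => TensorProduct.rid (ZMod p) k (φ.lTensor k t))
    (LinearMap.congr_fun h ((1 : k) ⊗ₜ[ZMod p] l))
  simp only [rep_tmul, Module.End.one_apply, LinearMap.lTensor_tmul, TensorProduct.rid_tmul,
    Algebra.smul_def, mul_one] at h1
  rw [map_sub, sub_eq_zero, Module.End.one_apply]
  exact (algebraMap (ZMod p) k).injective h1

/-- The kernel of a coordinate. -/
noncomputable def ker (W : Submodule (ZMod p) (Mod A p)) : Submodule k (k ⊗[ZMod p] Mod A p) :=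
  LinearMap.ker (W.mkQ.baseChange k)

theorem tmul_mem_ker {W : Submodule (ZMod p) (Mod A p)} {l : Mod A p} (hl : l ∈ W) (c : k) :
    c ⊗ₜ l ∈ ker k W := by
  rw [ker, LinearMap.mem_ker, LinearMap.baseChange_tmul, Submodule.mkQ_apply,
    (Submodule.Quotient.mk_eq_zero W).mpr hl, TensorProduct.tmul_zero]

theorem eq_zero_of_ker {ι : Type*} [Finite ι] (W : ι → Submodule (ZMod p) (Mod A p))
    (hW : ∀ l, (∀ i, l ∈ W i) → l = 0) {v : k ⊗[ZMod p] Mod A p} (hv : ∀ i, v ∈ ker k (W i)) :
    v = 0 := by
  classical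
  haveI := Fintype.ofFinite ι
  let J : Mod A p →ₗ[ZMod p] (∀ i, Mod A p ⧸ W i) := LinearMap.pi fun i => (W i).mkQ
  have hJ : LinearMap.ker J = ⊥ := LinearMap.ker_eq_bot'.mpr fun l hl =>
    hW l fun i => (Submodule.Quotient.mk_eq_zero _).mp (congrFun hl i)
  obtain ⟨H, hH⟩ := J.exists_leftInverse_of_injective hJ
  let a : ∀ i, (Mod A p ⧸ W i) →ₗ[ZMod p] Mod A p := fun i =>
    H.comp (LinearMap.single (ZMod p) (fun i => Mod A p ⧸ W i) i)
  have key : ∀ w : k ⊗[ZMod p] Mod A p,
      w = ∑ i, (a i).baseChange k ((W i).mkQ.baseChange k w) := by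
    intro w
    induction w using TensorProduct.induction_on with
    | zero => simp
    | tmul c l =>
      simp only [LinearMap.baseChange_tmul, ← TensorProduct.tmul_sum]
      congr 1
      conv_lhs => rw [← show H (J l) = l from LinearMap.congr_fun hH l,
        ← Finset.univ_sum_single (J l), map_sum]
      rfl
    | add x y hx hy =>
      conv_lhs => rw [hx, hy]
      simp only [map_add, Finset.sum_add_distrib]
  rw [key v]
  exact Finset.sum_eq_zero fun i _ => by rw [LinearMap.mem_ker.mp (hv i), map_zero]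

theorem rep_mem_ker (e : MulAut A) {W W' : Submodule (ZMod p) (Mod A p)}
    (h : ∀ l ∈ W, lin e l ∈ W') {v : k ⊗[ZMod p] Mod A p} (hv : v ∈ ker k W) :
    rep k e v ∈ ker k W' := by
  let ē := W.mapQ W' (lin e) h
  have key : ∀ w : k ⊗[ZMod p] Mod A p,
      W'.mkQ.baseChange k (rep k e w) = ē.baseChange k (W.mkQ.baseChange k w) := by
    intro w
    induction w using TensorProduct.induction_on with
    | zero => simp
    | tmul c l => rfl
    | add x y hx hy => simp only [map_add, hx, hy]
  rw [ker, LinearMap.mem_ker, key, LinearMap.mem_ker.mp hv, map_zero]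

theorem rep_sub_mem_ker (e : MulAut A) {W : Submodule (ZMod p) (Mod A p)}
    (h : ∀ l, lin e l - l ∈ W) (v : k ⊗[ZMod p] Mod A p) : rep k e v - v ∈ ker k W := by
  induction v using TensorProduct.induction_on with
  | zero => simp
  | tmul c l => rw [rep_tmul, ← TensorProduct.tmul_sub]; exact tmul_mem_ker k (h l) c
  | add x y hx hy => rw [map_add, add_sub_add_comm]; exact add_mem hx hy

/-- Fixed vectors come from fixed elements. -/
theorem fixed_mem [Finite A] {e : MulAut A} {r : ℕ} (hr : e ^ r = 1) (hr0 : (r : k) ≠ 0)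
    (hcop : r.Coprime (Nat.card A)) {M : Submodule k (k ⊗[ZMod p] Mod A p)}
    (hcl : ∀ a : A, e a = a → (1 : k) ⊗ₜ cl (p := p) a ∈ M)
    (hom : ∀ z : Om A p, e z = z → (1 : k) ⊗ₜ om z ∈ M) {v : k ⊗[ZMod p] Mod A p}
    (hv : rep k e v = v) : v ∈ M := by
  have hfix : ∀ l : Mod A p, lin e l = l → (1 : k) ⊗ₜ l ∈ M := by
    intro l hl
    obtain ⟨a, z, rfl⟩ := exists_eq_add l
    rw [map_add, lin_cl, lin_om] at hl
    have h1 : ((e a : A) : A ⧸ P0 A p) = (a : A ⧸ P0 A p) := by
      simpa [cl, om] using congrArg Prod.fst hl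
    have h2 : omMap e z = z := by simpa [cl, om] using congrArg Prod.snd hl
    haveI : Finite (MulAut A) := Finite.of_injective _ DFunLike.coe_injective
    have hP : ∀ (f : Subgroup.zpowers e), ∀ x ∈ P0 A p, f • x ∈ P0 A p := fun f x hx => P0_map _ hx
    obtain ⟨n, hn, hne⟩ := Coprime.Action.exists_mul_fixed (A := Subgroup.zpowers e) (G := A) hP
      (Nat.Coprime.coprime_dvd_right (Subgroup.card_subgroup_dvd_card _)
        (by rw [Nat.card_zpowers]; exact hcop.coprime_dvd_left (orderOf_dvd_of_pow_eq_one hr)))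
      (Or.inl (Coprime.isSolvable_zpowers e)) (g := a) (fun f => by
        obtain ⟨f, hf⟩ := f
        obtain ⟨j, rfl⟩ := (mem_powers_iff_mem_zpowers (x := e) (y := f)).mpr hf
        show a⁻¹ * (e ^ j) a ∈ P0 A p
        clear hf
        induction j with
        | zero => simp
        | succ j ih =>
          have h3 := P0_map e ih
          rw [map_mul, map_inv, ← MulAut.mul_apply, ← pow_succ'] at h3
          have h4 : a⁻¹ * e a ∈ P0 A p := QuotientGroup.eq.mp h1.symm
          have := mul_mem h4 h3
          rwa [← mul_assoc, mul_inv_cancel_right] at this)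
    have hfixn : e (a * n) = a * n := hne ⟨e, Subgroup.mem_zpowers e⟩
    have hcl' : cl (p := p) (a * n) = cl a := by
      simp [cl, (QuotientGroup.eq_one_iff n).mpr hn]
    rw [TensorProduct.tmul_add, ← hcl']
    exact add_mem (hcl _ hfixn) (hom z (congrArg Subtype.val h2))
  have key : ∀ w : k ⊗[ZMod p] Mod A p, ∑ i ∈ Finset.range r, rep k (e ^ i) w ∈ M := by
    intro w
    induction w using TensorProduct.induction_on with
    | zero => simp
    | tmul c l =>
      simp only [rep_tmul, ← TensorProduct.tmul_sum]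
      rw [show (c : k) = c • (1 : k) from (mul_one c).symm, ← TensorProduct.smul_tmul']
      refine M.smul_mem c (hfix _ ?_)
      rw [map_sum]
      simp only [← Module.End.mul_apply, ← map_mul, ← pow_succ']
      have h1 := Finset.sum_range_succ' (fun i => lin (e ^ i) l) r
      rw [Finset.sum_range_succ, hr, pow_zero] at h1
      exact add_right_cancel h1.symm
    | add x y hx hy => simp only [map_add, Finset.sum_add_distrib]; exact add_mem hx hy
  have h1 := key v
  have h2 : ∀ i : ℕ, rep k (e ^ i) v = v := by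
    intro i
    induction i with
    | zero => simp
    | succ i ih => rw [pow_succ, map_mul, Module.End.mul_apply, hv, ih]
  rw [Finset.sum_congr rfl fun i _ => h2 i, Finset.sum_const, Finset.card_range,
    ← Nat.cast_smul_eq_nsmul k, Submodule.smul_mem_iff _ hr0] at h1
  exact h1

end Scalars

end Cfsg.Agent.Lib.PrimeFitting.Lin
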