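/-
From fixed vectors to points: elements fixing the unaveraged fixed vectors are trivial at all large
points.
-/
import Cfsg.Agent.Lib.PrimeFitting.Coord

set_option autoImplicit false
set_option linter.style.haveILetI false
set_option linter.unusedSectionVars false

open scoped commutatorElement

namespace Cfsg.Agent.Lib.PrimeFitting.Coord

open Points

variable {Γ : Type*} [Group Γ] [Finite Γ] {k : Type*} [Field k] [IsAlgClosed k] {V : Type*}
  [AddCommGroup V] [Module k V] [FiniteDimensional k V]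
  {π : Γ →* Module.End k V} {T : Subgroup Γ} {q r : ℕ} {s : Γ}

omit [IsAlgClosed k] [FiniteDimensional k V] in
theorem proj_congr (L : Level π T q s r) {g g' : Pt Γ k} (e : g = g') (h : IsPoint π T g)
    (h' : IsPoint π T g') : h.proj L = h'.proj L := by
  subst e; rfl

omit [Finite Γ] in
theorem comm_map {A : Subgroup Γ} {γ : Γ} (hA : ∀ a ∈ A, γ * a * γ⁻¹ ∈ A) (hγ : γ * s = s * γ)
    {a : Γ} (ha : a ∈ ⁅A, Subgroup.zpowers s⁆) : γ * a * γ⁻¹ ∈ ⁅A, Subgroup.zpowers s⁆ := by
  have hle : ⁅A, Subgroup.zpowers s⁆ ≤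
      (⁅A, Subgroup.zpowers s⁆).comap (MulAut.conj γ).toMonoidHom := by
    refine Subgroup.commutator_le.mpr fun u hu δ hδ => Subgroup.mem_comap.mpr ?_
    obtain ⟨j, rfl⟩ := Subgroup.mem_zpowers_iff.mp hδ
    have hj : γ * s ^ j * γ⁻¹ = s ^ j := by
      rw [(Commute.zpow_right (show Commute γ s from hγ) j).eq, mul_inv_cancel_right]
    show γ * ⁅u, s ^ j⁆ * γ⁻¹ ∈ _
    rw [show γ * ⁅u, s ^ j⁆ * γ⁻¹ = ⁅γ * u * γ⁻¹, γ * s ^ j * γ⁻¹⁆ by
      simp only [commutatorElement_def]; group, hj]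
    exact Subgroup.commutator_mem_commutator (hA u hu) hδ
  exact hle ha

variable (L : Level π T q s r)
include L

theorem avg_comm_of_commute {γ : Γ} (hγ : γ * s = s * γ) :
    Commute (π γ) (avg π ⁅T, Subgroup.zpowers s⁆) :=
  avg_commute (mul_left_invariant fun _ ha => comm_map (fun a ha' => L.conj_mem γ ha') hγ ha)

omit [IsAlgClosed k] [FiniteDimensional k V] in
/-- A moved point takes a value other than one on the commutators with `s`. -/
theorem exists_scalar_of_moved {g : Pt Γ k} (h : IsPoint π T g) (hg : s • g ≠ g) :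
    ∃ a ∈ ⁅T, Subgroup.zpowers s⁆, g a ≠ 0 ∧ g a ≠ 1 := by
  have hstep : ∀ y ∈ T, g y ≠ 0 → g (s⁻¹ * y * s) ≠ 0 → g (s⁻¹ * y * s) ≠ g y →
      ∃ a ∈ ⁅T, Subgroup.zpowers s⁆, g a ≠ 0 ∧ g a ≠ 1 := by
    intro y hy hy0 hy1 hne
    have hyinv : g y⁻¹ ≠ 0 := (h.supportSubgroup L).inv_mem hy0
    refine ⟨y⁻¹ * (s⁻¹ * y * s), ?_, ?_, ?_⟩
    · rw [show y⁻¹ * (s⁻¹ * y * s) = ⁅y⁻¹, s⁻¹⁆ by simp [commutatorElement_def, mul_assoc]]
      exact Subgroup.commutator_mem_commutator (inv_mem hy) (inv_mem (Subgroup.mem_zpowers s))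
    · rw [h.mul _ _ hyinv hy1]
      exact mul_ne_zero hyinv hy1
    · intro e
      rw [h.mul _ _ hyinv hy1] at e
      have e' := h.mul _ _ hyinv hy0
      rw [inv_mul_cancel, h.one] at e'
      exact hne (mul_left_cancel₀ hyinv (e.trans e'))
  have hsg := L.isPoint_smul h s
  by_cases hc : ∀ a ∈ T, ∀ b ∈ T, (s • g) ⁅a, b⁆ = g ⁅a, b⁆
  · have hrad : ∀ x ∈ T, (s • g) x ≠ 0 ↔ g x ≠ 0 := fun x hx => by
      rw [hsg.rad x hx, h.rad x hx]
      exact forall₂_congr fun y hy => by rw [hc x hx y hy]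
    obtain ⟨y, hy⟩ : ∃ y, (s • g) y ≠ g y := by
      by_contra hcon
      push Not at hcon
      exact hg (Pt.ext hcon)
    have hyT : y ∈ T := by
      by_contra hyT
      refine hy ?_
      rw [show (s • g) y = 0 by by_contra h1; exact hyT (hsg.supp y h1),
        show g y = 0 by by_contra h1; exact hyT (h.supp y h1)]
    have hy0 : g y ≠ 0 := fun h0 => hy (by
      rw [h0]; by_contra h1; exact ((hrad y hyT).mp h1) h0)
    exact hstep y hyT hy0 ((hrad y hyT).mpr hy0) hy
  · push Not at hc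
    obtain ⟨a, ha, b, hb, hne⟩ := hc
    exact hstep ⁅a, b⁆ (L.comm_mem ha b) (h.comm_ne_zero L ha hb) (hsg.comm_ne_zero L ha hb) hne

omit [IsAlgClosed k] [FiniteDimensional k V] in
theorem pow_ne_of_moved {g : Pt Γ k} (hg : s • g ≠ g) {i : ℕ} (hi0 : i ≠ 0) (hir : i < r) :
    s ^ i • g ≠ g := fun e => by
  obtain ⟨j, hj⟩ := eq_pow_pow L.rprime L.pow (i := i)
    (fun hd => absurd (Nat.le_of_dvd (Nat.pos_of_ne_zero hi0) hd) (not_le.mpr hir))
  have := pow_fixed e j
  rw [hj] at this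
  exact hg this

/-- The component of an orbit sum. -/
theorem proj_osum {g : Pt Γ k} (h : IsPoint π T g) (hg : s • g ≠ g) {w : V} (hw : w ∈ W π g) :
    h.proj L (osum π s r w) = w := by
  rw [osum, map_sum, Finset.sum_eq_single 0]
  · rw [pow_zero, map_one, Module.End.one_apply, h.proj_eq_self L hw]
  · intro i hi hi0
    exact h.proj_eq_zero L (L.isPoint_smul h _)
      (pow_ne_of_moved L hg hi0 (Finset.mem_range.mp hi)) (pi_mem_W_smul hw)
  · intro h'; exact absurd (Finset.mem_range.mpr L.rprime.pos) h'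

/-- The average over the moved part kills large points. -/
theorem avg_eq_zero_of_W {g : Pt Γ k} (h : IsPoint π T g) (hbad : ¬ Bad T s r g) {w : V}
    (hw : w ∈ W π g) : avg π ⁅T, Subgroup.zpowers s⁆ w = 0 := by
  by_cases hg : s • g = g
  · obtain ⟨u, hu, v, hv, huv⟩ := h.exists_pair_ne_one L hg hbad
    have hu' := comm_le_T L le_rfl hu
    have hv' := comm_le_T L le_rfl hv
    exact avg_eq_zero_of_scalar
      (by rw [commutatorElement_def]; exact mul_mem (mul_mem (mul_mem hu hv) (inv_mem hu)) (inv_mem hv))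
      huv (hw _ (h.comm_ne_zero L hu' hv'))
  · obtain ⟨a, ha, ha0, ha1⟩ := exists_scalar_of_moved L h hg
    exact avg_eq_zero_of_scalar ha ha1 (hw a ha0)

theorem avg_osum_eq_zero {g : Pt Γ k} (h : IsPoint π T g) (hbad : ¬ Bad T s r g) {w : V}
    (hw : w ∈ W π g) : avg π ⁅T, Subgroup.zpowers s⁆ (osum π s r w) = 0 := by
  rw [osum, map_sum]
  refine Finset.sum_eq_zero fun i _ => ?_
  rw [← Module.End.mul_apply,
    ← (avg_comm_of_commute L (γ := s ^ i) (Commute.self_pow s i).symm.eq).eq,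
    Module.End.mul_apply, avg_eq_zero_of_W L h hbad hw, map_zero]

/-- An element fixing all unaveraged fixed vectors is trivial at every large point. -/
theorem key1 {x : Γ} (hx : x ∈ T) (hxs : s * x = x * s)
    (hfix : ∀ v, π s v = v → avg π ⁅T, Subgroup.zpowers s⁆ v = 0 → π x v = v)
    {g : Pt Γ k} (h : IsPoint π T g) (hbad : ¬ Bad T s r g) : g x = 1 := by
  by_cases hg : s • g = g
  · exact h.eq_one_of_fixed L hg hbad hx hxs fun v hv hsv =>
      hfix v hsv (avg_eq_zero_of_W L h hbad hv)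
  · refine h.eq_one_of_trivial L hx fun w hw => ?_
    have h1 := hfix _ (pi_s_osum L w) (avg_osum_eq_zero L h hbad hw)
    rw [osum_comm hxs] at h1
    have h2 := congrArg (h.proj L) h1
    rwa [proj_osum L h hg hw, proj_osum L h hg (h.smul_mem_W L hx hw)] at h2

/-- Without unaveraged fixed vectors there are only small points. -/
theorem all_bad (h0 : ∀ v, π s v = v → avg π ⁅T, Subgroup.zpowers s⁆ v = 0 → v = 0)
    {g : Pt Γ k} (h : IsPoint π T g) : Bad T s r g := by
  by_contra hbad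
  by_cases hg : s • g = g
  · obtain ⟨v, hv, hv0, hvs⟩ := h.exists_eigen L hg hbad (one_pow r)
    rw [one_smul] at hvs
    exact hv0 (h0 v hvs (avg_eq_zero_of_W L h hbad hv))
  · obtain ⟨w, hw0, hw⟩ := h.exists_vec
    have h2 := proj_osum L h hg (mem_W.mpr hw)
    rw [h0 _ (pi_s_osum L w) (avg_osum_eq_zero L h hbad (mem_W.mpr hw)), map_zero] at h2
    exact hw0 h2.symm

section Sys

variable {Ω : Type*} [MulAction Γ Ω] {N : Ω → Submodule k V} {B : Ω → Prop} (S : Sys π T s N B)
include S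

/-- Fixed elements moving fixed vectors into `K0` are trivial at large points. -/
theorem kill_step {x : Γ} (hx : x ∈ T) (hxs : s * x = x * s)
    (hD : ∀ c, π s c = c → π x c - c ∈ K0 π s N B) {g : Pt Γ k} (h : IsPoint π T g)
    (hbad : ¬ Bad T s r g) : g x = 1 := by
  refine key1 L hx hxs (fun v hv hv0 => ?_) h hbad
  have h1 : avg π ⁅T, Subgroup.zpowers s⁆ (π x v - v) = π x v - v :=
    avg_eq_self (L.card_cast (comm_le_T L le_rfl)) fun a ha => key_fix L S hx hxs hD hv ha
  rw [map_sub, ← Module.End.mul_apply, ← (avg_comm_of_commute L hxs.symm).eq,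
    Module.End.mul_apply, hv0, map_zero, sub_zero] at h1
  exact (sub_eq_zero.mp h1.symm)

/-- If all fixed vectors lie in `K0`, all points are small. -/
theorem all_bad_of_K0 (hD : ∀ c, π s c = c → c ∈ K0 π s N B) {g : Pt Γ k} (h : IsPoint π T g) :
    Bad T s r g :=
  all_bad L (fun v hv hv0 => by
    rw [← avg_eq_self (L.card_cast (comm_le_T L le_rfl)) fun a ha => key_fix' L S hD hv ha, hv0]) h

end Sys

end Cfsg.Agent.Lib.PrimeFitting.Coord
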