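/-
Fixed points are separated by fixed elements; vectors of `K0` are detected by fixed points.
-/
import Cfsg.Agent.Lib.PrimeFitting.PointKey
import Cfsg.Agent.Lib.LA5.Basic

set_option autoImplicit false
set_option linter.style.haveILetI false
set_option linter.unusedSectionVars false

open scoped commutatorElement Pointwise

namespace Cfsg.Agent.Lib.PrimeFitting.Coord

open Points

variable {Γ : Type*} [Group Γ] [Finite Γ] {k : Type*} [Field k] [IsAlgClosed k] {V : Type*}
  [AddCommGroup V] [Module k V] [FiniteDimensional k V]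
  {π : Γ →* Module.End k V} {T : Subgroup Γ} {q r : ℕ} {s : Γ}

/-- The elements of `T` central modulo the kernel. -/
def cen (π : Γ →* Module.End k V) (T : Subgroup Γ) : Subgroup Γ where
  carrier := {z | z ∈ T ∧ ∀ y ∈ T, Commute (π z) (π y)}
  one_mem' := ⟨one_mem _, fun y _ => by rw [map_one]; exact Commute.one_left _⟩
  mul_mem' := fun {a b} ha hb => ⟨mul_mem ha.1 hb.1, fun y hy => by
    rw [map_mul]; exact (ha.2 y hy).mul_left (hb.2 y hy)⟩
  inv_mem' := fun {a} ha => ⟨inv_mem ha.1, fun y hy => by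
    have h := (ha.2 y hy).eq
    show π a⁻¹ * π y = π y * π a⁻¹
    calc π a⁻¹ * π y = π a⁻¹ * (π y * π a) * π a⁻¹ := by
          rw [mul_assoc, mul_assoc, pi_mul_inv, mul_one]
      _ = π y * π a⁻¹ := by rw [← h, ← mul_assoc, pi_inv_mul, one_mul]⟩

theorem cen_le : cen π T ≤ T := fun _ hz => hz.1

theorem cen_comm {z y : Γ} (hz : z ∈ cen π T) (hy : y ∈ T) : π ⁅z, y⁆ = 1 := by
  rw [commutatorElement_def, map_mul, map_mul, map_mul, (hz.2 y hy).eq, mul_assoc (π y),
    pi_mul_inv, mul_one, pi_mul_inv]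

theorem mem_cen {z : Γ} (hz : z ∈ T) (h : ∀ y ∈ T, π ⁅z, y⁆ = 1) : z ∈ cen π T := ⟨hz, fun y hy => by
  rw [commute_iff_eq, ← map_mul, ← map_mul,
    show z * y = ⁅z, y⁆ * (y * z) by simp [commutatorElement_def, mul_assoc], map_mul, h y hy,
    one_mul]⟩

/-- The elements of `A` commuting with `s`. -/
def fixer (A : Subgroup Γ) (s : Γ) : Subgroup Γ where
  carrier := {c | c ∈ A ∧ Commute s c}
  one_mem' := ⟨one_mem _, Commute.one_right _⟩
  mul_mem' := fun ha hb => ⟨mul_mem ha.1 hb.1, ha.2.mul_right hb.2⟩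
  inv_mem' := fun ha => ⟨inv_mem ha.1, ha.2.inv_right⟩

variable (L : Level π T q s r)
include L

theorem comm_mem_cen {a b : Γ} (ha : a ∈ T) (hb : b ∈ T) : ⁅a, b⁆ ∈ cen π T :=
  mem_cen (L.comm_mem ha b) fun y hy => L.nice a ha b hb y hy

theorem cen_ne_zero {g : Pt Γ k} (h : IsPoint π T g) {z : Γ} (hz : z ∈ cen π T) : g z ≠ 0 :=
  h.ne_zero_of_central L hz.1 fun _ hy => cen_comm hz hy

theorem cen_conj (γ : Γ) {z : Γ} (hz : z ∈ cen π T) : γ * z * γ⁻¹ ∈ cen π T := by
  refine mem_cen (L.conj_mem γ hz.1) fun y hy => ?_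
  rw [show ⁅γ * z * γ⁻¹, y⁆ = γ * ⁅z, γ⁻¹ * y * γ⁆ * γ⁻¹ by
    simp only [commutatorElement_def]; group, map_mul, map_mul, cen_comm hz (L.conj_mem' γ hy),
    mul_one, pi_mul_inv]

/-- An invariant character is trivial on commutators with `s`. -/
theorem eq_one_of_comm {g : Pt Γ k} (h : IsPoint π T g) {A : Subgroup Γ}
    (hA : ∀ a ∈ A, g a ≠ 0) (hinv : ∀ a ∈ A, g (s * a * s⁻¹) = g a)
    (hsA : ∀ a ∈ A, s * a * s⁻¹ ∈ A) {n : Γ} (hn : n ∈ ⁅A, Subgroup.zpowers s⁆) : g n = 1 := by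
  let S : Subgroup Γ :=
    { carrier := {a | g a = 1}
      one_mem' := h.one
      mul_mem' := fun {a b} ha hb => by
        simp only [Set.mem_setOf_eq] at ha hb ⊢
        rw [h.mul _ _ (by rw [ha]; exact one_ne_zero) (by rw [hb]; exact one_ne_zero), ha, hb,
          mul_one]
      inv_mem' := fun {a} ha => by
        simp only [Set.mem_setOf_eq] at ha ⊢
        have ha0 : g a ≠ 0 := by rw [ha]; exact one_ne_zero
        rw [h.apply_inv ha0 ((h.supportSubgroup L).inv_mem ha0), ha, inv_one] }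
  suffices ⁅A, Subgroup.zpowers s⁆ ≤ S from this hn
  refine Subgroup.commutator_le.mpr fun a ha δ hδ => ?_
  obtain ⟨j, rfl⟩ := (mem_powers_iff_mem_zpowers (x := s) (y := δ)).mpr hδ
  show g ⁅a, s ^ j⁆ = 1
  have e : ∀ j : ℕ, g (s ^ j * a⁻¹ * (s ^ j)⁻¹) = g a⁻¹ := by
    intro j
    induction j with
    | zero => simp
    | succ j ih =>
      rw [← ih, ← hinv _ (conj_pow_mem hsA j (inv_mem ha))]
      congr 1
      simp [pow_succ', mul_assoc]
  rw [show ⁅a, s ^ j⁆ = a * (s ^ j * a⁻¹ * (s ^ j)⁻¹) by simp only [commutatorElement_def]; group,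
    h.mul _ _ (hA a ha) (hA _ (conj_pow_mem hsA j (inv_mem ha))), e j,
    ← h.mul _ _ (hA a ha) (hA _ (inv_mem ha)), mul_inv_cancel, h.one]

/-- Invariant characters agreeing on fixed elements agree. -/
theorem agree_on {g g' : Pt Γ k} (h : IsPoint π T g) (h' : IsPoint π T g') {A : Subgroup Γ}
    (hAT : A ≤ T) (hsA : ∀ a ∈ A, s * a * s⁻¹ ∈ A) (hA : ∀ a ∈ A, g a ≠ 0)
    (hA' : ∀ a ∈ A, g' a ≠ 0) (hinv : ∀ a ∈ A, g (s * a * s⁻¹) = g a)
    (hinv' : ∀ a ∈ A, g' (s * a * s⁻¹) = g' a)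
    (hc : ∀ c ∈ A, s * c = c * s → g' c = g c) {a : Γ} (ha : a ∈ A) : g' a = g a := by
  obtain ⟨n, hn, c, hcA, hcs, rfl⟩ := exists_decomp L hAT hsA ha
  have hnA : n ∈ A :=
    Coprime.commutator_le_of_le_normalizer (normalizer_of_conj hsA) hn
  rw [h.mul _ _ (hA n hnA) (hA c hcA), h'.mul _ _ (hA' n hnA) (hA' c hcA),
    eq_one_of_comm L h hA hinv hsA hn, eq_one_of_comm L h' hA' hinv' hsA hn, hc c hcA hcs]

/-- Points agreeing on the central part have the same support. -/
theorem supp_eq {g g' : Pt Γ k} (h : IsPoint π T g) (h' : IsPoint π T g')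
    (hz : ∀ z ∈ cen π T, g' z = g z) (a : Γ) : g a ≠ 0 ↔ g' a ≠ 0 := by
  by_cases haT : a ∈ T
  · rw [h.rad a haT, h'.rad a haT]
    exact forall₂_congr fun y hy => by rw [hz _ (comm_mem_cen L haT hy)]
  · exact iff_of_false (fun h1 => haT (h.supp a h1)) (fun h1 => haT (h'.supp a h1))

/-- The support of a point invariant on the central part is invariant. -/
theorem supp_conj {g : Pt Γ k} (h : IsPoint π T g)
    (hz : ∀ z ∈ cen π T, g (s * z * s⁻¹) = g z) {a : Γ} (ha : g a ≠ 0) :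
    g (s * a * s⁻¹) ≠ 0 := by
  have haT := h.supp a ha
  refine (h.rad _ (L.conj_mem s haT)).mpr fun y hy => ?_
  rw [show ⁅s * a * s⁻¹, y⁆ = s * ⁅a, s⁻¹ * y * s⁆ * s⁻¹ by
      simp only [commutatorElement_def]; group,
    hz _ (comm_mem_cen L haT (L.conj_mem' s hy))]
  exact (h.rad a haT).mp ha _ (L.conj_mem' s hy)

/-- Fixed points are separated by fixed elements. -/
theorem eq_of_agree {g g' : Pt Γ k} (h : IsPoint π T g) (h' : IsPoint π T g') (hg : s • g = g)
    (hg' : s • g' = g')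
    (hc : ∀ c ∈ T, s * c = c * s → g c ≠ 0 → g' c ≠ 0 → g' c = g c) : g' = g := by
  have hz : ∀ z ∈ cen π T, g' z = g z := fun z hz =>
    agree_on L h h' cen_le (fun a ha => cen_conj L s ha) (fun a ha => cen_ne_zero L h ha)
      (fun a ha => cen_ne_zero L h' ha) (fun a _ => apply_conj_of_fixed hg a)
      (fun a _ => apply_conj_of_fixed hg' a)
      (fun c hcc hcs => hc c hcc.1 hcs (cen_ne_zero L h hcc) (cen_ne_zero L h' hcc)) hz
  refine Pt.ext fun a => ?_
  by_cases ha : g a = 0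
  · rw [ha]; by_contra h1; exact (supp_eq L h h' hz a).mpr h1 ha
  refine agree_on L h h' (h.supportSubgroup_le L) (fun b hb => ?_) (fun b hb => hb)
    (fun b hb => (supp_eq L h h' hz b).mp hb) (fun b _ => apply_conj_of_fixed hg b)
    (fun b _ => apply_conj_of_fixed hg' b)
    (fun c hcA hcs => hc c (h.supp c hcA) hcs hcA ((supp_eq L h h' hz c).mp hcA)) (a := a) ha
  rw [IsPoint.mem_supportSubgroup, apply_conj_of_fixed hg]
  exact hb

/-- Distinct fixed points differ at a fixed element acting by scalars on both. -/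
theorem exists_separating {g g' : Pt Γ k} (h : IsPoint π T g) (h' : IsPoint π T g') (hg : s • g = g)
    (hg' : s • g' = g') (hne : g' ≠ g) :
    ∃ c ∈ T, s * c = c * s ∧ g c ≠ 0 ∧ g' c ≠ 0 ∧ g' c ≠ g c := by
  by_contra hcon
  push Not at hcon
  exact hne (eq_of_agree L h h' hg hg' hcon)

omit L in
theorem radical_smul (γ : Γ) (g : Pt Γ k) :
    radical (γ • g) = (radical g).map (MulAut.conj γ).toMonoidHom := by
  rw [radical, radical, MonoidHom.map_closure]
  congr 1
  ext x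
  constructor
  · intro hx
    exact ⟨γ⁻¹ * x * γ, hx, by simp [mul_assoc]⟩
  · rintro ⟨a, ha, rfl⟩
    show (γ • g) _ ≠ 0
    rw [Points.smul_apply]
    simpa [mul_assoc] using ha

/-- Smallness is preserved by the centraliser of `s`. -/
theorem bad_smul {γ : Γ} (hγ : s * γ = γ * s) {g : Pt Γ k} (hbad : Bad T s r g) :
    Bad T s r (γ • g) := by
  refine ⟨by rw [smul_smul, hγ, mul_smul, hbad.1], ?_⟩
  have e : moved (γ • g) s T = (moved g s T).map (MulAut.conj γ).toMonoidHom := by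
    rw [moved, moved, Subgroup.map_sup, radical_smul, Subgroup.map_commutator]
    congr 2
    · ext x
      refine ⟨fun hx => ⟨γ⁻¹ * x * γ, L.conj_mem' γ hx, by simp [mul_assoc]⟩, ?_⟩
      rintro ⟨a, ha, rfl⟩
      exact L.conj_mem γ ha
    · rw [MonoidHom.map_zpowers]
      congr 1
      show s = γ * s * γ⁻¹
      rw [← hγ, mul_inv_cancel_right]
  rw [e, radical_smul, Subgroup.relIndex_map_map_of_injective _ _ (MulAut.conj γ).injective]
  exact hbad.2

theorem not_bad_smul {γ : Γ} (hγ : s * γ = γ * s) {g : Pt Γ k} (hbad : ¬ Bad T s r g) :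
    ¬ Bad T s r (γ • g) := fun h => by
  have h2 := bad_smul L (γ := γ⁻¹) (show Commute s γ from hγ).inv_right.eq h
  rw [inv_smul_smul] at h2
  exact hbad h2

/-- The component map commutes with elements fixing the point. -/
theorem proj_fix {γ : Γ} {g : Pt Γ k} (h : IsPoint π T g) (hγ : γ • g = g) (v : V) :
    h.proj L (π γ v) = π γ (h.proj L v) := by
  rw [← h.proj_conj L γ v, proj_congr L hγ.symm h (L.isPoint_smul h γ)]

section Sys

variable {Ω : Type*} [MulAction Γ Ω] {N : Ω → Submodule k V} {B : Ω → Prop} (S : Sys π T s N B)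
include S

open Classical in
/-- A vector of `K0` fixed by the fixed part of a subgroup is not killed by its average. -/
theorem eq_zero_of_avg {A : Subgroup Γ} (hAT : A ≤ T) (hsA : ∀ a ∈ A, s * a * s⁻¹ ∈ A) {d : V}
    (hd : d ∈ K0 π s N B) (hC : ∀ c ∈ A, s * c = c * s → π c d = d) (h0 : avg π A d = 0) :
    d = 0 := by
  by_contra hne
  obtain ⟨f, hB, hf⟩ := exists_bad S hd hne
  have hsf := S.bad_fixed f hB
  set St := A ⊓ MulAction.stabilizer Γ f with hSt
  set C := fixer A s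
  have hsSt : ∀ x ∈ St, s * x * s⁻¹ ∈ St := fun x hx => by
    refine ⟨hsA x hx.1, ?_⟩
    have hf' : s⁻¹ • f = f := by conv_lhs => rw [← hsf, inv_smul_smul]
    show (s * x * s⁻¹) • f = f
    rw [mul_smul, mul_smul, hf', show x • f = f from hx.2, hsf]
  -- the fixed coordinates in the orbit
  have hF : ∀ a ∈ A, s • a⁻¹ • f = a⁻¹ • f ↔ a ∈ (St : Set Γ) * (C : Set Γ) := by
    intro a ha
    constructor
    · intro hfix
      obtain ⟨c, hcA, hcs, hcf⟩ :=
        exists_fixed_conj L hAT hsA hsf hfix ⟨a⁻¹, inv_mem ha, rfl⟩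
      refine ⟨a * c, ⟨mul_mem ha hcA, ?_⟩, c⁻¹, ⟨inv_mem hcA, (show Commute s c from hcs).inv_right⟩,
        mul_inv_cancel_right _ _⟩
      show (a * c) • f = f
      rw [mul_smul, hcf, smul_inv_smul]
    · rintro ⟨h, hh, c, hc, rfl⟩
      have hh' : h⁻¹ • f = f := by conv_lhs => rw [← (show h • f = f from hh.2), inv_smul_smul]
      rw [mul_inv_rev, mul_smul, hh', smul_smul,
        ((show Commute s c from hc.2).inv_right).eq, mul_smul, hsf]
  have hval : ∀ a ∈ A, (a ∈ (St : Set Γ) * (C : Set Γ) → π a d - d ∈ N f) ∧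
      (a ∉ (St : Set Γ) * (C : Set Γ) → π a d ∈ N f) := by
    intro a ha
    refine ⟨?_, fun hnot => ?_⟩
    · rintro ⟨h, hh, c, hc, rfl⟩
      obtain ⟨n, hn, c', hc', hcs', rfl⟩ := exists_decomp L (inf_le_left.trans hAT) hsSt hh
      rw [map_mul, map_mul, Module.End.mul_apply, Module.End.mul_apply, hC c hc.1 hc.2.eq,
        hC c' hc'.1 hcs']
      exact (triv_of_fix L S (inf_le_left.trans hAT) hsSt hB (fun x hx => hx.2) hn).2 d
    · have h1 : d ∈ N (a⁻¹ • f) := hd.2 _ fun hb => hnot ((hF a ha).mp (S.bad_fixed _ hb))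
      rwa [← smul_inv_smul a f, mem_N_iff S]
  haveI := Fintype.ofFinite A
  set p : A → Prop := fun a => (a : Γ) ∈ (St : Set Γ) * (C : Set Γ) with hp
  have hsum : ∑ a : A, π (a : Γ) d = 0 := by
    rw [avg_eq, LinearMap.smul_apply, LinearMap.sum_apply] at h0
    exact (smul_eq_zero.mp h0).resolve_left (inv_ne_zero (L.card_cast hAT))
  have hmem : (Nat.card {a : A // p a} : k) • d ∈ N f := by
    have h1 : ∑ a : A, (π (a : Γ) d - if p a then d else 0) ∈ N f := by
      refine Submodule.sum_mem _ fun a _ => ?_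
      split_ifs with hpa
      · exact (hval a a.2).1 hpa
      · rw [sub_zero]; exact (hval a a.2).2 hpa
    rw [Finset.sum_sub_distrib, hsum, zero_sub, neg_mem_iff, ← Finset.sum_filter,
      Finset.sum_const, ← Nat.cast_smul_eq_nsmul k] at h1
    rwa [Nat.card_eq_fintype_card, Fintype.card_subtype]
  have hcard : Nat.card {a : A // p a} = Nat.card ((St : Set Γ) * (C : Set Γ) : Set Γ) :=
    Nat.card_congr
      { toFun := fun a => ⟨a.1.1, a.2⟩
        invFun := fun b => ⟨⟨b.1, by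
          obtain ⟨h, hh, c, hc, e⟩ := b.2
          rw [← e]; exact mul_mem hh.1 hc.1⟩, b.2⟩
        left_inv := fun _ => rfl
        right_inv := fun _ => rfl }
  have hne0 : (Nat.card {a : A // p a} : k) ≠ 0 := fun e => by
    have h2 := congrArg (Nat.cast (R := k)) (LA5.Basic.card_mul_card_inf St C)
    rw [Nat.cast_mul, Nat.cast_mul, ← hcard, e, zero_mul] at h2
    rcases mul_eq_zero.mp h2.symm with h3 | h3
    · exact L.card_cast (inf_le_left.trans hAT) h3
    · exact L.card_cast (H := C) (fun x hx => hAT hx.1) h3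
  exact hf ((Submodule.smul_mem_iff _ hne0).mp hmem)

omit S in
/-- The points of a component. -/
theorem avg_eq_zero_of_proj {A : Subgroup Γ} (hAT : A ≤ T) {d : V}
    (h : ∀ g (hg : IsPoint π T g), hg.proj L d ≠ 0 → ∃ a ∈ A, g a ≠ 0 ∧ g a ≠ 1) :
    avg π A d = 0 := by
  refine eq_zero_of_proj L fun g hg => ?_
  haveI := Fintype.ofFinite A
  have hc : hg.proj L (avg π A d) = avg π A (hg.proj L d) := by
    rw [avg_eq, LinearMap.smul_apply, LinearMap.smul_apply, LinearMap.sum_apply,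
      LinearMap.sum_apply, map_smul, map_sum]
    congr 1
    exact Finset.sum_congr rfl fun a _ => proj_fix L hg (hg.smul_eq_self L (hAT a.2)) d
  rw [hc]
  by_cases h0 : hg.proj L d = 0
  · rw [h0, map_zero]
  obtain ⟨a, ha, ha0, ha1⟩ := h g hg h0
  exact avg_eq_zero_of_scalar ha ha1 (hg.proj_mem L d a ha0)

open Classical in
/-- The part of a vector of `K0` on which the fixed central elements act as at a given point. -/
theorem exists_block {d : V} (hd : d ∈ K0 π s N B) {g1 : Pt Γ k} (h1 : IsPoint π T g1) :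
    ∃ d1 ∈ K0 π s N B, (∀ g (hg : IsPoint π T g), hg.proj L d = 0 → hg.proj L d1 = 0) ∧
      h1.proj L d1 = h1.proj L d ∧
      ∀ c ∈ cen π T, s * c = c * s → π c d1 = g1 c • d1 := by
  set C := fixer (cen π T) s
  haveI := Fintype.ofFinite C
  have hC0 : (Nat.card C : k) ≠ 0 := L.card_cast fun x hx => cen_le hx.1
  refine ⟨(Nat.card C : k)⁻¹ • ∑ c : C, (g1 c)⁻¹ • π (c : Γ) d, ?_, fun g hg h0 => ?_, ?_,
    fun b hb hbs => ?_⟩
  · exact Submodule.smul_mem _ _ (Submodule.sum_mem _ fun c _ =>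
      Submodule.smul_mem _ _ (K0_smul S c.2.2.eq hd))
  · rw [map_smul, map_sum, Finset.sum_eq_zero fun c _ => ?_, smul_zero]
    rw [map_smul, proj_fix L hg (hg.smul_eq_self L (cen_le c.2.1)), h0, map_zero, smul_zero]
  · have key : ∀ c : C, h1.proj L ((g1 c)⁻¹ • π (c : Γ) d) = h1.proj L d := fun c => by
      rw [map_smul, proj_fix L h1 (h1.smul_eq_self L (cen_le c.2.1)),
        h1.proj_mem L d _ (cen_ne_zero L h1 c.2.1), inv_smul_smul₀ (cen_ne_zero L h1 c.2.1)]
    rw [map_smul, map_sum, Finset.sum_congr rfl fun c _ => key c,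
      Finset.sum_const, Finset.card_univ, ← Nat.card_eq_fintype_card, ← Nat.cast_smul_eq_nsmul k,
      smul_smul, inv_mul_cancel₀ hC0, one_smul]
  · rw [map_smul, map_sum, smul_comm (g1 b)]
    congr 1
    rw [Finset.smul_sum]
    refine Fintype.sum_bijective ((⟨b, hb, hbs⟩ : C) * ·) (Group.mulLeft_bijective _) _ _ fun c => ?_
    rw [map_smul, Subgroup.coe_mul, map_mul, Module.End.mul_apply, smul_smul,
      h1.mul _ _ (cen_ne_zero L h1 hb) (cen_ne_zero L h1 c.2.1), mul_inv,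
      ← mul_assoc, mul_inv_cancel₀ (cen_ne_zero L h1 hb), one_mul]

/-- A vector of `K0` without fixed components is zero. -/
theorem no_moved {d : V} (hd : d ∈ K0 π s N B)
    (h0 : ∀ g (hg : IsPoint π T g), s • g = g → hg.proj L d = 0) : d = 0 := by
  by_contra hne
  obtain ⟨g1, h1, hd1, hpref⟩ : ∃ (g1 : Pt Γ k) (h1 : IsPoint π T g1), h1.proj L d ≠ 0 ∧
      ((∀ z ∈ cen π T, g1 (s * z * s⁻¹) = g1 z) ∨
        ∀ g (hg : IsPoint π T g), hg.proj L d ≠ 0 →
          ¬ ∀ z ∈ cen π T, g (s * z * s⁻¹) = g z) := by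
    by_cases hex : ∃ (g : Pt Γ k) (hg : IsPoint π T g), hg.proj L d ≠ 0 ∧
        ∀ z ∈ cen π T, g (s * z * s⁻¹) = g z
    · obtain ⟨g, hg, h, hz⟩ := hex
      exact ⟨g, hg, h, Or.inl hz⟩
    · by_contra hcon
      refine hne (eq_zero_of_proj L fun g hg => ?_)
      by_contra h
      exact hcon ⟨g, hg, h, Or.inr fun g' hg' h' hz => hex ⟨g', hg', h', hz⟩⟩
  obtain ⟨d1, hd1K, hd1z, hd1e, hd1c⟩ := exists_block L S hd h1
  have hnz : ∀ g (hg : IsPoint π T g), hg.proj L d1 ≠ 0 → hg.proj L d ≠ 0 :=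
    fun g hg h h' => h (hd1z g hg h')
  -- fixed central elements have the same value on all components
  have hsame : ∀ g (hg : IsPoint π T g), hg.proj L d1 ≠ 0 →
      ∀ c ∈ cen π T, s * c = c * s → g c = g1 c := by
    intro g hg h c hc hcs
    refine smul_left_injective k h ?_
    show g c • hg.proj L d1 = g1 c • hg.proj L d1
    rw [← map_smul (hg.proj L) (g1 c), ← hd1c c hc hcs, proj_fix L hg (hg.smul_eq_self L hc.1),
      hg.proj_mem L d1 _ (cen_ne_zero L hg hc)]
  have hscal : ∀ g : Pt Γ k, IsPoint π T g → (¬ ∀ z ∈ cen π T, g (s * z * s⁻¹) = g z) →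
      ∃ a ∈ ⁅cen π T, Subgroup.zpowers s⁆, g a ≠ 0 ∧ g a ≠ 1 := by
    intro g hg hz
    push Not at hz
    obtain ⟨z, hz, hzne⟩ := hz
    have hz' := cen_conj L s hz
    refine ⟨⁅z⁻¹, s⁆, Subgroup.commutator_mem_commutator (inv_mem hz) (Subgroup.mem_zpowers s),
      ?_⟩
    rw [show ⁅z⁻¹, s⁆ = z⁻¹ * (s * z * s⁻¹) by simp [commutatorElement_def, mul_assoc],
      hg.mul _ _ (cen_ne_zero L hg (inv_mem hz)) (cen_ne_zero L hg hz')]
    refine ⟨mul_ne_zero (cen_ne_zero L hg (inv_mem hz)) (cen_ne_zero L hg hz'), fun e => hzne ?_⟩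
    have e' := hg.mul _ _ (cen_ne_zero L hg (inv_mem hz)) (cen_ne_zero L hg hz)
    rw [inv_mul_cancel, hg.one] at e'
    exact mul_left_cancel₀ (cen_ne_zero L hg (inv_mem hz)) (e.trans e')
  -- the general step
  have main : ∀ R : Subgroup Γ, R ≤ T → (∀ a ∈ R, s * a * s⁻¹ ∈ R) →
      (∀ a ∈ R, ∀ b ∈ R, g1 ⁅a, b⁆ = 1) →
      (∀ g (hg : IsPoint π T g), hg.proj L d1 ≠ 0 →
        ∃ a ∈ ⁅R, Subgroup.zpowers s⁆, g a ≠ 0 ∧ g a ≠ 1) → False := by
    intro R hRT hsR hiso hsc
    haveI := Fact.mk L.qprime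
    refine hd1 ?_
    rw [← hd1e, eq_zero_of_avg L S (comm_le_T L hRT) comm_conj_mem hd1K (fun c hc hcs => ?_)
      (avg_eq_zero_of_proj L (comm_le_T L hRT) hsc), map_zero]
    have hRR : ⁅R, R⁆ ≤ R :=
      Subgroup.le_normalizer_iff_commutator_le_left.mp Subgroup.le_normalizer
    have hcM : c ∈ ⁅R, R⁆ := by
      refine mem_of_fixed L.pow ((Nat.coprime_primes L.rprime L.qprime).mpr L.ne.symm)
        (L.pgroup.to_le hRT) hRR hsR (fun x hx => ?_) le_rfl hcs (Subgroup.mem_sup_left hc)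
      have hle : ⁅R, R⁆ ≤ (⁅R, R⁆).comap (MulAut.conj s).toMonoidHom :=
        Subgroup.commutator_le.mpr fun y hy z hz => Subgroup.mem_comap.mpr (by
          rw [MulEquiv.coe_toMonoidHom, map_commutatorElement]
          exact Subgroup.commutator_mem_commutator (hsR y hy) (hsR z hz))
      exact hle hx
    let M : Subgroup Γ :=
      { carrier := {a | a ∈ cen π T ∧ g1 a = 1}
        one_mem' := ⟨one_mem _, h1.one⟩
        mul_mem' := fun {a b} ha hb => ⟨mul_mem ha.1 hb.1, by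
          rw [h1.mul _ _ (cen_ne_zero L h1 ha.1) (cen_ne_zero L h1 hb.1), ha.2, hb.2, mul_one]⟩
        inv_mem' := fun {a} ha => ⟨inv_mem ha.1, by
          rw [h1.apply_inv (cen_ne_zero L h1 ha.1) (cen_ne_zero L h1 (inv_mem ha.1)), ha.2,
            inv_one]⟩ }
    obtain ⟨hcen, hc1⟩ := (Subgroup.commutator_le.mpr fun a ha b hb =>
      ⟨comm_mem_cen L (hRT ha) (hRT hb), hiso a ha b hb⟩ : ⁅R, R⁆ ≤ M) hcM
    rw [hd1c c hcen hcs, hc1, one_smul]
  rcases hpref with hz1 | hall
  · refine main (h1.supportSubgroup L) (h1.supportSubgroup_le L) (fun a ha => supp_conj L h1 hz1 ha)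
      (fun a ha b hb => (h1.rad a (h1.supp a ha)).mp ha b (h1.supp b hb)) fun g hg h => ?_
    by_cases hz : ∀ z ∈ cen π T, g (s * z * s⁻¹) = g z
    · -- the same radical, and the point is moved
      have hzz : ∀ z ∈ cen π T, g z = g1 z := fun z hz' =>
        agree_on L h1 hg cen_le (fun a ha => cen_conj L s ha) (fun a ha => cen_ne_zero L h1 ha)
          (fun a ha => cen_ne_zero L hg ha) hz1 hz (fun c hc hcs => hsame g hg h c hc hcs) hz'
      by_contra hcon
      push Not at hcon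
      refine h (hd1z g hg (h0 g hg (Pt.ext fun x => ?_)))
      rw [Points.smul_apply]
      by_cases hx : g (s⁻¹ * x * s) = 0
      · rw [hx]
        by_contra hx'
        have hxT := hg.supp x (Ne.symm hx')
        have h2 : g (s⁻¹ * x * s) ≠ 0 := by
          refine (hg.rad _ (L.conj_mem' s hxT)).mpr fun y hy => ?_
          have h3 := (hg.rad x hxT).mp (Ne.symm hx') _ (L.conj_mem s hy)
          rw [show ⁅x, s * y * s⁻¹⁆ = s * ⁅s⁻¹ * x * s, y⁆ * s⁻¹ by
              simp only [commutatorElement_def]; group,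
            hz _ (comm_mem_cen L (L.conj_mem' s hxT) hy)] at h3
          exact h3
        exact h2 hx
      · set y := s⁻¹ * x * s with hy
        have hy' : g (s * y * s⁻¹) ≠ 0 := supp_conj L hg hz hx
        have hyinv : g y⁻¹ ≠ 0 := (hg.supportSubgroup L).inv_mem hx
        have h3 := hcon ⁅y⁻¹, s⁆ (Subgroup.commutator_mem_commutator
          ((h1.supportSubgroup L).inv_mem ((supp_eq L h1 hg hzz y).mpr hx))
          (Subgroup.mem_zpowers s)) (by
          rw [show ⁅y⁻¹, s⁆ = y⁻¹ * (s * y * s⁻¹) by simp [commutatorElement_def, mul_assoc],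
            hg.mul _ _ hyinv hy']
          exact mul_ne_zero hyinv hy')
        rw [show ⁅y⁻¹, s⁆ = y⁻¹ * (s * y * s⁻¹) by simp [commutatorElement_def, mul_assoc],
          hg.mul _ _ hyinv hy'] at h3
        have e' := hg.mul _ _ hyinv hx
        rw [inv_mul_cancel, hg.one] at e'
        have h4 := mul_left_cancel₀ hyinv (h3.trans e')
        rw [show s * y * s⁻¹ = x by rw [hy]; group] at h4
        exact h4.symm
    · obtain ⟨a, ha, ha'⟩ := hscal g hg hz
      exact ⟨a, Subgroup.commutator_mono (fun z hz' => cen_ne_zero L h1 hz') le_rfl ha, ha'⟩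
  · exact main (cen π T) cen_le (fun a ha => cen_conj L s ha)
      (fun a ha b hb => h1.ker _ (L.comm_mem (cen_le ha) b) (cen_comm ha (cen_le hb)))
      fun g hg h => hscal g hg (hall g hg (hnz g hg h))

end Sys

end Cfsg.Agent.Lib.PrimeFitting.Coord
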