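/-
Automorphisms centralising the fixed elements: the special points.
-/
import Cfsg.Agent.Lib.PrimeFitting.Separate

set_option autoImplicit false
set_option linter.style.haveILetI false
set_option linter.unusedSectionVars false

open scoped commutatorElement

namespace Cfsg.Agent.Lib.PrimeFitting.Coord

open Points

variable {Γ : Type*} [Group Γ] [Finite Γ] {k : Type*} [Field k] [IsAlgClosed k] {V : Type*}
  [AddCommGroup V] [Module k V] [FiniteDimensional k V]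
  {π : Γ →* Module.End k V} {T : Subgroup Γ} {q r : ℕ} {s : Γ}
  {Ω : Type*} [MulAction Γ Ω] {N : Ω → Submodule k V} {B : Ω → Prop}

/-- Conjugation by `m` is trivial at `g`. -/
def Triv (T : Subgroup Γ) (m : Γ) (g : Pt Γ k) : Prop :=
  ∀ t ∈ T, g (t⁻¹ * (m * t * m⁻¹)) = 1

/-- Conjugation by `m` centralises the fixed elements and moves fixed vectors into `K0`. -/
structure Auto (π : Γ →* Module.End k V) (T : Subgroup Γ) (q r : ℕ) (s : Γ)
    (N : Ω → Submodule k V) (B : Ω → Prop) (m : Γ) : Prop where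
  comm : s * m = m * s
  ord : ∃ e, 0 < e ∧ m ^ e = 1 ∧ r.Coprime e ∧ e.Coprime q
  cent : ∀ t ∈ T, s * t = t * s → π (t⁻¹ * (m * t * m⁻¹)) = 1
  move : ∀ c, π s c = c → π m c - c ∈ K0 π s N B

/-- A point where `m` acts nontrivially. -/
def Special (π : Γ →* Module.End k V) (T : Subgroup Γ) (m : Γ) (g : Pt Γ k) : Prop :=
  IsPoint π T g ∧ ¬ Triv T m g

variable (L : Level π T q s r)
include L

omit [IsAlgClosed k] [FiniteDimensional k V] in
theorem apply_mul_ker {g : Pt Γ k} (h : IsPoint π T g) {a b : Γ} (hb : b ∈ T) (hπ : π b = 1) :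
    g (a * b) = g a := by
  have hb1 : g b = 1 := h.ker b hb hπ
  by_cases ha : g a = 0
  · rw [ha]
    by_contra hne
    have h1 : a * b ∈ h.supportSubgroup L := hne
    have h2 : b ∈ h.supportSubgroup L := show g b ≠ 0 by rw [hb1]; exact one_ne_zero
    have := mul_mem h1 (inv_mem h2)
    rw [mul_inv_cancel_right] at this
    exact this ha
  · rw [h.mul a b ha (by rw [hb1]; exact one_ne_zero), hb1, mul_one]

omit L in
theorem fixed_of_commute {Ω' : Type*} [MulAction Γ Ω'] {g : Ω'} {γ : Γ} (hγ : s * γ = γ * s)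
    (hg : s • g = g) : s • γ • g = γ • g := by rw [smul_smul, hγ, mul_smul, hg]

/-- A fixed point is not seen by the orbit sum of a moved one. -/
theorem proj_osum_fixed {g g' : Pt Γ k} (h : IsPoint π T g) (h' : IsPoint π T g')
    (hg' : s • g' = g') (hg : s • g ≠ g) {w : V} (hw : w ∈ W π g) :
    h'.proj L (osum π s r w) = 0 := by
  rw [osum, map_sum]
  refine Finset.sum_eq_zero fun i _ => h'.proj_eq_zero L (L.isPoint_smul h _) (fun e => hg ?_)
    (pi_mem_W_smul hw)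
  have h1 : s • s ^ i • g = s ^ i • g := by rw [e]; exact hg'
  rw [smul_smul, (Commute.self_pow s i).eq, mul_smul] at h1
  exact (MulAction.injective (s ^ i)) h1

/-- A homomorphism to the radical killing fixed elements is trivial. -/
theorem triv_of_ne_zero {m : Γ} (hms : s * m = m * s)
    (hcent : ∀ t ∈ T, s * t = t * s → π (t⁻¹ * (m * t * m⁻¹)) = 1) {g : Pt Γ k}
    (h : IsPoint π T g) (hg : s • g = g) (hne : ∀ t ∈ T, g (t⁻¹ * (m * t * m⁻¹)) ≠ 0) :
    Triv T m g := by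
  have hmul : ∀ u ∈ T, ∀ v ∈ T, g ((u * v)⁻¹ * (m * (u * v) * m⁻¹)) =
      g (u⁻¹ * (m * u * m⁻¹)) * g (v⁻¹ * (m * v * m⁻¹)) := fun u hu v hv => by
    rw [show (u * v)⁻¹ * (m * (u * v) * m⁻¹) =
      (v⁻¹ * (u⁻¹ * (m * u * m⁻¹)) * v⁻¹⁻¹) * (v⁻¹ * (m * v * m⁻¹)) by group,
      h.mul _ _ (by rw [h.apply_conj_rad L (inv_mem hv)]; exact hne u hu) (hne v hv),
      h.apply_conj_rad L (inv_mem hv)]
  let S : Subgroup Γ :=
    { carrier := {u | u ∈ T ∧ g (u⁻¹ * (m * u * m⁻¹)) = 1}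
      one_mem' := ⟨one_mem _, by simp [h.one]⟩
      mul_mem' := fun {a b} ha hb => ⟨mul_mem ha.1 hb.1, by
        rw [hmul a ha.1 b hb.1, ha.2, hb.2, mul_one]⟩
      inv_mem' := fun {a} ha => ⟨inv_mem ha.1, by
        have h1 := hmul a ha.1 a⁻¹ (inv_mem ha.1)
        rw [mul_inv_cancel, ha.2, one_mul] at h1
        rw [← h1]
        simp [h.one]⟩ }
  intro t ht
  obtain ⟨n, hn, c, hc, hcs, rfl⟩ := exists_decomp L le_rfl (fun a ha => L.conj_mem s ha) ht
  have hnS : ⁅T, Subgroup.zpowers s⁆ ≤ S := by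
    refine Subgroup.commutator_le.mpr fun u hu δ hδ => ⟨L.comm_mem hu δ, ?_⟩
    have hδg : δ • g = g :=
      (Subgroup.zpowers_le.mpr (MulAction.mem_stabilizer_iff.mpr hg) hδ :)
    have hδm : δ * m = m * δ := by
      obtain ⟨j, rfl⟩ := Subgroup.mem_zpowers_iff.mp hδ
      exact (Commute.zpow_left (show Commute s m from hms) j).eq
    have hv : δ * u⁻¹ * δ⁻¹ ∈ T := L.conj_mem δ (inv_mem hu)
    have hδm' : δ⁻¹ * m = m * δ⁻¹ := ((show Commute δ m from hδm).inv_left).eq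
    have e : (δ * u⁻¹ * δ⁻¹)⁻¹ * (m * (δ * u⁻¹ * δ⁻¹) * m⁻¹) =
        δ * ((u⁻¹)⁻¹ * (m * u⁻¹ * m⁻¹)) * δ⁻¹ := by
      calc (δ * u⁻¹ * δ⁻¹)⁻¹ * (m * (δ * u⁻¹ * δ⁻¹) * m⁻¹)
          = δ * u * δ⁻¹ * ((m * δ) * u⁻¹ * (m * δ)⁻¹) := by group
        _ = δ * u * δ⁻¹ * ((δ * m) * u⁻¹ * (δ * m)⁻¹) := by rw [hδm]
        _ = δ * ((u⁻¹)⁻¹ * (m * u⁻¹ * m⁻¹)) * δ⁻¹ := by group
    rw [show ⁅u, δ⁆ = u * (δ * u⁻¹ * δ⁻¹) by simp only [commutatorElement_def]; group,
      hmul _ hu _ hv, e, apply_conj_of_fixed hδg, ← hmul _ hu _ (inv_mem hu)]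
    simp [h.one]
  rw [hmul _ (comm_le_T L le_rfl hn) _ hc, (hnS hn).2, one_mul]
  exact h.ker _ (mul_mem (inv_mem hc) (L.conj_mem m hc)) (hcent c hc hcs)

section Auto

variable {m : Γ} (hm : Auto π T q r s N B m)
include hm

theorem fix_fixed {g : Pt Γ k} (h : IsPoint π T g) (hg : s • g = g) : m • g = g := by
  refine eq_of_agree L h (L.isPoint_smul h m) hg (fixed_of_commute hm.comm hg) fun c hc hcs _ _ => ?_
  have h1 := hm.cent c hc hcs
  have hb : c⁻¹ * (m⁻¹ * c * m) ∈ T := mul_mem (inv_mem hc) (L.conj_mem' m hc)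
  have hπ : π (c⁻¹ * (m⁻¹ * c * m)) = 1 := by
    have h2 : π (m * c * m⁻¹) = π c := by
      rw [show m * c * m⁻¹ = c * (c⁻¹ * (m * c * m⁻¹)) by group, map_mul, h1, mul_one]
    calc π (c⁻¹ * (m⁻¹ * c * m)) = π c⁻¹ * π m⁻¹ * π c * π m := by
          simp only [map_mul, mul_assoc]
      _ = π c⁻¹ * π m⁻¹ * π (m * c * m⁻¹) * π m := by rw [h2]
      _ = π (c⁻¹ * (m⁻¹ * (m * c * m⁻¹) * m)) := by simp only [map_mul, mul_assoc]
      _ = 1 := by rw [show c⁻¹ * (m⁻¹ * (m * c * m⁻¹) * m) = 1 by group, map_one]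
  rw [Points.smul_apply, show m⁻¹ * c * m = c * (c⁻¹ * (m⁻¹ * c * m)) by group,
    apply_mul_ker L h hb hπ]

variable (S : Sys π T s N B)
include S

/-- Moved points are fixed by `m`, which acts trivially there. -/
theorem moved_trivial {g : Pt Γ k} (h : IsPoint π T g) (hg : s • g ≠ g) :
    m • g = g ∧ ∀ w ∈ W π g, π m w = w := by
  have hmg : s • m • g ≠ m • g := fun e => hg (MulAction.injective m (by
    show m • s • g = m • g
    rw [smul_smul, ← hm.comm, mul_smul, e]))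
  have hfix : ∀ w ∈ W π g, π m (osum π s r w) = osum π s r w := by
    intro w hw
    refine sub_eq_zero.mp (no_moved L S (hm.move _ (pi_s_osum L w)) fun g' h' hg' => ?_)
    rw [map_sub, osum_comm hm.comm, proj_osum_fixed L (L.isPoint_smul h m) h' hg' hmg
      (pi_mem_W_smul hw), proj_osum_fixed L h h' hg' hg hw, sub_self]
  have hmfix : m • g = g := by
    obtain ⟨w, hw0, hw⟩ := h.exists_vec
    obtain ⟨i, hir, hi⟩ : ∃ i < r, s ^ i • m • g = g := by
      by_contra hcon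
      push Not at hcon
      refine hw0 ?_
      have h1 := congrArg (h.proj L) (hfix w (mem_W.mpr hw))
      rw [proj_osum L h hg (mem_W.mpr hw), osum_comm hm.comm, osum, map_sum] at h1
      rw [← h1]
      exact Finset.sum_eq_zero fun i hi => h.proj_eq_zero L
        (L.isPoint_smul (L.isPoint_smul h m) _) (hcon i (Finset.mem_range.mp hi))
        (pi_mem_W_smul (pi_mem_W_smul (mem_W.mpr hw)))
    obtain ⟨e, he0, he, her, -⟩ := hm.ord
    have h2 : (s ^ i * m) ^ e • g = g := pow_fixed (by rw [mul_smul]; exact hi) e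
    rw [((show Commute s m from hm.comm).pow_left i).mul_pow, he, mul_one, ← pow_mul] at h2
    have hrie : r ∣ i * e := by
      by_contra hnd
      obtain ⟨j, hj⟩ := eq_pow_pow L.rprime L.pow hnd
      have h3 := pow_fixed h2 j
      rw [hj] at h3
      exact hg h3
    have hi0 : i = 0 := Nat.eq_zero_of_dvd_of_lt (her.dvd_of_dvd_mul_right hrie) hir
    rwa [hi0, pow_zero, one_smul] at hi
  refine ⟨hmfix, fun w hw => ?_⟩
  have hmw : π m w ∈ W π g := by
    have h1 := pi_mem_W_smul (γ := m) hw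
    rwa [hmfix] at h1
  have h1 := congrArg (h.proj L) (hfix w hw)
  rwa [osum_comm hm.comm, proj_osum L h hg hw, proj_osum L h hg hmw] at h1

theorem fix_all {g : Pt Γ k} (h : IsPoint π T g) : m • g = g := by
  by_cases hg : s • g = g
  · exact fix_fixed L hm h hg
  · exact (moved_trivial L hm S h hg).1

theorem triv_moved {g : Pt Γ k} (h : IsPoint π T g) (hg : s • g ≠ g) : Triv T m g := by
  intro t ht
  obtain ⟨-, hW⟩ := moved_trivial L hm S h hg
  refine h.eq_one_of_trivial L (mul_mem (inv_mem ht) (L.conj_mem m ht)) fun v hv => ?_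
  have hv' : π m⁻¹ v = v := by conv_lhs => rw [← hW v hv, pi_inv_apply_apply]
  simp only [map_mul, Module.End.mul_apply]
  rw [hv', hW _ (h.smul_mem_W L ht hv), pi_inv_apply_apply]

omit S in
theorem triv_bad {g : Pt Γ k} (h : IsPoint π T g) (hbad : Bad T s r g) : Triv T m g := by
  obtain ⟨e, he0, he, her, -⟩ := hm.ord
  refine triv_of_ne_zero L hm.comm hm.cent h hbad.1 fun t ht => ?_
  refine h.trivial_of_bad L hbad.1 hbad hm.comm (fix_fixed L hm h hbad.1) he her he0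
    (fun c hc hcs => ?_) ht
  rw [h.ker _ (mul_mem (inv_mem hc) (L.conj_mem m hc)) (hm.cent c hc hcs)]
  exact one_ne_zero

set_option maxHeartbeats 1000000 in
/-- Points meeting `K0` are trivial. -/
theorem triv_of_K0 {g : Pt Γ k} (h : IsPoint π T g) (hg : s • g = g) (hbad : ¬ Bad T s r g)
    {d : V} (hd : d ∈ K0 π s N B) (hdW : d ∈ W π g) (hd0 : d ≠ 0) : Triv T m g := by
  haveI := Fact.mk L.qprime
  have hTs : ∀ t ∈ T, s * t * s⁻¹ ∈ T := fun t ht => L.conj_mem s ht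
  obtain ⟨f, hBf, hf, y0, hy0T, hy0⟩ :
      ∃ f, B f ∧ d ∉ N f ∧ ∃ y ∈ T, s • y • f ≠ y • f := by
    by_contra hcon
    obtain ⟨f, hBf, hf⟩ := exists_bad S hd hd0
    obtain ⟨u, hu, v, hv, huv⟩ := h.exists_pair_ne_one L hg hbad
    have huv' : ⁅u, v⁆ ∈ ⁅T, Subgroup.zpowers s⁆ := by
      rw [commutatorElement_def]
      exact mul_mem (mul_mem (mul_mem hu hv) (inv_mem hu)) (inv_mem hv)
    have h1 := (fix_of_osum L S le_rfl hTs hd
      (fun f' hB hf' a ha hmov => absurd ⟨f', hB, hf', a, ha, hmov⟩ hcon) hf huv').2 d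
    rw [hdW _ (h.comm_ne_zero L (comm_le_T L le_rfl hu) (comm_le_T L le_rfl hv)),
      show g ⁅u, v⁆ • d - d = (g ⁅u, v⁆ - 1) • d by rw [sub_smul, one_smul]] at h1
    exact hf ((Submodule.smul_mem_iff _ (sub_ne_zero.mpr huv)).mp h1)
  have hsf := S.bad_fixed f hBf
  have hmg := fix_fixed L hm h hg
  -- the radical maps fixed coordinates to fixed ones
  have hRf : ∀ c ∈ T, s * c = c * s → ∀ x, g x ≠ 0 → s • (x * c) • f = (x * c) • f := by
    intro c hc hcs x hx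
    have hcd : π c d ∈ W π g := h.smul_mem_W L hc hdW
    have h1 : π c d ∉ N (c • f) := fun h' => hf ((mem_N_iff S).mp h')
    have h2 : π x (π c d) ∉ N ((x * c) • f) := by
      rw [mul_smul]; exact fun h' => h1 ((mem_N_iff S).mp h')
    rw [hcd x hx] at h2
    have h3 : π c d ∉ N ((x * c) • f) := fun h' => h2 (Submodule.smul_mem _ _ h')
    refine S.bad_fixed _ ?_
    by_contra hb
    exact h3 ((K0_smul S hcs hd).2 _ hb)
  have hmulU : ∀ a ∈ T, ∀ b ∈ T, s • a • f = a • f → s • b • f = b • f →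
      s • (a * b) • f = (a * b) • f := by
    intro a ha b hb hfa hfb
    obtain ⟨c, hc, hcs, hcf⟩ := exists_fixed_conj L le_rfl hTs hsf hfb ⟨b, hb, rfl⟩
    obtain ⟨c', hc', hcs', hcf'⟩ := exists_fixed_conj L le_rfl hTs hsf hfa ⟨a, ha, rfl⟩
    have e : (a * b) • f = (⁅a, c⁆ * (c * c')) • f := by
      conv_lhs => rw [mul_smul, ← hcf, smul_smul,
        show a * c = ⁅a, c⁆ * c * a by simp only [commutatorElement_def]; group, mul_smul,
        ← hcf', ← mul_smul, mul_assoc]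
    rw [e]
    exact hRf _ (mul_mem hc hc') ((show Commute s c from hcs).mul_right hcs').eq _
      (h.comm_ne_zero L ha hc)
  let U : Subgroup Γ :=
    { carrier := {a | a ∈ T ∧ s • a • f = a • f}
      one_mem' := ⟨one_mem _, by rw [one_smul, hsf]⟩
      mul_mem' := fun {a b} ha hb => ⟨mul_mem ha.1 hb.1, hmulU a ha.1 b hb.1 ha.2 hb.2⟩
      inv_mem' := fun {a} ha => ⟨inv_mem ha.1, by
        have hp : ∀ n : ℕ, s • a ^ n • f = a ^ n • f := by
          intro n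
          induction n with
          | zero => rw [pow_zero, one_smul, hsf]
          | succ n ih => rw [pow_succ]; exact hmulU _ (pow_mem ha.1 n) a ha.1 ih ha.2
        have e : a⁻¹ = a ^ (orderOf a - 1) := by
          rw [inv_eq_iff_mul_eq_one, ← pow_succ', Nat.sub_add_cancel (orderOf_pos a),
            pow_orderOf_eq_one]
        rw [e]; exact hp _⟩ }
  have hRU : ∀ x, g x ≠ 0 → x ∈ U := fun x hx => ⟨h.supp x hx, by
    simpa using hRf 1 (one_mem _) (by simp) x hx⟩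
  have hsU : ∀ a ∈ U, s * a * s⁻¹ ∈ U := by
    intro a ha
    have e : (s * a * s⁻¹) • f = a • f := by
      have hf' : s⁻¹ • f = f := by conv_lhs => rw [← hsf, inv_smul_smul]
      rw [mul_smul, mul_smul, hf', ha.2]
    exact ⟨hTs a ha.1, by rw [e, ha.2]⟩
  have hUn : ∀ x ∈ T, ∀ a ∈ U, x * a * x⁻¹ ∈ U := fun x hx a ha => by
    rw [show x * a * x⁻¹ = ⁅x, a⁆ * a by simp [commutatorElement_def, mul_assoc]]
    exact mul_mem (hRU _ (h.comm_ne_zero L hx ha.1)) ha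
  have hy0U : y0 ∉ U := fun hy => hy0 hy.2
  -- outside `U`, `m` agrees with a power of `s`
  have hstep : ∀ a ∈ T, a ∉ U → ∃ i < r, a⁻¹ * (m * (s ^ i * a * (s ^ i)⁻¹) * m⁻¹) ∈ U := by
    intro a ha hnot
    have hmov : s • a • f ≠ a • f := fun e => hnot ⟨ha, e⟩
    have hnb : ¬ B (a • f) := fun hb => hmov (S.bad_fixed _ hb)
    have h1 : π m (osum π s r (π a d)) ∉ N (a • f) := by
      intro h'
      have h2 : osum π s r (π a d) ∈ N (a • f) := by
        have := sub_mem h' ((hm.move _ (pi_s_osum L (π a d))).2 _ hnb)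
        rwa [sub_sub_cancel] at this
      have := sub_mem h2 (osum_sub_mem L S le_rfl hTs hBf hd ha hmov)
      rw [sub_sub_cancel] at this
      exact hf ((mem_N_iff S).mp this)
    rw [osum, map_sum] at h1
    obtain ⟨i, hir, hi⟩ : ∃ i ∈ Finset.range r, π m (π (s ^ i) (π a d)) ∉ N (a • f) := by
      by_contra hcon
      push Not at hcon
      exact h1 (Submodule.sum_mem _ hcon)
    refine ⟨i, Finset.mem_range.mp hir, ?_⟩
    set φ := m * s ^ i with hφ
    have hφs : s * φ = φ * s :=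
      ((show Commute s m from hm.comm).mul_right (Commute.self_pow s i)).eq
    have h3 : s • (a⁻¹ * φ⁻¹) • a • f = (a⁻¹ * φ⁻¹) • a • f := by
      refine S.bad_fixed _ ?_
      by_contra hb
      refine hi ?_
      rw [← Module.End.mul_apply, ← map_mul, ← Module.End.mul_apply, ← map_mul,
        ← smul_inv_smul (φ * a) (a • f), mem_N_iff S, mul_inv_rev]
      exact hd.2 _ hb
    have h5 : s • (φ * a⁻¹ * φ⁻¹ * a) • f = (φ * a⁻¹ * φ⁻¹ * a) • f := by
      have e : (φ * a⁻¹ * φ⁻¹ * a) • f = φ • (a⁻¹ * φ⁻¹) • a • f := by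
        simp only [mul_smul]
      rw [e, smul_smul, hφs, mul_smul, h3]
    have hbU : φ * a⁻¹ * φ⁻¹ * a ∈ U :=
      ⟨mul_mem (L.conj_mem φ (inv_mem ha)) ha, h5⟩
    have := inv_mem hbU
    rwa [show (φ * a⁻¹ * φ⁻¹ * a)⁻¹ = a⁻¹ * (m * (s ^ i * a * (s ^ i)⁻¹) * m⁻¹) by
      rw [hφ]; group] at this
  have hsUi : ∀ i : ℕ, ∀ a ∈ U, s ^ i * a * (s ^ i)⁻¹ ∈ U := fun i a ha => conj_pow_mem hsU i ha
  -- `m` preserves the complement of `U`
  have hout : ∀ a : {a // a ∈ T ∧ a ∉ U}, m * a.1 * m⁻¹ ∈ T ∧ m * a.1 * m⁻¹ ∉ U := by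
    rintro ⟨a, ha, hnot⟩
    refine ⟨L.conj_mem m ha, fun hmem => hnot ?_⟩
    obtain ⟨i, -, hi⟩ := hstep a ha hnot
    have h1 := hsUi i _ hmem
    rw [show s ^ i * (m * a * m⁻¹) * (s ^ i)⁻¹ = (s ^ i * m) * a * (s ^ i * m)⁻¹ by group,
      ((show Commute s m from hm.comm).pow_left i).eq] at h1
    have h2 := mul_mem h1 (inv_mem hi)
    rwa [show m * s ^ i * a * (m * s ^ i)⁻¹ * (a⁻¹ * (m * (s ^ i * a * (s ^ i)⁻¹) * m⁻¹))⁻¹ = a by
      group] at h2
  have hmU : ∀ a ∈ U, m * a * m⁻¹ ∈ U := by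
    intro a ha
    by_contra hnot
    let F : {a // a ∈ T ∧ a ∉ U} → {a // a ∈ T ∧ a ∉ U} := fun a => ⟨m * a.1 * m⁻¹, hout a⟩
    obtain ⟨⟨b, hbT, hb⟩, hbe⟩ := Finite.surjective_of_injective (f := F)
      (fun a b e => Subtype.ext (by simpa [F] using congrArg Subtype.val e))
      ⟨m * a * m⁻¹, L.conj_mem m ha.1, hnot⟩
    have : b = a := by simpa [F] using congrArg Subtype.val hbe
    exact hb (this ▸ ha)
  -- so it agrees with the identity
  obtain ⟨e, he0, he, her, heq⟩ := hm.ord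
  have hout1 : ∀ a ∈ T, a ∉ U → a⁻¹ * (m * a * m⁻¹) ∈ U := by
    intro a ha hnot
    obtain ⟨i, hir, hi⟩ := hstep a ha hnot
    suffices hi0 : i = 0 by rw [hi0] at hi; simpa using hi
    by_contra hi0
    set φ := m * s ^ i with hφ
    have hφU : ∀ b ∈ U, φ * b * φ⁻¹ ∈ U := fun b hb => by
      rw [hφ, show m * s ^ i * b * (m * s ^ i)⁻¹ = m * (s ^ i * b * (s ^ i)⁻¹) * m⁻¹ by group]
      exact hmU _ (hsUi i b hb)
    have hiter : ∀ (ψ : Γ), (∀ b ∈ U, ψ * b * ψ⁻¹ ∈ U) → a⁻¹ * (ψ * a * ψ⁻¹) ∈ U →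
        ∀ n : ℕ, a⁻¹ * (ψ ^ n * a * (ψ ^ n)⁻¹) ∈ U := by
      intro ψ hψ h1 n
      induction n with
      | zero => simpa using U.one_mem
      | succ n ih =>
        rw [show a⁻¹ * (ψ ^ (n + 1) * a * (ψ ^ (n + 1))⁻¹) =
          (a⁻¹ * (ψ * a * ψ⁻¹)) * (ψ * (a⁻¹ * (ψ ^ n * a * (ψ ^ n)⁻¹)) * ψ⁻¹) by
          rw [pow_succ']; group]
        exact mul_mem h1 (hψ _ ih)
    have h2 := hiter φ hφU (by
      rwa [show φ * a * φ⁻¹ = m * (s ^ i * a * (s ^ i)⁻¹) * m⁻¹ by rw [hφ]; group]) e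
    rw [hφ, ((show Commute s m from hm.comm).pow_left i).symm.mul_pow, he, one_mul, ← pow_mul] at h2
    have hnd : ¬ r ∣ i * e := fun hd' =>
      hi0 (Nat.eq_zero_of_dvd_of_lt (her.dvd_of_dvd_mul_right hd') hir)
    obtain ⟨j, hj⟩ := eq_pow_pow L.rprime L.pow hnd
    have h3 := hiter (s ^ (i * e)) (hsUi (i * e)) h2 j
    rw [hj] at h3
    have hn : Subgroup.zpowers s ≤ Subgroup.normalizer (U : Set Γ) := normalizer_of_conj hsU
    obtain ⟨u, hu, huc⟩ := Coprime.exists_mul_fixed hn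
      (coprime_zpowers L.pow ((Nat.coprime_primes L.rprime L.qprime).mpr L.ne.symm)
        (L.pgroup.to_le fun x hx => hx.1)) (Or.inl (Coprime.isSolvable_zpowers s)) (k := a)
      (fun δ hδ => by
        obtain ⟨n, rfl⟩ := (mem_powers_iff_mem_zpowers (x := s) (y := δ)).mpr hδ
        exact hiter s hsU h3 n)
    have hcs : s * (a * u) = a * u * s :=
      Subgroup.mem_centralizer_iff.mp huc s (Subgroup.mem_zpowers s)
    have hau : a * u ∈ U := ⟨mul_mem ha hu.1, fixed_of_commute hcs hsf⟩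
    exact hnot (by simpa using mul_mem hau (inv_mem hu))
  have hall : ∀ a ∈ T, a⁻¹ * (m * a * m⁻¹) ∈ U := fun a ha => by
    by_cases haU : a ∈ U
    · exact mul_mem (inv_mem haU) (hmU a haU)
    · exact hout1 a ha haU
  -- the isotropic subgroup
  set St := T ⊓ MulAction.stabilizer Γ f with hSt
  have hsSt : ∀ x ∈ St, s * x * s⁻¹ ∈ St := fun x hx => by
    refine ⟨hTs x hx.1, ?_⟩
    have hf' : s⁻¹ • f = f := by conv_lhs => rw [← hsf, inv_smul_smul]
    show (s * x * s⁻¹) • f = f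
    rw [mul_smul, mul_smul, hf', show x • f = f from hx.2, hsf]
  set Y := radical g ⊔ ⁅St, Subgroup.zpowers s⁆ with hY
  have hRY : ∀ x, g x ≠ 0 → x ∈ Y := fun x hx =>
    Subgroup.mem_sup_left ((h.mem_radical L).mpr hx)
  have hYT : Y ≤ T := sup_le (h.radical_le L) (comm_le_T L inf_le_left)
  have hYn : ∀ x ∈ T, ∀ a ∈ Y, x * a * x⁻¹ ∈ Y := fun x hx a ha => by
    rw [show x * a * x⁻¹ = ⁅x, a⁆ * a by simp [commutatorElement_def, mul_assoc]]
    exact mul_mem (hRY _ (h.comm_ne_zero L hx (hYT ha))) ha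
  have hUY : ∀ z ∈ U, ∀ δ ∈ Subgroup.zpowers s, ⁅z, δ⁆ ∈ Y := by
    intro z hz δ hδ
    obtain ⟨c, hc, hcs, hcf⟩ := exists_fixed_conj L le_rfl hTs hsf hz.2 ⟨z, hz.1, rfl⟩
    have hh : c⁻¹ * z ∈ St := ⟨(mul_mem (inv_mem hc) hz.1 : c⁻¹ * z ∈ T), by
      show (c⁻¹ * z) • f = f
      rw [mul_smul, ← hcf, inv_smul_smul]⟩
    have hcδ : ⁅c, δ⁆ = 1 := commutatorElement_eq_one_iff_mul_comm.mpr (by
      obtain ⟨j, rfl⟩ := Subgroup.mem_zpowers_iff.mp hδ
      exact (Commute.zpow_left (show Commute s c from hcs) j).eq.symm)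
    rw [show ⁅z, δ⁆ = c * ⁅c⁻¹ * z, δ⁆ * c⁻¹ * ⁅c, δ⁆ by
      simp only [commutatorElement_def]; group, hcδ, mul_one]
    exact hYn c hc _ (Subgroup.mem_sup_right (Subgroup.commutator_mem_commutator hh hδ))
  -- `Y` is isotropic
  let perp : ∀ z ∈ T, Subgroup Γ := fun z hz =>
    { carrier := {w | w ∈ T ∧ g ⁅z, w⁆ = 1}
      one_mem' := ⟨one_mem _, by rw [commutatorElement_one_right, h.one]⟩
      mul_mem' := fun {a b} ha hb => ⟨mul_mem ha.1 hb.1, by
        rw [h.pair_mul_right L hz ha.1 hb.1, ha.2, hb.2, mul_one]⟩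
      inv_mem' := fun {a} ha => ⟨inv_mem ha.1, by
        have := h.pair_inv_right L hz ha.1
        rwa [ha.2, one_mul] at this⟩ }
  have hRperp : ∀ z (hz : z ∈ T), radical g ≤ perp z hz := fun z hz x hx => by
    have hx' := (h.mem_radical L).mp hx
    refine ⟨h.supp x hx', ?_⟩
    have h1 := h.pair_symm L hz (h.supp x hx')
    rwa [(h.rad x (h.supp x hx')).mp hx' z hz, mul_one] at h1
  have hStT : ⁅St, Subgroup.zpowers s⁆ ≤ T := comm_le_T L inf_le_left
  have hiso : ∀ y (hy : y ∈ Y), Y ≤ perp y (hYT hy) := by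
    have h0 : ∀ y (hy : y ∈ ⁅St, Subgroup.zpowers s⁆), Y ≤ perp y (hStT hy) := fun y hy =>
      sup_le (hRperp y (hStT hy)) fun w hw => ⟨hStT hw, by
        by_contra hne
        have hyw : ⁅y, w⁆ ∈ ⁅St, Subgroup.zpowers s⁆ := by
          rw [commutatorElement_def]
          exact mul_mem (mul_mem (mul_mem hy hw) (inv_mem hy)) (inv_mem hw)
        have h1 := (triv_of_fix L S inf_le_left hsSt hBf (fun x hx => hx.2) hyw).2 d
        rw [hdW _ (h.comm_ne_zero L (hStT hy) (hStT hw)),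
          show g ⁅y, w⁆ • d - d = (g ⁅y, w⁆ - 1) • d by rw [sub_smul, one_smul]] at h1
        exact hf ((Submodule.smul_mem_iff _ (sub_ne_zero.mpr hne)).mp h1)⟩
    intro y hy
    refine sup_le (hRperp y (hYT hy)) fun w hw => ⟨hStT hw, ?_⟩
    have h1 := (h0 w hw hy).2
    have h2 := h.pair_symm L (hStT hw) (hYT hy)
    rwa [h1, one_mul] at h2
  -- on the moved part
  have hP := h.moved_piece L hg
  have hmM : ∀ D ∈ moved g s T, m * D * m⁻¹ ∈ moved g s T :=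
    fun _ hD => h.map_moved hmg hm.comm.symm (fun _ hv => L.conj_mem m hv) hD
  let M : Subgroup Γ :=
    { carrier := {D | D ∈ T ∧ D⁻¹ * (m * D * m⁻¹) ∈ Y}
      one_mem' := ⟨one_mem _, by simpa using Y.one_mem⟩
      mul_mem' := fun {a b} ha hb => ⟨mul_mem ha.1 hb.1, by
        rw [show (a * b)⁻¹ * (m * (a * b) * m⁻¹) =
          (b⁻¹ * (a⁻¹ * (m * a * m⁻¹)) * b⁻¹⁻¹) * (b⁻¹ * (m * b * m⁻¹)) by group]
        exact mul_mem (hYn _ (inv_mem hb.1) _ ha.2) hb.2⟩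
      inv_mem' := fun {a} ha => ⟨inv_mem ha.1, by
        rw [show a⁻¹⁻¹ * (m * a⁻¹ * m⁻¹) = a * (a⁻¹ * (m * a * m⁻¹))⁻¹ * a⁻¹ by group]
        exact hYn a ha.1 _ (inv_mem ha.2)⟩ }
  have hMle : moved g s T ≤ M := by
    refine sup_le (fun x hx => ⟨h.radical_le L hx, Subgroup.mem_sup_left
      (mul_mem (inv_mem hx) (h.map_radical hmg hx))⟩) (Subgroup.commutator_le.mpr ?_)
    intro u hu δ hδ
    refine ⟨L.comm_mem hu δ, ?_⟩
    have hδm : δ * m = m * δ := by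
      obtain ⟨j, rfl⟩ := Subgroup.mem_zpowers_iff.mp hδ
      exact (Commute.zpow_left (show Commute s m from hm.comm) j).eq
    have e1 : m * ⁅u, δ⁆ * m⁻¹ =
        u * ⁅u⁻¹ * (m * u * m⁻¹), δ⁆ * u⁻¹ * ⁅u, δ⁆ := by
      have : m * ⁅u, δ⁆ * m⁻¹ = ⁅m * u * m⁻¹, δ⁆ := by
        simp only [commutatorElement_def]
        calc m * (u * δ * u⁻¹ * δ⁻¹) * m⁻¹ = m * u * m⁻¹ * (m * δ * m⁻¹) * (m * u⁻¹ * m⁻¹) * (m * δ * m⁻¹)⁻¹ := by group
          _ = _ := by rw [show m * δ * m⁻¹ = δ by rw [← hδm, mul_inv_cancel_right]]; group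
      rw [this]
      simp only [commutatorElement_def]; group
    rw [e1, show ⁅u, δ⁆⁻¹ * (u * ⁅u⁻¹ * (m * u * m⁻¹), δ⁆ * u⁻¹ * ⁅u, δ⁆) =
      ⁅u, δ⁆⁻¹ * (u * ⁅u⁻¹ * (m * u * m⁻¹), δ⁆ * u⁻¹) * ⁅u, δ⁆⁻¹⁻¹ by group]
    exact hYn _ (inv_mem (L.comm_mem hu δ)) _ (hYn u hu _ (hUY _ (hall u hu) δ hδ))
  refine triv_of_ne_zero L hm.comm hm.cent h hg fun t ht => h.trivial_extend L hg hmg ?_
    (fun c hc hcs => by
      rw [h.ker _ (mul_mem (inv_mem hc) (L.conj_mem m hc)) (hm.cent c hc hcs)]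
      exact one_ne_zero) ht
  intro D hD
  set E := D⁻¹ * (m * D * m⁻¹) with hE
  have hEY : E ∈ Y := (hMle hD).2
  have hEM : E ∈ moved g s T := mul_mem (inv_mem hD) (hmM D hD)
  have hET := hP.le_T hEM
  -- `E` is fixed modulo the radical
  have hEfix : g (E⁻¹ * (m * E * m⁻¹)) ≠ 0 := by
    refine hP.nondeg _ (mul_mem (inv_mem hEM) (hmM E hEM)) fun X hX => ?_
    have hminv : m⁻¹ • g = g := by conv_lhs => rw [← hmg, inv_smul_smul]
    have hD' : m⁻¹ * X * m ∈ moved g s T := by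
      have := h.map_moved hminv ((show Commute s m from hm.comm).inv_right.eq.symm)
        (fun _ hv => L.conj_mem m⁻¹ hv) hX
      rwa [inv_inv] at this
    have hD'T := hP.le_T hD'
    have hXT := hP.le_T hX
    have h1 : g ⁅E, (m⁻¹ * X * m)⁻¹ * X⁆ = 1 := by
      have := (hiso E hEY ((hMle hD').2)).2
      rwa [show (m⁻¹ * X * m)⁻¹ * (m * (m⁻¹ * X * m) * m⁻¹) = (m⁻¹ * X * m)⁻¹ * X by group] at this
    rw [h.pair_mul_right L hET (inv_mem hD'T) hXT] at h1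
    have h2 := h.pair_inv_right L hET hD'T
    have h3 : g ⁅E, m⁻¹ * X * m⁆ = g ⁅E, X⁆ := by
      refine mul_right_cancel₀ (h.comm_ne_zero L hET (inv_mem hD'T)) ?_
      rw [h2, mul_comm]; exact h1.symm
    have h4 : g ⁅m * E * m⁻¹, X⁆ = g ⁅E, m⁻¹ * X * m⁆ := by
      rw [← Points.IsPoint.pair_conj hmg E (m⁻¹ * X * m)]
      congr 2
      group
    rw [h.pair_mul_left L (inv_mem hET) (L.conj_mem m hET) hXT, h4, h3,
      ← h.pair_mul_left L (inv_mem hET) hET hXT, inv_mul_cancel, h.pair_one_left L]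
  let F : Subgroup Γ :=
    { carrier := {x | x ∈ T ∧ g (x⁻¹ * (m * x * m⁻¹)) ≠ 0}
      one_mem' := ⟨one_mem _, by simp [h.one]⟩
      mul_mem' := fun {a b} ha hb => ⟨mul_mem ha.1 hb.1, by
        rw [show (a * b)⁻¹ * (m * (a * b) * m⁻¹) =
          (b⁻¹ * (a⁻¹ * (m * a * m⁻¹)) * b⁻¹⁻¹) * (b⁻¹ * (m * b * m⁻¹)) by group,
          h.mul _ _ (by rw [h.apply_conj_rad L (inv_mem hb.1)]; exact ha.2) hb.2,
          h.apply_conj_rad L (inv_mem hb.1)]
        exact mul_ne_zero ha.2 hb.2⟩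
      inv_mem' := fun {a} ha => ⟨inv_mem ha.1, by
        rw [show a⁻¹⁻¹ * (m * a⁻¹ * m⁻¹) = a * (a⁻¹ * (m * a * m⁻¹))⁻¹ * a⁻¹ by group,
          h.apply_conj_rad L ha.1]
        exact (h.supportSubgroup L).inv_mem ha.2⟩ }
  have hpow : ∀ n : ℕ, g ((D * E ^ n)⁻¹ * (m ^ n * D * (m ^ n)⁻¹)) ≠ 0 := by
    intro n
    induction n with
    | zero => simp [h.one]
    | succ n ih =>
      have hEn : g ((E ^ n)⁻¹ * (m * E ^ n * m⁻¹)) ≠ 0 :=
        ((pow_mem (show E ∈ F from ⟨hET, hEfix⟩) n) : E ^ n ∈ F).2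
      have h1 := IsPoint.cong_conj hmg ih
      rw [show m * (m ^ n * D * (m ^ n)⁻¹) * m⁻¹ = m ^ (n + 1) * D * (m ^ (n + 1))⁻¹ by
        rw [pow_succ']; group] at h1
      refine h.cong_trans L ?_ h1
      rwa [show (D * E ^ (n + 1))⁻¹ * (m * (D * E ^ n) * m⁻¹) =
        (E ^ n)⁻¹ * (m * E ^ n * m⁻¹) by
          rw [pow_succ']
          generalize E ^ n = X
          rw [hE]; group]
  have h1 := hpow e
  rw [he] at h1
  have hEe : E ^ e ∈ h.supportSubgroup L := by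
    have h2 : g (E ^ e)⁻¹ ≠ 0 := by
      rwa [show (D * E ^ e)⁻¹ * (1 * D * 1⁻¹) = (E ^ e)⁻¹ by group] at h1
    exact inv_mem_iff.mp h2
  obtain ⟨l, hl⟩ := L.isPGroup_card
  obtain ⟨n, hn⟩ := exists_pow_eq_self_of_coprime (x := E) (n := e) (by
    refine Nat.Coprime.coprime_dvd_right ?_ (Nat.Coprime.pow_right l heq)
    rw [← hl]
    exact (Subgroup.orderOf_mk E hET ▸ orderOf_dvd_natCard (⟨E, hET⟩ : T)))
  show E ∈ h.supportSubgroup L
  rw [← hn]
  exact pow_mem hEe n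

end Auto

end Cfsg.Agent.Lib.PrimeFitting.Coord
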