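/-
Elements fixing the special points, and their commutators with `m`.
-/
import Cfsg.Agent.Lib.PrimeFitting.Special

set_option autoImplicit false
set_option linter.style.haveILetI false
set_option linter.unusedSectionVars false

open scoped commutatorElement

namespace Cfsg.Agent.Lib.PrimeFitting.Coord

open Points

variable {Γ : Type*} [Group Γ] [Finite Γ] {k : Type*} [Field k] [IsAlgClosed k] {V : Type*}
  [AddCommGroup V] [Module k V] [FiniteDimensional k V]
  {π : Γ →* Module.End k V} {T : Subgroup Γ} {q r : ℕ} {s : Γ}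
  {Ω : Type*} [MulAction Γ Ω] {N : Ω → Submodule k V} {B : Ω → Prop}
  (L : Level π T q s r)
include L

/-- An element of `T` with value one at every point acts trivially. -/
theorem eq_one_of_forall {y : Γ} (hy : ∀ g, IsPoint π T g → g y = 1) : π y = 1 :=
  eq_of_forall_W L fun g hg v hv => by
    rw [hv y (by rw [hy g hg]; exact one_ne_zero), hy g hg, one_smul, Module.End.one_apply]

omit [IsAlgClosed k] [FiniteDimensional k V] in
theorem triv_mul {a b : Γ} {g : Pt Γ k} (h : IsPoint π T g) (hag : a • g = g)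
    (ha : Triv T a g) (hb : Triv T b g) : Triv T (a * b) g := by
  intro t ht
  have hb1 : g (a * (t⁻¹ * (b * t * b⁻¹)) * a⁻¹) = 1 := by
    rw [apply_conj_of_fixed hag]; exact hb t ht
  rw [show t⁻¹ * (a * b * t * (a * b)⁻¹) =
      (t⁻¹ * (a * t * a⁻¹)) * (a * (t⁻¹ * (b * t * b⁻¹)) * a⁻¹) by group,
    h.mul _ _ (by rw [ha t ht]; exact one_ne_zero) (by rw [hb1]; exact one_ne_zero),
    ha t ht, hb1, one_mul]

omit [IsAlgClosed k] [FiniteDimensional k V] in
theorem triv_inv {a : Γ} {g : Pt Γ k} (h : IsPoint π T g) (ha : Triv T a g) : Triv T a⁻¹ g := by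
  intro t ht
  have h1 := ha (a⁻¹ * t⁻¹ * a) (L.conj_mem' a (inv_mem ht))
  rw [show (a⁻¹ * t⁻¹ * a)⁻¹ * (a * (a⁻¹ * t⁻¹ * a) * a⁻¹) = a⁻¹ * t * a * t⁻¹ by group] at h1
  rw [show t⁻¹ * (a⁻¹ * t * a⁻¹⁻¹) = t⁻¹ * (a⁻¹ * t * a * t⁻¹) * t⁻¹⁻¹ by group,
    h.apply_conj_rad L (inv_mem ht), h1]

variable {m : Γ} (hm : Auto π T q r s N B m) (S : Sys π T s N B)
include hm S

/-- Without special points `m` centralises `T`. -/
theorem trivial_of_no_special (hno : ∀ g, ¬ Special π T m g) {t : Γ} (ht : t ∈ T) :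
    π (t⁻¹ * (m * t * m⁻¹)) = 1 :=
  eq_one_of_forall L fun g hg => by
    by_contra hne
    exact hno g ⟨hg, fun htr => hne (htr t ht)⟩

theorem special_fixed {g : Pt Γ k} (hg : Special π T m g) : s • g = g := by
  by_contra hne
  exact hg.2 (triv_moved L hm S hg.1 hne)

omit S in
theorem special_not_bad {g : Pt Γ k} (hg : Special π T m g) : ¬ Bad T s r g :=
  fun hb => hg.2 (triv_bad L hm hg.1 hb)

theorem special_K0 {g : Pt Γ k} (hg : Special π T m g) {d : V} (hd : d ∈ K0 π s N B)
    (hdW : d ∈ W π g) : d = 0 := by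
  by_contra hne
  exact hg.2 (triv_of_K0 L hm S hg.1 (special_fixed L hm S hg) (special_not_bad L hm hg) hd hdW hne)

/-- On a special point `m` inverts the moved part. -/
theorem special_inverts {g : Pt Γ k} (hg : Special π T m g) :
    ∀ u ∈ moved g s T, g (u * (m * u * m⁻¹)) ≠ 0 := by
  obtain ⟨e, he0, he, her, heq⟩ := hm.ord
  have hgs := special_fixed L hm S hg
  have hmg := fix_fixed L hm hg.1 hgs
  rcases hg.1.trivial_or_invert L hgs hm.comm hmg he0 he her heq
    (fun v hv hsv => sub_eq_zero.mp (special_K0 L hm S hg (hm.move v hsv) (sub_mem (by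
      have := pi_mem_W_smul (γ := m) hv
      rwa [hmg] at this) hv)))
    (fun t ht hts => by
      rw [hg.1.ker _ (mul_mem (inv_mem ht) (L.conj_mem m ht)) (hm.cent t ht hts)]
      exact one_ne_zero) with h | h
  · exact absurd (triv_of_ne_zero L hm.comm hm.cent hg.1 hgs h) hg.2
  · exact h

/-- Elements moving fixed vectors into `K0` fix the special points. -/
theorem special_fix_of_move {x : Γ} (hxs : s * x = x * s)
    (hx : ∀ c, π s c = c → π x c - c ∈ K0 π s N B) {g : Pt Γ k} (hg : Special π T m g) :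
    x • g = g := by
  by_contra hne
  have hgs := special_fixed L hm S hg
  obtain ⟨v, hv, hv0, hvs⟩ := hg.1.exists_eigen L hgs (special_not_bad L hm hg) (one_pow r)
  rw [one_smul] at hvs
  obtain ⟨c, hcT, hcs, hgc, hgc', hdiff⟩ := exists_separating L hg.1 (L.isPoint_smul hg.1 x) hgs
    (fixed_of_commute hxs hgs) hne
  have hd := hx v hvs
  have h1 : π c (π x v - v) - (x • g) c • (π x v - v) ∈ K0 π s N B :=
    sub_mem (K0_smul S hcs hd) (Submodule.smul_mem _ _ hd)
  have e : π c (π x v - v) - (x • g) c • (π x v - v) = ((x • g) c - g c) • v := by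
    rw [map_sub, hv c hgc, pi_mem_W_smul hv c hgc', smul_sub, sub_smul]
    abel
  rw [e, Submodule.smul_mem_iff _ (sub_ne_zero.mpr hdiff)] at h1
  exact hv0 (special_K0 L hm S hg h1 hv)

/-- Elements centralising the fixed elements at large points fix the special points. -/
theorem special_fix_of_comm {x : Γ} (hxs : s * x = x * s)
    (hx : ∀ z ∈ T, s * z = z * s → ∀ g', IsPoint π T g' → ¬ Bad T s r g' → g' ⁅x, z⁆ = 1)
    {g : Pt Γ k} (hg : Special π T m g) : x • g = g := by
  have hgs := special_fixed L hm S hg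
  refine eq_of_agree L hg.1 (L.isPoint_smul hg.1 x) hgs (fixed_of_commute hxs hgs)
    fun c hc hcs hgc hgc' => ?_
  have h1 := hx c hc hcs _ (L.isPoint_smul hg.1 x)
    (not_bad_smul L hxs (special_not_bad L hm hg))
  have h2 : (x • g) (x * c * x⁻¹) = g c := by
    rw [Points.smul_apply]
    congr 1; group
  rw [show x * c * x⁻¹ = ⁅x, c⁆ * c by simp [commutatorElement_def, mul_assoc],
    (L.isPoint_smul hg.1 x).mul _ _ (by rw [h1]; exact one_ne_zero) hgc', h1, one_mul] at h2
  exact h2

/-- If `x` fixes all special points, its commutator with `m` centralises `T`. -/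
theorem commutator_trivial {x : Γ} (hxs : s * x = x * s)
    (hfix : ∀ g, Special π T m g → x • g = g) {t : Γ} (ht : t ∈ T) :
    π (t⁻¹ * (⁅x, m⁆ * t * ⁅x, m⁆⁻¹)) = 1 := by
  set m' := x * m * x⁻¹ with hm'
  clear_value m'
  have hn : ⁅x, m⁆ = m' * m⁻¹ := by simp [hm', commutatorElement_def]
  have hxs' : s * x⁻¹ = x⁻¹ * s := (show Commute s x from hxs).inv_right.eq
  have hm's : s * m' = m' * s := hm' ▸
    (((show Commute s x from hxs).mul_right hm.comm).mul_right hxs').eq
  have hns : s * ⁅x, m⁆ = ⁅x, m⁆ * s := by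
    rw [hn]; exact ((show Commute s m' from hm's).mul_right (show Commute s m from hm.comm).inv_right).eq
  have hcent' : ∀ c ∈ T, s * c = c * s → π (c⁻¹ * (m' * c * m'⁻¹)) = 1 := by
    intro c hc hcs
    have h1 := hm.cent (x⁻¹ * c * x) (L.conj_mem' x hc)
      (((show Commute s x⁻¹ from hxs').mul_right hcs).mul_right hxs).eq
    rw [show c⁻¹ * (m' * c * m'⁻¹) =
      x * ((x⁻¹ * c * x)⁻¹ * (m * (x⁻¹ * c * x) * m⁻¹)) * x⁻¹ by rw [hm']; group, map_mul, map_mul,
      h1, mul_one, pi_mul_inv]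
  have hcentn : ∀ c ∈ T, s * c = c * s → π (c⁻¹ * (⁅x, m⁆ * c * ⁅x, m⁆⁻¹)) = 1 := by
    intro c hc hcs
    have hkey : ∀ {a : Γ}, π (c⁻¹ * (a * c * a⁻¹)) = 1 → π a * π c * π a⁻¹ = π c := fun {a} h1 => by
      rw [← map_mul, ← map_mul, show a * c * a⁻¹ = c * (c⁻¹ * (a * c * a⁻¹)) by group, map_mul, h1,
        mul_one]
    have h1 := hkey (hm.cent c hc hcs)
    have h2 := hkey (hcent' c hc hcs)
    have h3 : π m⁻¹ * π c * π m = π c := by
      conv_lhs => rw [← h1]
      simp only [← map_mul]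
      congr 1; group
    rw [hn, map_mul, map_mul, map_mul, show (m' * m⁻¹)⁻¹ = m * m'⁻¹ by group, map_mul, map_mul]
    rw [show π m' * π m⁻¹ * π c * (π m * π m'⁻¹) = π m' * (π m⁻¹ * π c * π m) * π m'⁻¹ by
      simp only [mul_assoc], h3, h2, pi_inv_mul]
  refine eq_one_of_forall L fun g hg => ?_
  by_cases hsp : Special π T m g
  · have hxg := hfix g hsp
    have hgs := special_fixed L hm S hsp
    have hmg := fix_fixed L hm hg hgs
    have hminv : m⁻¹ • g = g := by conv_lhs => rw [← hmg, inv_smul_smul]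
    have hxinv : x⁻¹ • g = g := by conv_lhs => rw [← hxg, inv_smul_smul]
    have hm'g : m' • g = g := by rw [hm', mul_smul, mul_smul, hxinv, hmg, hxg]
    have hng : ⁅x, m⁆ • g = g := by rw [hn, mul_smul, hminv, hm'g]
    refine triv_of_ne_zero L hns hcentn hg hgs
      (fun t ht => hg.trivial_extend L hgs hng (fun u hu => ?_) (fun c hc hcs => by
        rw [hg.ker _ (mul_mem (inv_mem hc) (L.conj_mem _ hc)) (hcentn c hc hcs)]
        exact one_ne_zero) ht) t ht
    have hinv := special_inverts L hm S hsp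
    set w := m⁻¹ * u * m with hw
    have hwM : w ∈ moved g s T := by
      have := hg.map_moved hminv (show Commute s m from hm.comm).inv_right.eq.symm
        (fun _ hv => L.conj_mem m⁻¹ hv) hu
      rwa [inv_inv] at this
    have h1 : g (w * u) ≠ 0 := by
      have := hinv w hwM
      rwa [show m * w * m⁻¹ = u by rw [hw]; group] at this
    have hw' : x⁻¹ * w * x ∈ moved g s T := by
      have := hg.map_moved hxinv hxs'.symm (fun _ hv => L.conj_mem x⁻¹ hv) hwM
      rwa [inv_inv] at this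
    have h2 : g (w * (m' * w * m'⁻¹)) ≠ 0 := by
      have h3 := hinv _ hw'
      rw [← apply_conj_of_fixed hxg] at h3
      rwa [show x * (x⁻¹ * w * x * (m * (x⁻¹ * w * x) * m⁻¹)) * x⁻¹ = w * (m' * w * m'⁻¹) by
        rw [hm']; group] at h3
    rw [show u⁻¹ * (⁅x, m⁆ * u * ⁅x, m⁆⁻¹) = (w * u)⁻¹ * (w * (m' * w * m'⁻¹)) by
      rw [hn, hw]; group, hg.mul _ _ ((hg.supportSubgroup L).inv_mem h1) h2]
    exact mul_ne_zero ((hg.supportSubgroup L).inv_mem h1) h2
  · have htr : Triv T m g := by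
      by_contra h
      exact hsp ⟨hg, h⟩
    have hg' := L.isPoint_smul hg x⁻¹
    have htr' : Triv T m (x⁻¹ • g) := by
      by_contra h
      have := hfix _ ⟨hg', h⟩
      rw [smul_inv_smul] at this
      exact hsp (this ▸ (⟨hg', h⟩ : Special π T m (x⁻¹ • g)))
    have hm'g : m' • g = g := by
      rw [hm', mul_smul, mul_smul, fix_all L hm S hg', smul_inv_smul]
    have htrm' : Triv T m' g := by
      intro t ht
      have h1 := htr' (x⁻¹ * t * x) (L.conj_mem' x ht)
      rw [Points.smul_apply] at h1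
      rw [← h1]
      congr 1
      rw [hm']; group
    rw [hn]
    exact triv_mul L hg hm'g htrm' (triv_inv L hg htr) t ht

end Cfsg.Agent.Lib.PrimeFitting.Coord
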