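/-
Consecutive levels: the points of the lower level are coordinates on the module of the upper one.
-/
import Cfsg.Agent.Lib.PrimeFitting.Bad
import Cfsg.Agent.Lib.PrimeFitting.SpecialUse
import Cfsg.Agent.Lib.PrimeFitting.Lin

set_option autoImplicit false
set_option linter.style.haveILetI false
set_option linter.unusedSectionVars false

open scoped commutatorElement TensorProduct

namespace Cfsg.Agent.Lib.PrimeFitting.Link

open Points Coord

/-- Points of a lower level, acted on through a homomorphism. -/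
def Via {Γ Γ' : Type*} [Group Γ] [Group Γ'] (_ι : Γ →* Γ') (k' : Type*) : Type _ := Pt Γ' k'

variable {Γ Γ' : Type*} [Group Γ] [Group Γ'] {ι : Γ →* Γ'} {k' : Type*} [Field k']

noncomputable instance viaAction : MulAction Γ (Via ι k') := MulAction.compHom (Pt Γ' k') ι

theorem via_smul (γ : Γ) (f : Via ι k') : γ • f = (ι γ • (show Pt Γ' k' from f) : Pt Γ' k') := rfl

section Base

variable [Finite Γ'] {T' : Subgroup Γ'} {A : Type*} [Group A] [Finite A] {p : ℕ} [Fact p.Prime]
  {k : Type*} [Field k] [Algebra (ZMod p) k] (act : Γ →* MulAut A) (mk : T' →* A) {s : Γ} {r : ℕ}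

/-- The module of the upper level. -/
noncomputable def upper : Γ →* Module.End k (k ⊗[ZMod p] Lin.Mod A p) := (Lin.rep k).comp act

theorem upper_cl (γ : Γ) (a : A) :
    upper (p := p) (k := k) act γ (1 ⊗ₜ Lin.cl a) = 1 ⊗ₜ Lin.cl (act γ a) := by
  rw [upper, MonoidHom.comp_apply, Lin.rep_tmul, Lin.lin_cl]

theorem upper_om (γ : Γ) (z : Lin.Om A p) :
    upper (p := p) (k := k) act γ (1 ⊗ₜ Lin.om z) = 1 ⊗ₜ Lin.om (Lin.omMap (act γ) z) := by
  rw [upper, MonoidHom.comp_apply, Lin.rep_tmul, Lin.lin_om]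

variable {act mk} (hmk : Function.Surjective mk)
  (hequiv : ∀ (γ : Γ) (u u' : T'), (u' : Γ') = ι γ * u * (ι γ)⁻¹ → act γ (mk u) = mk u')
  (hnorm : ∀ (γ : Γ), ∀ u ∈ T', ι γ * u * (ι γ)⁻¹ ∈ T')
  (hT' : IsPGroup p T') (hs : s ^ r = 1) (hrp : r.Coprime p) (hr0 : (r : k) ≠ 0)
include hmk hequiv hnorm hT' hs hrp

theorem fixed_lift {a : A} (ha : act s a = a) :
    ∃ u : T', ι s * u = u * ι s ∧ mk u = a := by
  obtain ⟨u, rfl⟩ := hmk a
  set Kr := (MonoidHom.ker mk).map T'.subtype with hKr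
  have hn : Subgroup.zpowers (ι s) ≤ Subgroup.normalizer (Kr : Set Γ') := by
    refine Coord.normalizer_of_conj fun x hx => ?_
    obtain ⟨x, hx, rfl⟩ := hx
    refine ⟨⟨ι s * x * (ι s)⁻¹, hnorm s x x.2⟩, ?_, rfl⟩
    rw [SetLike.mem_coe, MonoidHom.mem_ker] at hx ⊢
    rw [← hequiv s x ⟨ι s * x * (ι s)⁻¹, hnorm s x x.2⟩ rfl, hx, map_one]
  have hpow : ∀ j : ℕ, act (s ^ j) (mk u) = mk u := by
    intro j
    induction j with
    | zero => rw [pow_zero, map_one, MulAut.one_apply]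
    | succ j ih => rw [pow_succ, map_mul, MulAut.mul_apply, ha, ih]
  obtain ⟨n, ⟨n, hn', rfl⟩, hfix⟩ := Coprime.exists_mul_fixed hn
    (Coord.coprime_zpowers (by rw [← map_pow, hs, map_one]) hrp
      (hT'.to_le (Subgroup.map_subtype_le _))) (Or.inl (Coprime.isSolvable_zpowers _)) (k := (u : Γ'))
    (fun δ hδ => by
      obtain ⟨j, rfl⟩ := (mem_powers_iff_mem_zpowers (x := ι s) (y := δ)).mpr hδ
      beta_reduce
      rw [← map_pow]
      refine ⟨u⁻¹ * ⟨ι (s ^ j) * u * (ι (s ^ j))⁻¹, hnorm _ u u.2⟩, ?_, rfl⟩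
      rw [SetLike.mem_coe, MonoidHom.mem_ker, map_mul, map_inv, ← hequiv (s ^ j) u ⟨ι (s ^ j) * u * (ι (s ^ j))⁻¹, hnorm _ u u.2⟩ rfl, hpow,
        inv_mul_cancel])
  refine ⟨u * n, ?_, ?_⟩
  · exact Subgroup.mem_centralizer_iff.mp hfix _ (Subgroup.mem_zpowers _)
  · rw [map_mul, MonoidHom.mem_ker.mp hn', mul_one]

include hr0 in
/-- Fixed vectors come from fixed elements of the lower group. -/
theorem fixed_mem {M : Submodule k (k ⊗[ZMod p] Lin.Mod A p)}
    (hM : ∀ u : T', ι s * u = u * ι s → (1 : k) ⊗ₜ Lin.cl (mk u) ∈ M ∧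
      ∀ hz : mk u ∈ Lin.Om A p, (1 : k) ⊗ₜ Lin.om ⟨mk u, hz⟩ ∈ M)
    {v : k ⊗[ZMod p] Lin.Mod A p} (hv : upper act s v = v) : v ∈ M := by
  refine Lin.fixed_mem k (e := act s) (by rw [← map_pow, hs, map_one]) hr0 ?_ (fun a ha => ?_)
    (fun z hz => ?_) hv
  · obtain ⟨l, hl⟩ := IsPGroup.iff_card.mp (hT'.of_surjective mk hmk)
    rw [hl]
    exact Nat.Coprime.pow_right l hrp
  · obtain ⟨u, hu, rfl⟩ := fixed_lift hmk hequiv hnorm hT' hs hrp ha
    exact (hM u hu).1
  · obtain ⟨z, hz'⟩ := z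
    obtain ⟨u, hu, rfl⟩ := fixed_lift hmk hequiv hnorm hT' hs hrp hz
    exact (hM u hu).2 hz'

end Base

section Sys

variable [Finite Γ] [Finite Γ'] [IsAlgClosed k'] {V' : Type*} [AddCommGroup V'] [Module k' V']
  [FiniteDimensional k' V'] {π' : Γ' →* Module.End k' V'} {T' : Subgroup Γ'} {p r : ℕ} {s : Γ}
  [Fact p.Prime] {A : Type*} [Group A] [Finite A] {k : Type*} [Field k] [Algebra (ZMod p) k]

open Classical in
/-- The subgroups of a coordinate. -/
noncomputable def coordB (mk : T' →* A) (f : Pt Γ' k') : Subgroup A :=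
  (Subgroup.closure {u : T' | f u ≠ 0}).map mk

/-- The subgroup where the value is one. -/
noncomputable def coordE (mk : T' →* A) (f : Pt Γ' k') : Subgroup A :=
  (Subgroup.closure {u : T' | f u = 1}).map mk

open Classical in
/-- The kernel of a coordinate on the upper module. -/
noncomputable def coordN (π' : Γ' →* Module.End k' V') (ι : Γ →* Γ') (mk : T' →* A) (f : Via ι k') :
    Submodule k (k ⊗[ZMod p] Lin.Mod A p) :=
  if IsPoint π' T' f then Lin.ker k (Lin.sub (coordB mk f) (coordE mk f)) else ⊤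

/-- The small coordinates. -/
def coordBad (ι : Γ →* Γ') (T' : Subgroup Γ') (s : Γ) (r : ℕ) (f : Via ι k') : Prop :=
  Points.Bad T' (ι s) r f

/-- The data linking two levels. -/
structure Data (π' : Γ' →* Module.End k' V') (ι : Γ →* Γ') (act : Γ →* MulAut A) (mk : T' →* A)
    (p r : ℕ) (s : Γ) : Prop where
  level : Level π' T' p (ι s) r
  surj : Function.Surjective mk
  ker : ∀ u : T', mk u = 1 ↔ π' u = 1
  equiv : ∀ (γ : Γ) (u u' : T'), (u' : Γ') = ι γ * u * (ι γ)⁻¹ → act γ (mk u) = mk u'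
  pow : s ^ r = 1

variable {act : Γ →* MulAut A} {mk : T' →* A} (D : Data π' ι act mk p r s)
include D

omit [Finite Γ] [IsAlgClosed k'] [FiniteDimensional k' V'] in
theorem mem_coordB {f : Pt Γ' k'} (h : IsPoint π' T' f) (u : T') :
    mk u ∈ coordB mk f ↔ f u ≠ 0 := by
  have hc : Subgroup.closure {u : T' | f u ≠ 0} = (h.supportSubgroup D.level).comap T'.subtype :=
    Subgroup.closure_eq ((h.supportSubgroup D.level).comap T'.subtype)
  rw [coordB, hc]
  refine ⟨?_, fun hu => ⟨u, hu, rfl⟩⟩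
  rintro ⟨u', hu', he⟩
  have h1 : π' ((u'⁻¹ * u : T') : Γ') = 1 := (D.ker _).mp (by rw [map_mul, map_inv, he, inv_mul_cancel])
  rw [show (u : Γ') = u' * ((u'⁻¹ * u : T') : Γ') by simp,
    Coord.apply_mul_ker D.level h (u'⁻¹ * u).2 h1]
  exact hu'

omit [Finite Γ] [IsAlgClosed k'] [FiniteDimensional k' V'] in
theorem mem_coordE {f : Pt Γ' k'} (h : IsPoint π' T' f) (u : T') :
    mk u ∈ coordE mk f ↔ f u = 1 := by
  let S : Subgroup T' :=
    { carrier := {u | f u = 1}
      one_mem' := h.one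
      mul_mem' := fun {a b} ha hb => by
        simp only [Set.mem_setOf_eq, Subgroup.coe_mul] at ha hb ⊢
        rw [h.mul _ _ (by rw [ha]; exact one_ne_zero) (by rw [hb]; exact one_ne_zero), ha, hb,
          mul_one]
      inv_mem' := fun {a} ha => by
        simp only [Set.mem_setOf_eq, Subgroup.coe_inv] at ha ⊢
        have ha0 : f a ≠ 0 := by rw [ha]; exact one_ne_zero
        rw [h.apply_inv ha0 ((h.supportSubgroup D.level).inv_mem ha0), ha, inv_one] }
  rw [coordE, show Subgroup.closure {u : T' | f u = 1} = S from Subgroup.closure_eq S]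
  refine ⟨?_, fun hu => ⟨u, hu, rfl⟩⟩
  rintro ⟨u', hu', he⟩
  have h1 : π' ((u'⁻¹ * u : T') : Γ') = 1 := (D.ker _).mp (by rw [map_mul, map_inv, he, inv_mul_cancel])
  rw [show (u : Γ') = u' * ((u'⁻¹ * u : T') : Γ') by simp,
    Coord.apply_mul_ker D.level h (u'⁻¹ * u).2 h1]
  exact hu'

omit [Finite Γ] [IsAlgClosed k'] [FiniteDimensional k' V'] in
theorem center_iff (u : T') :
    mk u ∈ Subgroup.center A ↔ ∀ y ∈ T', π' ⁅(u : Γ'), y⁆ = 1 := by
  rw [Subgroup.mem_center_iff]
  refine ⟨fun h y hy => ?_, fun h g => ?_⟩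
  · refine (D.ker ⁅u, (⟨y, hy⟩ : T')⁆).mp ?_
    rw [map_commutatorElement, commutatorElement_eq_one_iff_mul_comm]
    exact (h _).symm
  · obtain ⟨y, rfl⟩ := D.surj g
    symm
    rw [← commutatorElement_eq_one_iff_mul_comm, ← map_commutatorElement]
    exact (D.ker _).mpr (h y y.2)

omit [Finite Γ] [IsAlgClosed k'] [FiniteDimensional k' V'] in
/-- The lower group has class two with central `p`-th powers. -/
theorem P0_le : Lin.P0 A p ≤ Subgroup.center A := by
  refine sup_le (sup_le le_rfl ?_) ((Subgroup.closure_le _).mpr ?_)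
  · rw [commutator_def, Subgroup.commutator_le]
    intro a _ b _
    obtain ⟨a, rfl⟩ := D.surj a
    obtain ⟨b, rfl⟩ := D.surj b
    rw [← map_commutatorElement]
    exact (center_iff D _).mpr fun y hy => D.level.nice a a.2 b b.2 y hy
  · rintro _ ⟨a, rfl⟩
    obtain ⟨a, rfl⟩ := D.surj a
    rw [← map_pow, SetLike.mem_coe, center_iff D]
    exact fun y hy => D.level.expo a a.2 y hy

omit [Finite Γ] [IsAlgClosed k'] [FiniteDimensional k' V'] in
theorem coordB_center {f : Pt Γ' k'} (h : IsPoint π' T' f) {a : A}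
    (ha : a ∈ Subgroup.center A) : a ∈ coordB mk f := by
  obtain ⟨u, rfl⟩ := D.surj a
  exact (mem_coordB D h u).mpr (h.ne_zero_of_central D.level u.2 ((center_iff D u).mp ha))

omit [Finite Γ] [IsAlgClosed k'] [FiniteDimensional k' V'] in
theorem pow_map : ι s ^ r = 1 := by rw [← map_pow, D.pow, map_one]

/-- The coordinates form a system. -/
theorem sys {T : Subgroup Γ} {q : ℕ} (hq : q.Prime) (hqp : q ≠ p) (hqr : q ≠ r)
    (hT : IsPGroup q T) :
    Coord.Sys (upper (k := k) act) T s (coordN π' ι mk (p := p)) (coordBad ι T' s r) where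
  inj v hv := by
    haveI := finite_points D.level
    refine Lin.eq_zero_of_ker k (ι := {g // IsPoint π' T' g})
      (fun g => Lin.sub (coordB mk g.1) (coordE mk g.1)) (fun l hl => ?_) fun g => ?_
    · obtain ⟨a, z, rfl⟩ := Lin.exists_eq_add l
      have ha : a ∈ Subgroup.center A := by
        obtain ⟨u, rfl⟩ := D.surj a
        refine (center_iff D u).mpr fun y hy => Coord.eq_one_of_forall D.level fun g hg => ?_
        obtain ⟨⟨b, hb, hbe⟩, -⟩ := Lin.mem_sub_iff.mp (hl ⟨g, hg⟩)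
        have h1 : b⁻¹ * mk u ∈ coordB mk g :=
          coordB_center D hg (P0_le D (QuotientGroup.eq.mp hbe))
        have h2 : mk u ∈ coordB mk g := by simpa using mul_mem hb h1
        exact (hg.rad u u.2).mp ((mem_coordB D hg u).mp h2) y hy
      have hz : (z : A) = 1 := by
        obtain ⟨u, hu⟩ := D.surj (z : A)
        rw [← hu]
        refine (D.ker u).mpr (Coord.eq_one_of_forall D.level fun g hg => ?_)
        rw [← mem_coordE D hg, hu]
        exact (Lin.mem_sub_iff.mp (hl ⟨g, hg⟩)).2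
      have h1 : (a : A ⧸ Lin.P0 A p) = 1 :=
        (QuotientGroup.eq_one_iff a).mpr (Subgroup.mem_sup_left (Subgroup.mem_sup_left ha))
      have h2 : z = 1 := Subtype.ext hz
      simp [Lin.cl, Lin.om, h1, h2]
    · have := hv g.1
      simp only [coordN, if_pos g.2] at this
      exact this
  equiv γ f v hv := by
    simp only [coordN] at hv ⊢
    by_cases hp : IsPoint π' T' (γ • f : Via ι k')
    · rw [if_pos hp]
      have hpf : IsPoint π' T' f := by
        have := D.level.isPoint_smul hp (ι γ)⁻¹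
        rwa [via_smul, inv_smul_smul] at this
      rw [if_pos hpf] at hv
      refine Lin.rep_mem_ker k (act γ)
        (fun l hl => Lin.lin_mem_sub _ (fun a ha => ?_) (fun a ha => ?_) hl) hv
      · obtain ⟨u, rfl⟩ := D.surj a
        rw [D.equiv γ u ⟨ι γ * u * (ι γ)⁻¹, D.level.conj_mem _ u.2⟩ rfl, mem_coordB D hp,
          via_smul, Points.smul_apply]
        rw [mem_coordB D hpf] at ha
        simpa [mul_assoc] using ha
      · obtain ⟨u, rfl⟩ := D.surj a
        rw [D.equiv γ u ⟨ι γ * u * (ι γ)⁻¹, D.level.conj_mem _ u.2⟩ rfl, mem_coordE D hp,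
          via_smul, Points.smul_apply]
        rw [mem_coordE D hpf] at ha
        simpa [mul_assoc] using ha
    · rw [if_neg hp]; exact Submodule.mem_top
  bad_fixed f hf := hf.1
  bad_smul γ f hγ hf := Coord.bad_smul D.level (γ := ι γ) (by rw [← map_mul, hγ, map_mul]) hf
  bad_triv H hHT hsH f hf hfix h hh v := by
    simp only [coordN]
    by_cases hp : IsPoint π' T' f
    swap
    · rw [if_neg hp]; exact Submodule.mem_top
    rw [if_pos hp]
    haveI := Fact.mk hq
    have key : ∀ u : T', f ((u : Γ')⁻¹ * (ι ⁅h, s⁆ * u * (ι ⁅h, s⁆)⁻¹)) ≠ 0 := fun u => by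
      rw [map_commutatorElement]
      refine hp.centralize_bad D.level hf hq hqp hqr (H := H.map ι) ((hT.to_le hHT).map ι)
        ?_ ?_ ⟨h, hh, rfl⟩ u.2
      · rintro _ ⟨γ, hγ, rfl⟩
        exact ⟨s * γ * s⁻¹, hsH γ hγ, by simp⟩
      · rintro _ ⟨γ, hγ, rfl⟩
        exact hfix γ hγ
    have hfixn : ι ⁅h, s⁆ • (show Pt Γ' k' from f) = f := by
      have hsf : s • f = f := hf.1
      have hsinv : s⁻¹ • f = f := by conv_lhs => rw [← hsf, inv_smul_smul]
      have e : ⁅h, s⁆ • f = f := by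
        simp only [commutatorElement_def, mul_smul, hsinv, hfix h hh, hfix h⁻¹ (inv_mem hh), hsf]
      exact e
    refine Lin.rep_sub_mem_ker k (act ⁅h, s⁆) (fun l => Lin.lin_sub_mem _ (fun a => ?_) (fun z => ?_) l) v
    · obtain ⟨u, rfl⟩ := D.surj a
      rw [D.equiv _ u ⟨ι ⁅h, s⁆ * u * (ι ⁅h, s⁆)⁻¹, D.level.conj_mem _ u.2⟩ rfl, ← map_inv mk,
        ← map_mul mk, mem_coordB D hp]
      have h1 := key u
      rw [← hp.apply_conj_rad D.level u.2] at h1
      simpa [mul_assoc] using h1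
    · obtain ⟨u, hu⟩ := D.surj (z : A)
      rw [← hu, D.equiv _ u ⟨ι ⁅h, s⁆ * u * (ι ⁅h, s⁆)⁻¹, D.level.conj_mem _ u.2⟩ rfl, ← map_inv mk,
        ← map_mul mk, mem_coordE D hp]
      have hu0 : f (u : Γ') ≠ 0 :=
        hp.ne_zero_of_central D.level u.2 ((center_iff D u).mp (hu ▸ z.2.1))
      have hu1 : f (u : Γ')⁻¹ ≠ 0 := (hp.supportSubgroup D.level).inv_mem hu0
      have e := apply_conj_of_fixed hfixn (u : Γ')
      simp only [Subgroup.coe_mul, Subgroup.coe_inv]
      rw [hp.mul _ _ (by rw [e]; exact hu0) hu1, e, ← hp.mul _ _ hu0 hu1, mul_inv_cancel, hp.one]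

omit [Finite Γ] [IsAlgClosed k'] [FiniteDimensional k' V'] in
/-- A fixed element trivial at the large points gives vectors of `K0`. -/
theorem gen_mem_K0 {u : T'} (hu : ι s * u = u * ι s)
    (hkill : ∀ f, IsPoint π' T' f → ¬ Points.Bad T' (ι s) r f → f u = 1) :
    (1 : k) ⊗ₜ Lin.cl (mk u) ∈ Coord.K0 (upper (p := p) act) s (coordN π' ι mk) (coordBad ι T' s r) ∧
      ∀ hz : mk u ∈ Lin.Om A p, (1 : k) ⊗ₜ Lin.om ⟨mk u, hz⟩ ∈
        Coord.K0 (upper (p := p) act) s (coordN π' ι mk) (coordBad ι T' s r) := by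
  have hsu : act s (mk u) = mk u := D.equiv s u u (by rw [hu, mul_inv_cancel_right])
  refine ⟨⟨by rw [upper_cl, hsu], fun f hf => ?_⟩, fun hz => ⟨?_, fun f hf => ?_⟩⟩
  · simp only [coordN]
    split_ifs with hp
    · refine Lin.tmul_mem_ker k (Lin.cl_mem_sub ?_) 1
      rw [mem_coordB D hp, hkill f hp hf]; exact one_ne_zero
    · exact Submodule.mem_top
  · rw [upper_om]
    exact congrArg (fun z => (1 : k) ⊗ₜ Lin.om z) (Subtype.ext hsu)
  · simp only [coordN]
    split_ifs with hp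
    · refine Lin.tmul_mem_ker k (Lin.om_mem_sub ?_) 1
      rw [mem_coordE D hp]; exact hkill f hp hf
    · exact Submodule.mem_top

variable (hrp : r.Coprime p) (hr0 : (r : k) ≠ 0)
include hrp hr0

/-- All fixed elements killed: all fixed vectors in `K0`. -/
theorem fixed_mem_K0
    (hkill : ∀ u : T', ι s * u = u * ι s →
      ∀ f, IsPoint π' T' f → ¬ Points.Bad T' (ι s) r f → f u = 1)
    {v : k ⊗[ZMod p] Lin.Mod A p} (hv : upper act s v = v) :
    v ∈ Coord.K0 (upper (p := p) act) s (coordN π' ι mk) (coordBad ι T' s r) :=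
  fixed_mem D.surj D.equiv (fun γ _ hu => D.level.conj_mem _ hu) D.level.pgroup D.pow hrp hr0
    (fun u hu => gen_mem_K0 D hu (hkill u hu)) hv

/-- Fixed elements whose commutators with the fixed group are killed move fixed vectors into `K0`. -/
theorem move_mem_K0 {x : Γ} (hxs : s * x = x * s)
    (hkill : ∀ u : T', ι s * u = u * ι s →
      ∀ f, IsPoint π' T' f → ¬ Points.Bad T' (ι s) r f → f ⁅ι x, (u : Γ')⁆ = 1)
    {v : k ⊗[ZMod p] Lin.Mod A p} (hv : upper act s v = v) :
    upper act x v - v ∈ Coord.K0 (upper (p := p) act) s (coordN π' ι mk) (coordBad ι T' s r) := by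
  let M := (Coord.K0 (upper (k := k) (p := p) act) s (coordN π' ι mk) (coordBad ι T' s r)).comap
    (upper (k := k) (p := p) act x - 1)
  suffices v ∈ M by simpa [M] using this
  refine fixed_mem D.surj D.equiv (fun γ _ hu => D.level.conj_mem _ hu) D.level.pgroup D.pow hrp hr0
    (fun u hu => ?_) hv
  set u' : T' := ⟨ι x * u * (ι x)⁻¹, D.level.conj_mem _ u.2⟩ with hu'
  have hxι : ι s * ι x = ι x * ι s := by rw [← map_mul, hxs, map_mul]
  have hw : ι s * ((u' * u⁻¹ : T') : Γ') = ((u' * u⁻¹ : T') : Γ') * ι s := by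
    show ι s * (ι x * u * (ι x)⁻¹ * (u : Γ')⁻¹) = _
    exact ((((show Commute (ι s) (ι x) from hxι).mul_right hu).mul_right
      (show Commute (ι s) (ι x) from hxι).inv_right).mul_right (show Commute (ι s) (u : Γ') from hu).inv_right).eq
  have hgen := gen_mem_K0 (k := k) D hw fun f hp hf => by
    have h1 := hkill u hu f hp hf
    rw [commutatorElement_def] at h1
    exact h1
  have hact : act x (mk u) * (mk u)⁻¹ = mk (u' * u⁻¹) := by
    rw [D.equiv x u u' rfl, map_mul, map_inv]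
  refine ⟨?_, fun hz => ?_⟩
  · refine Submodule.mem_comap.mpr ?_
    rw [LinearMap.sub_apply, Module.End.one_apply]
    rw [upper_cl, ← TensorProduct.tmul_sub, Lin.cl_sub_cl, hact]
    exact hgen.1
  · have hz' : mk (u' * u⁻¹) ∈ Lin.Om A p := by
      rw [← hact]; exact mul_mem (Lin.omMap (act x) ⟨mk u, hz⟩).2 (inv_mem hz)
    refine Submodule.mem_comap.mpr ?_
    rw [LinearMap.sub_apply, Module.End.one_apply]
    rw [upper_om, ← TensorProduct.tmul_sub, Lin.om_sub_om,
      show Lin.omMap (act x) ⟨mk u, hz⟩ * ⟨mk u, hz⟩⁻¹ = ⟨mk (u' * u⁻¹), hz'⟩ from Subtype.ext hact]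
    exact hgen.2 hz'

end Sys

section AllBad

variable [Finite Γ] {k : Type*} [Field k] [IsAlgClosed k] {V : Type*} [AddCommGroup V] [Module k V]
  [FiniteDimensional k V] {π : Γ →* Module.End k V} {T : Subgroup Γ} {q r : ℕ} {s : Γ}
  {Ω : Type*} [MulAction Γ Ω] {N : Ω → Submodule k V} {B : Ω → Prop}

/-- If all coordinates are small, `⁅T, s⁆` acts trivially. -/
theorem trivial_of_all_bad (L : Level π T q s r) (S : Coord.Sys π T s N B)
    (hall : ∀ f, N f ≠ ⊤ → B f) {a : Γ} (ha : a ∈ T) : π ⁅a, s⁆ = 1 := by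
  set H := ⁅T, Subgroup.zpowers s⁆ with hH
  have hmem : ⁅a, s⁆ ∈ H := Subgroup.commutator_mem_commutator ha (Subgroup.mem_zpowers s)
  have hTs : ∀ t ∈ T, s * t * s⁻¹ ∈ T := fun t ht => L.conj_mem s ht
  refine LinearMap.ext fun v => sub_eq_zero.mp (S.inj _ fun f => ?_)
  rw [Module.End.one_apply]
  by_cases hf : N f = ⊤
  · rw [hf]; exact Submodule.mem_top
  have htop : ∀ γ : Γ, N (γ • f) ≠ ⊤ := fun γ e => hf (eq_top_iff.mpr fun w _ => by
    have h1 := S.equiv γ⁻¹ (γ • f) (π γ w) (e ▸ Submodule.mem_top)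
    rwa [inv_smul_smul, pi_inv_apply_apply] at h1)
  have hfix : ∀ y ∈ H, y • f = f := by
    suffices H ≤ MulAction.stabilizer Γ f from fun y hy => this hy
    refine Subgroup.commutator_le.mpr fun u _ δ hδ => ?_
    have hst : ∀ γ : Γ, δ • γ • f = γ • f := fun γ =>
      (Subgroup.zpowers_le.mpr
        (MulAction.mem_stabilizer_iff.mpr (S.bad_fixed _ (hall _ (htop γ)))) hδ :)
    have h1 : δ⁻¹ • f = f := by
      have := hst 1
      rw [one_smul] at this
      conv_lhs => rw [← this, inv_smul_smul]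
    show (u * δ * u⁻¹ * δ⁻¹) • f = f
    rw [mul_smul, mul_smul, mul_smul, h1, hst, smul_inv_smul]
  exact (Coord.triv_of_fix L S (Coord.comm_le_T L le_rfl) Coord.comm_conj_mem (hall f hf) hfix
    (by rwa [Coord.comm_self L le_rfl hTs])).2 v

end AllBad

end Cfsg.Agent.Lib.PrimeFitting.Link
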