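/-
Chains of subgroups each normalising the later ones: kernels and a lower bound for the length of a
series with nilpotent factors.
-/
import Cfsg.Agent.Lib.Coprime.Commutator
import Cfsg.Agent.Lib.Transfer.Frobenius
import Mathlib.GroupTheory.Nilpotent
import Mathlib.Data.List.Basic
import Mathlib.Data.List.Chain

set_option autoImplicit false
set_option linter.style.haveILetI false

open scoped commutatorElement

namespace Cfsg.Agent.Lib.PrimeFitting.Tower

variable {X : Type*} [Group X]

/-- The elements centralising `T` modulo `K`. -/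
def centMod (T K : Subgroup X) : Subgroup X where
  carrier := {g | g ∈ Subgroup.normalizer (T : Set X) ∧ g ∈ Subgroup.normalizer (K : Set X) ∧
    ∀ y ∈ T, ⁅g, y⁆ ∈ K}
  one_mem' := ⟨one_mem _, one_mem _, fun y _ => by
    rw [commutatorElement_one_left]; exact one_mem _⟩
  mul_mem' := fun {a b} ha hb => ⟨mul_mem ha.1 hb.1, mul_mem ha.2.1 hb.2.1, fun y hy => by
    rw [show ⁅a * b, y⁆ = a * ⁅b, y⁆ * a⁻¹ * ⁅a, y⁆ by
      simp only [commutatorElement_def]; group]
    exact mul_mem ((Subgroup.mem_normalizer_iff.mp ha.2.1 _).mp (hb.2.2 y hy)) (ha.2.2 y hy)⟩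
  inv_mem' := fun {a} ha => ⟨inv_mem ha.1, inv_mem ha.2.1, fun y hy => by
    have hy' : a⁻¹ * y * a ∈ T := (Subgroup.mem_normalizer_iff''.mp ha.1 y).mp hy
    rw [show ⁅a⁻¹, y⁆ = a⁻¹ * ⁅a, y⁆⁻¹ * a by simp only [commutatorElement_def]; group]
    exact (Subgroup.mem_normalizer_iff''.mp ha.2.1 _).mp (inv_mem (ha.2.2 y hy))⟩

theorem mem_centMod {T K : Subgroup X} {g : X} :
    g ∈ centMod T K ↔ g ∈ Subgroup.normalizer (T : Set X) ∧ g ∈ Subgroup.normalizer (K : Set X) ∧
      ∀ y ∈ T, ⁅g, y⁆ ∈ K := Iff.rfl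

/-- The kernels of a chain. -/
def kern : List (Subgroup X) → Subgroup X
  | [] => ⊥
  | [_] => ⊥
  | S :: T :: l => S ⊓ centMod T (kern (T :: l))

theorem kern_nil : kern ([] : List (Subgroup X)) = ⊥ := rfl

theorem kern_singleton (S : Subgroup X) : kern [S] = ⊥ := rfl

theorem kern_cons (S T : Subgroup X) (l : List (Subgroup X)) :
    kern (S :: T :: l) = S ⊓ centMod T (kern (T :: l)) := rfl

theorem kern_le_head (S : Subgroup X) (l : List (Subgroup X)) : kern (S :: l) ≤ S := by
  cases l with
  | nil => exact bot_le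
  | cons T l => exact inf_le_left

theorem conj_mem {H : Subgroup X} {g x : X} (hg : g ∈ Subgroup.normalizer (H : Set X))
    (hx : x ∈ H) : g * x * g⁻¹ ∈ H :=
  (Subgroup.mem_normalizer_iff.mp hg x).mp hx

theorem centMod_conj {T K : Subgroup X} {g x : X} (hT : g ∈ Subgroup.normalizer (T : Set X))
    (hK : g ∈ Subgroup.normalizer (K : Set X)) (hx : x ∈ centMod T K) :
    g * x * g⁻¹ ∈ centMod T K := by
  refine ⟨mul_mem (mul_mem hT hx.1) (inv_mem hT), mul_mem (mul_mem hK hx.2.1) (inv_mem hK),
    fun y hy => ?_⟩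
  rw [show ⁅g * x * g⁻¹, y⁆ = g * ⁅x, g⁻¹ * y * g⁆ * g⁻¹ by
    simp only [commutatorElement_def]; group]
  exact conj_mem hK (hx.2.2 _ ((Subgroup.mem_normalizer_iff''.mp hT y).mp hy))

theorem mem_normalizer_of_conj_iff {H : Subgroup X} {g : X}
    (h1 : ∀ x ∈ H, g * x * g⁻¹ ∈ H) (h2 : ∀ x ∈ H, g⁻¹ * x * g ∈ H) :
    g ∈ Subgroup.normalizer (H : Set X) := by
  refine Subgroup.mem_normalizer_iff.mpr fun x => ⟨h1 x, fun hx => ?_⟩
  have := h2 _ hx
  simpa [mul_assoc] using this

theorem bot_normalize (g : X) : g ∈ Subgroup.normalizer ((⊥ : Subgroup X) : Set X) :=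
  mem_normalizer_of_conj_iff (fun x hx => by rw [Subgroup.mem_bot] at hx ⊢; rw [hx]; group)
    (fun x hx => by rw [Subgroup.mem_bot] at hx ⊢; rw [hx]; group)

/-- Elements normalising all members normalise the kernel. -/
theorem kern_normalize : ∀ (l : List (Subgroup X)) (g : X),
    (∀ S ∈ l, g ∈ Subgroup.normalizer (S : Set X)) → g ∈ Subgroup.normalizer (kern l : Set X) := by
  intro l
  induction l with
  | nil => intro g _; rw [kern_nil]; exact bot_normalize g
  | cons S l ih =>
    intro g hg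
    cases l with
    | nil => rw [kern_singleton]; exact bot_normalize g
    | cons T l =>
      have hS : g ∈ Subgroup.normalizer (S : Set X) := hg S List.mem_cons_self
      have hT : g ∈ Subgroup.normalizer (T : Set X) :=
        hg T (List.mem_cons_of_mem _ List.mem_cons_self)
      have hK := ih g fun U hU => hg U (List.mem_cons_of_mem _ hU)
      rw [kern_cons]
      refine mem_normalizer_of_conj_iff (fun x hx => ⟨conj_mem hS hx.1, centMod_conj hT hK hx.2⟩)
        fun x hx => ⟨?_, ?_⟩
      · have := conj_mem (inv_mem hS) hx.1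
        rwa [inv_inv] at this
      · have := centMod_conj (inv_mem hT) (inv_mem hK) hx.2
        rwa [inv_inv] at this

theorem normalizer_of_le {H : Subgroup X} {g : X} (hg : g ∈ H) :
    g ∈ Subgroup.normalizer (H : Set X) :=
  Subgroup.le_normalizer hg

/-- A chain: each member normalises the later ones, neighbours have coprime orders. -/
structure IsTower (l : List (Subgroup X)) : Prop where
  norm : l.Pairwise fun (S T : Subgroup X) => S ≤ Subgroup.normalizer (T : Set X)
  coprime : List.IsChain (fun S T : Subgroup X => (Nat.card S).Coprime (Nat.card T)) l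

theorem IsTower.tail {S : Subgroup X} {l : List (Subgroup X)} (h : IsTower (S :: l)) : IsTower l :=
  ⟨(List.pairwise_cons.mp h.norm).2, h.coprime.tail⟩

theorem IsTower.head_normalizes {S : Subgroup X} {l : List (Subgroup X)} (h : IsTower (S :: l))
    {g : X} (hg : g ∈ S) : ∀ U ∈ S :: l, g ∈ Subgroup.normalizer (U : Set X) := by
  intro U hU
  rcases List.mem_cons.mp hU with rfl | hU
  · exact normalizer_of_le hg
  · exact (List.pairwise_cons.mp h.norm).1 U hU hg

theorem IsTower.mem_normalizer_head {S T : Subgroup X} {l : List (Subgroup X)}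
    (h : IsTower (S :: T :: l)) {g : X} (hg : g ∈ S) : g ∈ Subgroup.normalizer (T : Set X) :=
  h.head_normalizes hg T (List.mem_cons_of_mem _ List.mem_cons_self)

theorem IsTower.mem_normalizer_kern {S : Subgroup X} {l : List (Subgroup X)} (h : IsTower (S :: l))
    {g : X} (hg : g ∈ S) : g ∈ Subgroup.normalizer (kern l : Set X) :=
  kern_normalize l g fun U hU => h.head_normalizes hg U (List.mem_cons_of_mem _ hU)

theorem IsTower.mem_kern {S T : Subgroup X} {l : List (Subgroup X)} (h : IsTower (S :: T :: l))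
    {g : X} (hg : g ∈ S) (hc : ∀ y ∈ T, ⁅g, y⁆ ∈ kern (T :: l)) : g ∈ kern (S :: T :: l) :=
  ⟨hg, h.mem_normalizer_head hg, h.mem_normalizer_kern hg, hc⟩

/-- If the commutator of an element of coprime order is fixed modulo `K`, it lies in `K`. -/
theorem engel [Finite X] {x : X} {T K : Subgroup X} (hxT : x ∈ Subgroup.normalizer (T : Set X))
    (hxK : x ∈ Subgroup.normalizer (K : Set X)) (hTK : T ≤ Subgroup.normalizer (K : Set X))
    (hcop : (orderOf x).Coprime (Nat.card T)) (h : ∀ y ∈ T, ⁅x, ⁅x, y⁆⁆ ∈ K) {y : X} (hy : y ∈ T) :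
    ⁅x, y⁆ ∈ K := by
  set z := ⁅x, y⁆ with hz
  have hzT : z ∈ T := by
    rw [hz, commutatorElement_def]
    exact mul_mem (conj_mem hxT hy) (inv_mem hy)
  have hzn : ∀ n : ℕ, x * z ^ n * x⁻¹ * (z ^ n)⁻¹ ∈ K := by
    intro n
    induction n with
    | zero => simp
    | succ n ih =>
      have h1 := h y hy
      rw [← hz, commutatorElement_def] at h1
      rw [show x * z ^ (n + 1) * x⁻¹ * (z ^ (n + 1))⁻¹ =
        (x * z * x⁻¹ * z⁻¹) * (z * (x * z ^ n * x⁻¹ * (z ^ n)⁻¹) * z⁻¹) by rw [pow_succ']; group]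
      exact mul_mem h1 (conj_mem (hTK hzT) ih)
  have key : ∀ n : ℕ, x ^ n * y * (x ^ n)⁻¹ * y⁻¹ * (z ^ n)⁻¹ ∈ K := by
    intro n
    induction n with
    | zero => simp
    | succ n ih =>
      have h1 := conj_mem hxK ih
      rw [show x ^ (n + 1) * y * (x ^ (n + 1))⁻¹ * y⁻¹ * (z ^ (n + 1))⁻¹ =
        (x * (x ^ n * y * (x ^ n)⁻¹ * y⁻¹ * (z ^ n)⁻¹) * x⁻¹) *
          (x * z ^ n * x⁻¹ * (z ^ n)⁻¹) * (z ^ n * (x * y * x⁻¹ * y⁻¹ * z⁻¹) * (z ^ n)⁻¹) by
        rw [pow_succ', pow_succ]; group]
      refine mul_mem (mul_mem h1 (hzn n)) ?_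
      rw [← commutatorElement_def, ← hz, mul_inv_cancel, mul_one, mul_inv_cancel]
      exact one_mem _
  have h1 : z ^ orderOf x ∈ K := by
    have h1 := key (orderOf x)
    rw [pow_orderOf_eq_one] at h1
    simpa using h1
  obtain ⟨m, hm⟩ := exists_pow_eq_self_of_coprime (x := z) (n := orderOf x)
    (hcop.coprime_dvd_right (Subgroup.orderOf_dvd_natCard T hzT))
  rw [← hm]
  exact pow_mem h1 m

/-- A series with nilpotent factors, seen through elements of coprime orders. -/
structure Series (H : Subgroup X) (F : ℕ → Subgroup X) (n : ℕ) : Prop where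
  bot : F 0 = ⊥
  top : F n = H
  norm : ∀ i < n, H ≤ Subgroup.normalizer (F i : Set X)
  comm : ∀ i < n, ∀ x ∈ F (i + 1), ∀ y ∈ F (i + 1), (orderOf x).Coprime (orderOf y) →
    ⁅x, y⁆ ∈ F i
  mono : ∀ i < n, F i ≤ F (i + 1)

variable [Finite X]

theorem IsTower.orderOf_coprime {S T : Subgroup X} {l : List (Subgroup X)}
    (h : IsTower (S :: T :: l)) {x : X} (hx : x ∈ S) :
    (orderOf x).Coprime (Nat.card T) :=
  (List.isChain_cons_cons.mp h.coprime).1.coprime_dvd_left (Subgroup.orderOf_dvd_natCard S hx)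

theorem IsTower.map_inf {H F : Subgroup X} (hHF : H ≤ Subgroup.normalizer (F : Set X))
    {l : List (Subgroup X)} (hl : IsTower l) (hH : ∀ S ∈ l, S ≤ H) :
    IsTower (l.map fun S => S ⊓ F) := by
  refine ⟨List.pairwise_map.mpr ?_, (List.isChain_map _).mpr ?_⟩
  · refine hl.norm.imp_of_mem fun {S T} hS hT h g hg => ?_
    have h1 := h hg.1
    have h2 := hHF (hH S hS hg.1)
    exact mem_normalizer_of_conj_iff
      (fun x hx => ⟨conj_mem h1 hx.1, conj_mem h2 hx.2⟩)
      fun x hx => ⟨(Subgroup.mem_normalizer_iff''.mp h1 x).mp hx.1,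
        (Subgroup.mem_normalizer_iff''.mp h2 x).mp hx.2⟩
  · refine List.IsChain.imp (fun S T h => ?_) hl.coprime
    exact (h.coprime_dvd_left (Subgroup.card_dvd_of_le inf_le_left)).coprime_dvd_right
      (Subgroup.card_dvd_of_le inf_le_left)

/-- Kernels do not grow on intersecting with a normal subgroup. -/
theorem kern_map_inf {H F : Subgroup X} (hHF : H ≤ Subgroup.normalizer (F : Set X)) :
    ∀ l : List (Subgroup X), IsTower l → (∀ S ∈ l, S ≤ H) →
      kern (l.map fun S => S ⊓ F) ≤ kern l := by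
  intro l
  induction l with
  | nil => intro _ _; exact le_rfl
  | cons S l ih =>
    intro hl hH
    cases l with
    | nil => exact le_rfl
    | cons T l =>
      intro x hx
      have ih' := ih hl.tail fun U hU => hH U (List.mem_cons_of_mem _ hU)
      rw [List.map_cons, List.map_cons, kern_cons, ← List.map_cons (f := fun S => S ⊓ F)] at hx
      obtain ⟨⟨hxS, hxF⟩, -, -, hc⟩ := hx
      refine hl.mem_kern hxS fun y hy => ?_
      have hxT := hl.mem_normalizer_head hxS
      refine engel hxT (hl.mem_normalizer_kern hxS)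
        (fun g hg => kern_normalize _ g (hl.tail.head_normalizes hg)) (hl.orderOf_coprime hxS)
        (fun w hw => ih' (hc _ ⟨?_, ?_⟩)) hy
      · show ⁅x, w⁆ ∈ T
        rw [commutatorElement_def]
        exact mul_mem (conj_mem hxT hw) (inv_mem hw)
      · show ⁅x, w⁆ ∈ F
        have h2 : w ∈ Subgroup.normalizer (F : Set X) :=
          hHF (hH T (List.mem_cons_of_mem _ List.mem_cons_self) hw)
        rw [commutatorElement_def, mul_assoc, mul_assoc]
        refine mul_mem hxF ?_
        rw [← mul_assoc]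
        exact conj_mem h2 (inv_mem hxF)

/-- A chain longer than a series with nilpotent factors is dead at the top. -/
theorem not_alive : ∀ (n : ℕ) (H : Subgroup X) (F : ℕ → Subgroup X), Series H F n →
    ∀ (S : Subgroup X) (l : List (Subgroup X)), IsTower (S :: l) → (∀ U ∈ S :: l, U ≤ H) →
      n ≤ l.length → S ≤ kern (S :: l) := by
  intro n
  induction n with
  | zero =>
    intro H F hF S l _ hH _
    have h1 := hH S List.mem_cons_self
    rw [← hF.top, hF.bot] at h1
    exact h1.trans bot_le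
  | succ n ih =>
    intro H F hF S l hl hH hn
    cases l with
    | nil => simp at hn
    | cons T l =>
      have hFn : H ≤ Subgroup.normalizer (F n : Set X) := hF.norm n (Nat.lt_succ_self n)
      have hmap : ∀ U ∈ (T :: l).map (fun U => U ⊓ F n), U ≤ F n := by
        intro U hU
        obtain ⟨V, -, rfl⟩ := List.mem_map.mp hU
        exact inf_le_right
      have hH' : ∀ U ∈ T :: l, U ≤ H := fun U hU => hH U (List.mem_cons_of_mem _ hU)
      have hF' : Series (F n) F n :=
        ⟨hF.bot, rfl, fun i hi => by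
          refine le_trans ?_ (hF.norm i (hi.trans (Nat.lt_succ_self n)))
          conv_rhs => rw [← hF.top]
          exact hF.mono n (Nat.lt_succ_self n),
          fun i hi => hF.comm i (hi.trans (Nat.lt_succ_self n)),
          fun i hi => hF.mono i (hi.trans (Nat.lt_succ_self n))⟩
      have htl := IsTower.map_inf hFn hl.tail hH'
      rw [List.map_cons] at htl hmap
      have hdead := ih (F n) F hF' (T ⊓ F n) (l.map fun U => U ⊓ F n) htl hmap
        (by simpa using Nat.le_of_succ_le_succ hn)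
      intro x hx
      refine hl.mem_kern hx fun y hy => ?_
      refine kern_map_inf hFn (T :: l) hl.tail hH' ?_
      rw [List.map_cons]
      refine hdead ⟨?_, ?_⟩
      · show ⁅x, y⁆ ∈ T
        rw [commutatorElement_def]
        exact mul_mem (conj_mem (hl.mem_normalizer_head hx) hy) (inv_mem hy)
      · refine hF.comm n (Nat.lt_succ_self n) x ?_ y ?_
          ((hl.orderOf_coprime hx).coprime_dvd_right (Subgroup.orderOf_dvd_natCard T hy))
        · rw [hF.top]; exact hH S List.mem_cons_self hx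
        · rw [hF.top]; exact hH' T List.mem_cons_self hy

omit [Finite X] in
/-- Commutators of elements of coprime orders lie below a nilpotent factor. -/
theorem comm_of_lcs {A B : Subgroup X} (hAB : A ≤ Subgroup.normalizer (B : Set X)) {k : ℕ}
    (hk : A.lowerCentralSeries k ≤ B) {x y : X} (hx : x ∈ A) (hy : y ∈ A)
    (hxy : (orderOf x).Coprime (orderOf y)) : ⁅x, y⁆ ∈ B := by
  haveI : (B.subgroupOf A).Normal := Subgroup.normal_subgroupOf_of_le_normalizer hAB
  set φ := QuotientGroup.mk' (B.subgroupOf A)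
  have hlcs : (⊤ : Subgroup (A ⧸ B.subgroupOf A)).lowerCentralSeries k = ⊥ := by
    rw [← Subgroup.map_top_of_surjective φ (QuotientGroup.mk'_surjective _),
      ← Subgroup.map_lowerCentralSeries, Subgroup.map_eq_bot_iff, QuotientGroup.ker_mk']
    intro a ha
    rw [Subgroup.mem_subgroupOf]
    refine hk ?_
    have h1 : (a : X) ∈ ((⊤ : Subgroup A).lowerCentralSeries k).map A.subtype := ⟨a, ha, rfl⟩
    rwa [Subgroup.map_lowerCentralSeries, ← MonoidHom.range_eq_map, Subgroup.range_subtype] at h1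
  haveI : Group.IsNilpotent (A ⧸ B.subgroupOf A) :=
    Subgroup.nilpotent_iff_lowerCentralSeries.mpr ⟨k, hlcs⟩
  have hc := Transfer.Frobenius.commute_of_coprime_of_isNilpotent (a := φ ⟨x, hx⟩) (b := φ ⟨y, hy⟩)
    (Nat.Coprime.coprime_dvd_left (orderOf_map_dvd φ _)
      (Nat.Coprime.coprime_dvd_right (orderOf_map_dvd φ _)
        (by rwa [Subgroup.orderOf_mk, Subgroup.orderOf_mk])))
  have : φ ⁅(⟨x, hx⟩ : A), (⟨y, hy⟩ : A)⁆ = 1 := by
    rw [map_commutatorElement, commutatorElement_eq_one_iff_mul_comm]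
    exact hc
  exact Subgroup.mem_subgroupOf.mp ((QuotientGroup.eq_one_iff _).mp this)

end Cfsg.Agent.Lib.PrimeFitting.Tower
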