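/-
Refinement of a chain by critical subgroups: the kernels do not change.
-/
import Cfsg.Agent.Lib.PrimeFitting.Tower
import Cfsg.Agent.Lib.Transfer.Critical

set_option autoImplicit false
set_option linter.style.haveILetI false

open scoped commutatorElement

namespace Cfsg.Agent.Lib.PrimeFitting.Tower

variable {X : Type*} [Group X]

/-- Class two with central `q`-th powers, modulo `K`. -/
structure Nice (S K : Subgroup X) : Prop where
  nice : ∀ a ∈ S, ∀ b ∈ S, ∀ c ∈ S, ⁅⁅a, b⁆, c⁆ ∈ K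
  expo : ∀ q : ℕ, q.Prime → IsPGroup q S → ∀ a ∈ S, ∀ b ∈ S, ⁅a ^ q, b⁆ ∈ K

/-- All members are nice modulo their kernels. -/
def Good : List (Subgroup X) → Prop
  | [] => True
  | S :: l => Nice S (kern (S :: l)) ∧ Good l

/-- `s` is trivial on the first `j` factors. -/
def Pref (s : X) : ℕ → List (Subgroup X) → Prop
  | 0, _ => True
  | _ + 1, [] => False
  | j + 1, S :: l => (∀ a ∈ S, ⁅a, s⁆ ∈ kern (S :: l)) ∧ Pref s j l

variable [Finite X]

/-- A critical subgroup modulo `K`. -/
theorem exists_crit {S K : Subgroup X} {q : ℕ} (hq : q.Prime) (hS : IsPGroup q S) (hKS : K ≤ S)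
    (hSK : S ≤ Subgroup.normalizer (K : Set X)) :
    ∃ S' : Subgroup X, K ≤ S' ∧ S' ≤ S ∧
      (∀ g, g ∈ Subgroup.normalizer (S : Set X) → g ∈ Subgroup.normalizer (K : Set X) →
        g ∈ Subgroup.normalizer (S' : Set X)) ∧
      Nice S' K ∧ ∀ y ∈ S, (∀ h ∈ S', ⁅y, h⁆ ∈ K) → y ∈ S' := by
  haveI := Fact.mk hq
  haveI : (K.subgroupOf S).Normal := Subgroup.normal_subgroupOf_of_le_normalizer hSK
  set φ := QuotientGroup.mk' (K.subgroupOf S) with hφ
  obtain ⟨H, hchar, hC, hpow, hcomm⟩ :=
    Transfer.Critical.exists_critical (hS.to_quotient (K.subgroupOf S))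
  have hker : ∀ a : S, φ a = 1 ↔ (a : X) ∈ K := fun a =>
    (QuotientGroup.eq_one_iff a).trans Subgroup.mem_subgroupOf
  set S' := (H.comap φ).map S.subtype with hS'
  have hmem : ∀ a : S, (a : X) ∈ S' ↔ φ a ∈ H := fun a =>
    (Subgroup.mem_map_iff_mem S.subtype_injective).trans Subgroup.mem_comap
  have hS'S : S' ≤ S := Subgroup.map_subtype_le _
  refine ⟨S', fun x hx => ?_, hS'S, fun g hgS hgK => ?_, ⟨?_, ?_⟩, fun y hy hyh => ?_⟩
  · refine (hmem ⟨x, hKS hx⟩).mpr ?_
    rw [(hker ⟨x, hKS hx⟩).mpr hx]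
    exact one_mem _
  · have hone : ∀ g, g ∈ Subgroup.normalizer (S : Set X) → g ∈ Subgroup.normalizer (K : Set X) →
        ∀ x ∈ S', g * x * g⁻¹ ∈ S' := by
      intro g hgS hgK x hx
      let e : MulAut S := S.normalizerMonoidHom ⟨g, hgS⟩
      have he : ∀ a : S, ((e a : S) : X) = g * a * g⁻¹ := fun a => rfl
      have hmap : (K.subgroupOf S).map e.toMonoidHom = K.subgroupOf S := by
        ext a
        constructor
        · rintro ⟨b, hb, rfl⟩
          rw [SetLike.mem_coe, Subgroup.mem_subgroupOf] at hb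
          rw [Subgroup.mem_subgroupOf]
          show ((e b : S) : X) ∈ K
          rw [he]; exact conj_mem hgK hb
        · intro ha
          refine ⟨e.symm a, ?_, e.apply_symm_apply a⟩
          rw [Subgroup.mem_subgroupOf] at ha
          rw [SetLike.mem_coe, Subgroup.mem_subgroupOf]
          refine (Subgroup.mem_normalizer_iff.mp hgK _).mpr ?_
          rw [← he, MulEquiv.apply_symm_apply]; exact ha
      let ē := QuotientGroup.congr (K.subgroupOf S) (K.subgroupOf S) e hmap
      have hx' := (hmem ⟨x, hS'S hx⟩).mp hx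
      have h1 : ē (φ ⟨x, hS'S hx⟩) ∈ H :=
        Subgroup.characteristic_iff_le_comap.mp hchar ē hx'
      have h2 : ē (φ ⟨x, hS'S hx⟩) = φ (e ⟨x, hS'S hx⟩) := rfl
      rw [h2, ← hmem, he] at h1
      exact h1
    exact mem_normalizer_of_conj_iff (hone g hgS hgK) fun x hx => by
      have := hone g⁻¹ (inv_mem hgS) (inv_mem hgK) x hx
      rwa [inv_inv] at this
  · intro a ha b hb c hc
    have h1 := (hcomm _ ((hmem ⟨a, hS'S ha⟩).mp ha) (φ ⟨b, hS'S hb⟩)).2
    have h2 := Subgroup.mem_centralizer_iff.mp h1 _ ((hmem ⟨c, hS'S hc⟩).mp hc)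
    rw [← map_commutatorElement, eq_comm, ← commutatorElement_eq_one_iff_mul_comm,
      ← map_commutatorElement, hker] at h2
    exact h2
  · intro q' hq' hS'q a ha b hb
    by_cases hqq : q' = q
    · subst hqq
      have h1 := (hpow _ ((hmem ⟨a, hS'S ha⟩).mp ha)).2
      have h2 := Subgroup.mem_centralizer_iff.mp h1 _ ((hmem ⟨b, hS'S hb⟩).mp hb)
      rw [← map_pow, eq_comm, ← commutatorElement_eq_one_iff_mul_comm, ← map_commutatorElement,
        hker] at h2
      exact h2
    · haveI := Fact.mk hq'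
      obtain ⟨l, hl⟩ := IsPGroup.iff_card.mp hS'q
      obtain ⟨l', hl'⟩ := IsPGroup.iff_card.mp (hS.to_le hS'S)
      have h1 : Nat.card S' = 1 := by
        have hc : (q' ^ l).Coprime (q ^ l') :=
          Nat.Coprime.pow l l' ((Nat.coprime_primes hq' hq).mpr hqq)
        rw [← hl, ← hl'] at hc
        exact (Nat.coprime_self _).mp hc
      rw [Subgroup.card_eq_one] at h1
      rw [h1, Subgroup.mem_bot] at hb
      rw [hb, commutatorElement_one_right]
      exact one_mem _
  · refine (hmem ⟨y, hy⟩).mpr (hC (Subgroup.mem_centralizer_iff.mpr fun h hh => ?_))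
    obtain ⟨h', rfl⟩ := QuotientGroup.mk'_surjective _ h
    have h1 := hyh h' ((hmem h').mpr hh)
    symm
    rw [← commutatorElement_eq_one_iff_mul_comm, ← map_commutatorElement, hker]
    exact h1

/-- An element of coprime order centralising a critical subgroup centralises the group. -/
theorem centralize_of_crit {S S' K : Subgroup X} (hS'S : S' ≤ S)
    (hinv : ∀ g, g ∈ Subgroup.normalizer (S : Set X) → g ∈ Subgroup.normalizer (K : Set X) →
      g ∈ Subgroup.normalizer (S' : Set X))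
    (hcrit : ∀ y ∈ S, (∀ h ∈ S', ⁅y, h⁆ ∈ K) → y ∈ S')
    (hSK : S ≤ Subgroup.normalizer (K : Set X)) {x : X}
    (hxS : x ∈ Subgroup.normalizer (S : Set X)) (hxK : x ∈ Subgroup.normalizer (K : Set X))
    (hcop : (orderOf x).Coprime (Nat.card S)) (hx : ∀ h ∈ S', ⁅x, h⁆ ∈ K) {y : X} (hy : y ∈ S) :
    ⁅x, y⁆ ∈ K := by
  refine engel hxS hxK hSK hcop (fun y hy => hx _ (hcrit _ ?_ fun h hh => ?_)) hy
  · rw [commutatorElement_def]
    exact mul_mem (conj_mem hxS hy) (inv_mem hy)
  have h1 : y⁻¹ * h * y ∈ S' :=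
    (Subgroup.mem_normalizer_iff''.mp (hinv y (normalizer_of_le hy) (hSK hy)) h).mp hh
  have h2 : x⁻¹ * ⁅x, y⁻¹ * h * y⁆⁻¹ * x ∈ K :=
    (Subgroup.mem_normalizer_iff''.mp hxK _).mp (inv_mem (hx _ h1))
  rw [show ⁅⁅x, y⁆, h⁆ =
    x * (y * (x⁻¹ * ⁅x, y⁻¹ * h * y⁆⁻¹ * x) * y⁻¹) * x⁻¹ * ⁅x, h⁆ by
    simp only [commutatorElement_def]; group]
  exact mul_mem (conj_mem hxK (conj_mem (hSK hy) h2)) (hx h hh)

/-- Refinement by critical subgroups. -/
theorem exists_refine (l : List (Subgroup X)) : ∀ S : Subgroup X, IsTower (S :: l) →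
    (∀ U ∈ S :: l, ∃ q : ℕ, q.Prime ∧ IsPGroup q U) →
    ∃ (S' : Subgroup X) (l' : List (Subgroup X)), IsTower (S' :: l') ∧
      List.Forall₂ (· ≤ ·) (S' :: l') (S :: l) ∧ kern (S' :: l') = kern (S :: l) ∧
      Good (S' :: l') ∧
      (∀ g, (∀ U ∈ S :: l, g ∈ Subgroup.normalizer (U : Set X)) →
        ∀ U ∈ S' :: l', g ∈ Subgroup.normalizer (U : Set X)) ∧
      (S' ≤ kern (S :: l) → S ≤ kern (S :: l)) ∧
      (∀ (s : X) (j : ℕ), Pref s j (S :: l) → Pref s j (S' :: l')) ∧
      ∀ x, (∀ U ∈ S :: l, x ∈ Subgroup.normalizer (U : Set X)) →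
        (orderOf x).Coprime (Nat.card S) → (∀ h ∈ S', ⁅x, h⁆ ∈ kern (S :: l)) →
        ∀ y ∈ S, ⁅x, y⁆ ∈ kern (S :: l) := by
  induction l with
  | nil =>
    intro S hl hp
    obtain ⟨q, hq, hSq⟩ := hp S List.mem_cons_self
    have hSK : S ≤ Subgroup.normalizer (kern [S] : Set X) := fun g _ => by
      rw [kern_singleton]; exact bot_normalize g
    obtain ⟨S', hK, hS'S, hinv, hnice, hcrit⟩ := exists_crit hq hSq (kern_le_head S []) hSK
    refine ⟨S', [], ⟨List.pairwise_singleton _ _, List.isChain_singleton _⟩,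
      List.Forall₂.cons hS'S List.Forall₂.nil, rfl, ⟨hnice, trivial⟩, ?_,
      fun hle y hy => ?_, ?_, fun x hx hcop h y hy => ?_⟩
    · intro g hg U hU
      rw [List.mem_singleton] at hU
      subst hU
      exact hinv g (hg S List.mem_cons_self) (kern_normalize _ g hg)
    · exact hle (hcrit y hy fun h hh => by
        have := hle hh
        rw [kern_singleton, Subgroup.mem_bot] at this ⊢
        rw [this, commutatorElement_one_right])
    · intro s j hj
      cases j with
      | zero => exact trivial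
      | succ j =>
        refine ⟨fun a ha => hj.1 a (hS'S ha), ?_⟩
        exact hj.2
    · exact centralize_of_crit hS'S hinv hcrit hSK (hx S List.mem_cons_self)
        (kern_normalize _ x hx) hcop h hy
  | cons T l ih =>
    intro S hl hp
    obtain ⟨T', l', hl', hle', hk', hgood, hinv', -, hpref, hcrit'⟩ :=
      ih T hl.tail fun U hU => hp U (List.mem_cons_of_mem _ hU)
    obtain ⟨q, hq, hSq⟩ := hp S List.mem_cons_self
    have hSK : S ≤ Subgroup.normalizer (kern (S :: T :: l) : Set X) := fun g hg =>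
      kern_normalize _ g (hl.head_normalizes hg)
    obtain ⟨S', hK, hS'S, hinv, hnice, hcrit⟩ := exists_crit hq hSq (kern_le_head S _) hSK
    have hS'n : ∀ g ∈ S', ∀ U ∈ T' :: l', g ∈ Subgroup.normalizer (U : Set X) := fun g hg =>
      hinv' g fun U hU => hl.head_normalizes (hS'S hg) U (List.mem_cons_of_mem _ hU)
    have hT'T : T' ≤ T := (List.forall₂_cons.mp hle').1
    have htow : IsTower (S' :: T' :: l') :=
      ⟨List.pairwise_cons.mpr ⟨fun U hU g hg => hS'n g hg U hU, hl'.norm⟩,
        List.isChain_cons_cons.mpr ⟨((List.isChain_cons_cons.mp hl.coprime).1.coprime_dvd_left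
          (Subgroup.card_dvd_of_le hS'S)).coprime_dvd_right (Subgroup.card_dvd_of_le hT'T),
          hl'.coprime⟩⟩
    have hkern : kern (S' :: T' :: l') = kern (S :: T :: l) := by
      refine le_antisymm (fun x hx => ?_) fun x hx => ?_
      · obtain ⟨hxS', -, -, hc⟩ := hx
        refine hl.mem_kern (hS'S hxS') fun y hy => hcrit' x
          (fun U hU => hl.head_normalizes (hS'S hxS') U (List.mem_cons_of_mem _ hU))
          (hl.orderOf_coprime (hS'S hxS')) (fun h hh => hk' ▸ hc h hh) y hy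
      · refine htow.mem_kern (hK hx) fun y hy => ?_
        rw [hk']
        exact hx.2.2.2 y (hT'T hy)
    refine ⟨S', T' :: l', htow, List.Forall₂.cons hS'S hle', hkern, ⟨hkern.symm ▸ hnice, hgood⟩,
      ?_, fun hle y hy => ?_, ?_, fun x hx hcop h y hy => ?_⟩
    · intro g hg U hU
      rcases List.mem_cons.mp hU with rfl | hU
      · exact hinv g (hg S List.mem_cons_self) (kern_normalize _ g hg)
      · exact hinv' g (fun V hV => hg V (List.mem_cons_of_mem _ hV)) U hU
    · refine hle (hcrit y hy fun h hh => ?_)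
      have h1 := hle hh
      have h2 : y ∈ Subgroup.normalizer (kern (S :: T :: l) : Set X) := hSK hy
      rw [commutatorElement_def]
      exact mul_mem (conj_mem h2 h1) (inv_mem h1)
    · intro s j hj
      cases j with
      | zero => exact trivial
      | succ j => exact ⟨fun a ha => hkern.symm ▸ hj.1 a (hS'S ha), hpref s j hj.2⟩
    · exact centralize_of_crit hS'S hinv hcrit hSK (hx S List.mem_cons_self)
        (kern_normalize _ x hx) hcop h hy

end Cfsg.Agent.Lib.PrimeFitting.Tower
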