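/-
The levels of a refined chain: what the fixed elements can and cannot kill.
-/
import Cfsg.Agent.Lib.PrimeFitting.Link
import Cfsg.Agent.Lib.PrimeFitting.Refine
import Mathlib.FieldTheory.IsAlgClosed.AlgebraicClosure

set_option autoImplicit false
set_option linter.style.haveILetI false
set_option linter.unusedSectionVars false

open scoped commutatorElement TensorProduct

namespace Cfsg.Agent.Lib.PrimeFitting.Levels

open Tower

universe u

variable {X : Type u} [Group X]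

/-- The segment of a family starting at `a`. -/
def seg (S : ℕ → Subgroup X) : ℕ → ℕ → List (Subgroup X)
  | _, 0 => []
  | a, n + 1 => S a :: seg S (a + 1) n

theorem length_seg (S : ℕ → Subgroup X) : ∀ (n a : ℕ), (seg S a n).length = n
  | 0, _ => rfl
  | n + 1, a => by rw [seg, List.length_cons, length_seg S n (a + 1)]

theorem mem_seg (S : ℕ → Subgroup X) : ∀ (n a : ℕ) {U : Subgroup X}, U ∈ seg S a n →
    ∃ t, a ≤ t ∧ t < a + n ∧ U = S t
  | 0, _, _, h => absurd h List.not_mem_nil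
  | n + 1, a, U, h => by
    rcases List.mem_cons.mp h with rfl | h
    · exact ⟨a, le_rfl, by omega, rfl⟩
    · obtain ⟨t, h1, h2, rfl⟩ := mem_seg S n (a + 1) h
      exact ⟨t, by omega, by omega, rfl⟩

/-- The kernel of level `i` in a chain of length `h`. -/
def kerFam (S : ℕ → Subgroup X) (h i : ℕ) : Subgroup X := kern (seg S i (h - i))

theorem kerFam_succ (S : ℕ → Subgroup X) {h i : ℕ} (hi : i + 1 < h) :
    kerFam S h i = S i ⊓ centMod (S (i + 1)) (kerFam S h (i + 1)) := by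
  rw [kerFam, kerFam, show h - i = (h - (i + 1) - 1) + 1 + 1 by omega,
    show h - (i + 1) = (h - (i + 1) - 1) + 1 by omega]
  simp only [seg, kern_cons, Nat.add_sub_cancel]

theorem kerFam_last (S : ℕ → Subgroup X) {h i : ℕ} (hi : h ≤ i + 1) : kerFam S h i = ⊥ := by
  rw [kerFam]
  rcases Nat.lt_or_ge i h with h1 | h1
  · rw [show h - i = 1 by omega]; rfl
  · rw [show h - i = 0 by omega]; rfl

theorem kerFam_le (S : ℕ → Subgroup X) (h i : ℕ) : kerFam S h i ≤ S i := by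
  rcases Nat.lt_or_ge (i + 1) h with h1 | h1
  · rw [kerFam_succ S h1]; exact inf_le_left
  · rw [kerFam_last S h1]; exact bot_le

/-- A refined chain with an element `s` of prime order. -/
structure Setup (X : Type u) [Group X] where
  h : ℕ
  r : ℕ
  s : X
  S : ℕ → Subgroup X
  p : ℕ → Nat.Primes
  rprime : r.Prime
  pow : s ^ r = 1
  isP : ∀ i, IsPGroup (p i : ℕ) (S i)
  ne : ∀ i, (p i : ℕ) ≠ r
  adj : ∀ i, i + 1 < h → (p i : ℕ) ≠ p (i + 1)
  bot : ∀ i, h ≤ i → S i = ⊥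
  norm : ∀ i t, i ≤ t → S i ≤ Subgroup.normalizer (S t : Set X)
  sN : ∀ i, s ∈ Subgroup.normalizer (S i : Set X)
  nice : ∀ i, Nice (S i) (kerFam S h i)

namespace Setup

variable (τ : Setup X)

instance primeFact (q : Nat.Primes) : Fact (q : ℕ).Prime := ⟨q.2⟩

/-- The kernel of level `i`. -/
def K (i : ℕ) : Subgroup X := kerFam τ.S τ.h i

theorem K_le (i : ℕ) : τ.K i ≤ τ.S i := kerFam_le τ.S τ.h i

/-- The fixed elements of level `i`. -/
def D (i : ℕ) : Subgroup X := τ.S i ⊓ Subgroup.centralizer {τ.s}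

theorem mem_D {i : ℕ} {x : X} : x ∈ τ.D i ↔ x ∈ τ.S i ∧ τ.s * x = x * τ.s := by
  rw [D, Subgroup.mem_inf, Subgroup.mem_centralizer_iff]
  exact and_congr_right' ⟨fun h => h _ rfl, fun h z hz => by rw [Set.mem_singleton_iff.mp hz, h]⟩

/-- The elements normalising the levels from `i` on. -/
def lev (i : ℕ) : Subgroup X where
  carrier := {g | ∀ t, i ≤ t → g ∈ Subgroup.normalizer (τ.S t : Set X)}
  one_mem' := fun _ _ => one_mem _
  mul_mem' := fun ha hb t ht => mul_mem (ha t ht) (hb t ht)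
  inv_mem' := fun ha t ht => inv_mem (ha t ht)

theorem lev_le (i : ℕ) : τ.lev i ≤ τ.lev (i + 1) := fun _ hg t ht => hg t (by omega)

theorem S_le_lev {i t : ℕ} (h : t ≤ i) : τ.S t ≤ τ.lev i :=
  fun _ hx j hj => τ.norm t j (h.trans hj) hx

theorem s_mem_lev (i : ℕ) : τ.s ∈ τ.lev i := fun t _ => τ.sN t

theorem lev_normalizes_K {i t : ℕ} (h : i ≤ t) :
    τ.lev i ≤ Subgroup.normalizer (τ.K t : Set X) := fun g hg =>
  kern_normalize _ g fun U hU => by
    obtain ⟨j, hj, -, rfl⟩ := mem_seg τ.S _ _ hU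
    exact hg j (h.trans hj)

theorem S_normalizes_K (i : ℕ) : τ.S i ≤ Subgroup.normalizer (τ.K i : Set X) :=
  (τ.S_le_lev le_rfl).trans (τ.lev_normalizes_K le_rfl)

theorem mem_K {i : ℕ} (hi : i + 1 < τ.h) {x : X} :
    x ∈ τ.K i ↔ x ∈ τ.S i ∧ ∀ y ∈ τ.S (i + 1), ⁅x, y⁆ ∈ τ.K (i + 1) := by
  rw [K, kerFam_succ τ.S hi]
  refine ⟨fun h => ⟨h.1, h.2.2.2⟩, fun h => ⟨h.1, τ.norm i (i + 1) (Nat.le_succ i) h.1,
    τ.lev_normalizes_K (Nat.le_succ i) (τ.S_le_lev le_rfl h.1), h.2⟩⟩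

/-- `s` as an element of the normalisers. -/
def sL (i : ℕ) : τ.lev i := ⟨τ.s, τ.s_mem_lev i⟩

/-- The inclusion of consecutive normalisers. -/
def inc (i : ℕ) : τ.lev i →* τ.lev (i + 1) := Subgroup.inclusion (τ.lev_le i)

/-- Level `i` inside its normaliser. -/
def T (i : ℕ) : Subgroup (τ.lev i) := (τ.S i).subgroupOf (τ.lev i)

/-- The kernel inside a level. -/
def Kr (i : ℕ) : Subgroup (τ.S i) := (τ.K i).subgroupOf (τ.S i)

instance Kr_normal (i : ℕ) : (τ.Kr i).Normal :=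
  Subgroup.normal_subgroupOf_of_le_normalizer (τ.S_normalizes_K i)

/-- The factor group of level `i`. -/
abbrev Q (i : ℕ) : Type u := τ.S i ⧸ τ.Kr i

/-- Conjugation of a level modulo its kernel. -/
def conjQ (i : ℕ) (g : X) (hS : g ∈ Subgroup.normalizer (τ.S i : Set X))
    (hK : g ∈ Subgroup.normalizer (τ.K i : Set X)) : τ.Q i →* τ.Q i :=
  QuotientGroup.map _ _ ((τ.S i).normalizerMonoidHom ⟨g, hS⟩).toMonoidHom fun _ hx => by
    rw [Kr, Subgroup.mem_subgroupOf] at hx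
    exact Subgroup.mem_subgroupOf.mpr (conj_mem hK hx)

theorem conjQ_mk (i : ℕ) (g : X) (hS : g ∈ Subgroup.normalizer (τ.S i : Set X))
    (hK : g ∈ Subgroup.normalizer (τ.K i : Set X)) (a b : τ.S i) (hb : (b : X) = g * a * g⁻¹) :
    τ.conjQ i g hS hK (a : τ.Q i) = (b : τ.Q i) :=
  congrArg (fun z : τ.S i => (z : τ.Q i)) (Subtype.ext hb.symm)

/-- The action of the normalisers on the next level. -/
def act (i : ℕ) : τ.lev i →* MulAut (τ.Q (i + 1)) where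
  toFun g :=
    { toFun := τ.conjQ (i + 1) g (g.2 _ (Nat.le_succ i)) (τ.lev_normalizes_K (Nat.le_succ i) g.2)
      invFun := τ.conjQ (i + 1) (g⁻¹ : τ.lev i) (inv_mem (g.2 _ (Nat.le_succ i)))
        (τ.lev_normalizes_K (Nat.le_succ i) (g⁻¹).2)
      left_inv := fun a => by
        induction a using QuotientGroup.induction_on with | _ a => ?_
        exact congrArg (fun z : τ.S (i + 1) => (z : τ.Q (i + 1))) (Subtype.ext (by
          show ((g⁻¹ : τ.lev i) : X) * ((g : X) * a * (g : X)⁻¹) * ((g⁻¹ : τ.lev i) : X)⁻¹ = a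
          rw [Subgroup.coe_inv]; group))
      right_inv := fun a => by
        induction a using QuotientGroup.induction_on with | _ a => ?_
        exact congrArg (fun z : τ.S (i + 1) => (z : τ.Q (i + 1))) (Subtype.ext (by
          show (g : X) * (((g⁻¹ : τ.lev i) : X) * a * ((g⁻¹ : τ.lev i) : X)⁻¹) * (g : X)⁻¹ = a
          rw [Subgroup.coe_inv]; group))
      map_mul' := fun a b => map_mul _ a b }
  map_one' := MulEquiv.ext fun a => by
    induction a using QuotientGroup.induction_on with | _ a => ?_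
    exact congrArg (fun z : τ.S (i + 1) => (z : τ.Q (i + 1))) (Subtype.ext (by
      show ((1 : τ.lev i) : X) * a * ((1 : τ.lev i) : X)⁻¹ = a
      rw [Subgroup.coe_one]; group))
  map_mul' g g' := MulEquiv.ext fun a => by
    induction a using QuotientGroup.induction_on with | _ a => ?_
    exact congrArg (fun z : τ.S (i + 1) => (z : τ.Q (i + 1))) (Subtype.ext (by
      show ((g * g' : τ.lev i) : X) * a * ((g * g' : τ.lev i) : X)⁻¹ =
        (g : X) * ((g' : X) * a * (g' : X)⁻¹) * (g : X)⁻¹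
      rw [Subgroup.coe_mul]; group))

theorem act_mk (i : ℕ) (g : τ.lev i) (a b : τ.S (i + 1)) (hb : (b : X) = g * a * (g : X)⁻¹) :
    τ.act i g (a : τ.Q (i + 1)) = (b : τ.Q (i + 1)) :=
  τ.conjQ_mk (i + 1) g (g.2 _ (Nat.le_succ i)) (τ.lev_normalizes_K (Nat.le_succ i) g.2) a b hb

/-- The scalars of level `i`. -/
abbrev fld (i : ℕ) : Type := AlgebraicClosure (ZMod (τ.p (i + 1) : ℕ))

/-- The module of level `i`. -/
abbrev mdl (i : ℕ) : Type u :=
  τ.fld i ⊗[ZMod (τ.p (i + 1) : ℕ)] Lin.Mod (τ.Q (i + 1)) (τ.p (i + 1) : ℕ)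

/-- The representation of level `i`. -/
noncomputable def rep (i : ℕ) : τ.lev i →* Module.End (τ.fld i) (τ.mdl i) :=
  Link.upper (τ.act i)

/-- Level `i` to its factor group. -/
def toQ (i : ℕ) : τ.T i →* τ.Q i :=
  (QuotientGroup.mk' (τ.Kr i)).comp
    { toFun := fun u => (⟨((u : τ.lev i) : X), Subgroup.mem_subgroupOf.mp u.2⟩ : τ.S i)
      map_one' := rfl
      map_mul' := fun _ _ => rfl }

theorem toQ_surjective (i : ℕ) : Function.Surjective (τ.toQ i) := by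
  intro a
  induction a using QuotientGroup.induction_on with | _ a => ?_
  exact ⟨⟨⟨a, τ.S_le_lev le_rfl a.2⟩, a.2⟩, rfl⟩

theorem toQ_eq_one (i : ℕ) (u : τ.T i) : τ.toQ i u = 1 ↔ ((u : τ.lev i) : X) ∈ τ.K i :=
  (QuotientGroup.eq_one_iff _).trans Subgroup.mem_subgroupOf

theorem T_normal (i : ℕ) : (τ.T i).Normal :=
  Subgroup.normal_subgroupOf_of_le_normalizer fun _ hg => hg i le_rfl

theorem T_isPGroup (i : ℕ) : IsPGroup (τ.p i : ℕ) (τ.T i) :=
  (τ.isP i).comap_subtype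

theorem inc_mem_T (i : ℕ) (g : τ.lev i) : ∀ u ∈ τ.T (i + 1),
    τ.inc i g * u * (τ.inc i g)⁻¹ ∈ τ.T (i + 1) :=
  fun u hu => (τ.T_normal (i + 1)).conj_mem u hu _

theorem equiv_mk (i : ℕ) (g : τ.lev i) (u u' : τ.T (i + 1))
    (h : (u' : τ.lev (i + 1)) = τ.inc i g * u * (τ.inc i g)⁻¹) :
    τ.act i g (τ.toQ (i + 1) u) = τ.toQ (i + 1) u' :=
  τ.act_mk i g _ _ (congrArg Subtype.val h)

theorem sL_pow (i : ℕ) : τ.sL i ^ τ.r = 1 := Subtype.ext τ.pow

theorem natCast_ne_zero (i : ℕ) {q : ℕ} (hq : q.Prime) (hne : q ≠ τ.p (i + 1)) :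
    (q : τ.fld i) ≠ 0 := by
  rw [← map_natCast (algebraMap (ZMod (τ.p (i + 1) : ℕ)) (τ.fld i)), map_ne_zero, Ne,
    ZMod.natCast_eq_zero_iff]
  exact fun hd => hne ((Nat.prime_dvd_prime_iff_eq (τ.p (i + 1)).2 hq).mp hd).symm

variable [Finite X]

theorem P0_le (i : ℕ) : Lin.P0 (τ.Q i) (τ.p i : ℕ) ≤ Subgroup.center (τ.Q i) := by
  have hcent : ∀ a : τ.S i, (∀ b : τ.S i, ((⁅a, b⁆ : τ.S i) : X) ∈ τ.K i) →
      (a : τ.Q i) ∈ Subgroup.center (τ.Q i) := fun a ha => by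
    rw [Subgroup.mem_center_iff]
    intro b
    induction b using QuotientGroup.induction_on with | _ b => ?_
    symm
    rw [← commutatorElement_eq_one_iff_mul_comm]
    refine (QuotientGroup.eq_one_iff ⁅a, b⁆).mpr (Subgroup.mem_subgroupOf.mpr ?_)
    exact ha b
  refine sup_le (sup_le le_rfl ?_) ((Subgroup.closure_le _).mpr ?_)
  · rw [commutator_def, Subgroup.commutator_le]
    intro a _ b _
    induction a using QuotientGroup.induction_on with | _ a => ?_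
    induction b using QuotientGroup.induction_on with | _ b => ?_
    exact hcent ⁅a, b⁆ fun c => (τ.nice i).nice a a.2 b b.2 c c.2
  · rintro _ ⟨a, rfl⟩
    induction a using QuotientGroup.induction_on with | _ a => ?_
    exact hcent (a ^ (τ.p i : ℕ)) fun c =>
      ((τ.nice i).expo _ (τ.p i).2 (τ.isP i) a a.2 c c.2 :)

theorem ker_iff {i : ℕ} (hi : i + 1 < τ.h) (u : τ.lev i) (hu : (u : X) ∈ τ.S i) :
    τ.rep i u = 1 ↔ (u : X) ∈ τ.K i := by
  rw [τ.mem_K hi]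
  constructor
  · intro h
    obtain ⟨l, hl⟩ := τ.isP i ⟨(u : X), hu⟩
    have hul : u ^ (τ.p i : ℕ) ^ l = 1 := Subtype.ext (by simpa using congrArg Subtype.val hl)
    have h1 : τ.act i u = 1 :=
      Lin.eq_one_of_lin ((τ.isP (i + 1)).to_quotient _) (τ.P0_le (i + 1))
        (n := (τ.p i : ℕ) ^ l) (by rw [← map_pow, hul, map_one])
        (Nat.Coprime.pow_left l ((Nat.coprime_primes (τ.p i).2 (τ.p (i + 1)).2).mpr (τ.adj i hi)))
        (Lin.lin_of_rep (τ.fld i) h)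
    refine ⟨hu, fun y hy => ?_⟩
    have h2 := DFunLike.congr_fun h1 ((⟨y, hy⟩ : τ.S (i + 1)) : τ.Q (i + 1))
    rw [τ.act_mk i u ⟨y, hy⟩ ⟨(u : X) * y * (u : X)⁻¹, conj_mem (u.2 _ (Nat.le_succ i)) hy⟩ rfl,
      MulAut.one_apply, QuotientGroup.eq, Kr, Subgroup.mem_subgroupOf] at h2
    have h3 := conj_mem (τ.S_normalizes_K (i + 1) hy) h2
    simp only [Subgroup.coe_mul, Subgroup.coe_inv] at h3
    rw [show y * (((u : X) * y * (u : X)⁻¹)⁻¹ * y) * y⁻¹ = (⁅(u : X), y⁆ * 1)⁻¹ * 1 by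
      simp only [commutatorElement_def]; group] at h3
    exact inv_mem_iff.mp (by simpa only [mul_one] using h3)
  · intro h
    have h1 : τ.act i u = 1 := by
      refine MulEquiv.ext fun a => ?_
      induction a using QuotientGroup.induction_on with | _ a => ?_
      rw [τ.act_mk i u a ⟨(u : X) * a * (u : X)⁻¹, conj_mem (u.2 _ (Nat.le_succ i)) a.2⟩ rfl,
        MulAut.one_apply, QuotientGroup.eq, Kr, Subgroup.mem_subgroupOf]
      have h3 := (Subgroup.mem_normalizer_iff''.mp (τ.S_normalizes_K (i + 1) a.2) _).mp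
        (inv_mem (h.2 a a.2))
      simpa [commutatorElement_def, mul_assoc] using h3
    rw [rep, Link.upper, MonoidHom.comp_apply, h1, map_one]

theorem level {i : ℕ} (hi : i + 1 < τ.h) :
    Points.Level (τ.rep i) (τ.T i) (τ.p i : ℕ) (τ.sL i) τ.r where
  normal := τ.T_normal i
  qprime := (τ.p i).2
  pgroup := τ.T_isPGroup i
  qcast := τ.natCast_ne_zero i (τ.p i).2 (τ.adj i hi)
  rprime := τ.rprime
  rcast := τ.natCast_ne_zero i τ.rprime (τ.ne (i + 1)).symm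
  ne := τ.ne i
  pow := τ.sL_pow i
  nice a ha b hb c hc := by
    have hm : ((⁅⁅a, b⁆, c⁆ : τ.lev i) : X) ∈ τ.K i := (τ.nice i).nice a ha b hb c hc
    exact (τ.ker_iff hi _ (kerFam_le _ _ _ hm)).mpr hm
  expo a ha b hb := by
    have hm : ((⁅a ^ (τ.p i : ℕ), b⁆ : τ.lev i) : X) ∈ τ.K i :=
      (τ.nice i).expo _ (τ.p i).2 (τ.isP i) a ha b hb
    exact (τ.ker_iff hi _ (kerFam_le _ _ _ hm)).mpr hm

theorem data {i : ℕ} (hi : i + 2 < τ.h) :
    Link.Data (τ.rep (i + 1)) (τ.inc i) (τ.act i) (τ.toQ (i + 1)) (τ.p (i + 1) : ℕ) τ.r (τ.sL i) where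
  level := τ.level hi
  surj := τ.toQ_surjective _
  ker u := (τ.toQ_eq_one _ u).trans (τ.ker_iff hi _ (Subgroup.mem_subgroupOf.mp u.2)).symm
  equiv g u u' h := τ.equiv_mk i g u u' h
  pow := τ.sL_pow i

/-- Trivial at all large points of level `i`; trivial, at the last level. -/
def Killed (i : ℕ) (x : X) : Prop :=
  (i + 1 < τ.h → ∀ (hx : x ∈ τ.lev i) (g : Points.Pt (τ.lev i) (τ.fld i)),
    Points.IsPoint (τ.rep i) (τ.T i) g → ¬ Points.Bad (τ.T i) (τ.sL i) τ.r g → g ⟨x, hx⟩ = 1) ∧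
  (i + 1 = τ.h → x = 1)

/-- All points of level `i` are small. -/
def AllBad (i : ℕ) : Prop :=
  ∀ g : Points.Pt (τ.lev i) (τ.fld i),
    Points.IsPoint (τ.rep i) (τ.T i) g → Points.Bad (τ.T i) (τ.sL i) τ.r g

theorem fixed_T {i : ℕ} {u : τ.T (i + 1)}
    (hu : τ.inc i (τ.sL i) * u = u * τ.inc i (τ.sL i)) :
    ((u : τ.lev (i + 1)) : X) ∈ τ.D (i + 1) :=
  (τ.mem_D).mpr ⟨Subgroup.mem_subgroupOf.mp u.2, congrArg Subtype.val hu⟩

theorem exists_sys {i : ℕ} (hi : i + 1 < τ.h) :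
    ∃ (Ω : Type u) (_ : MulAction (τ.lev i) Ω) (N : Ω → Submodule (τ.fld i) (τ.mdl i))
      (B : Ω → Prop), Coord.Sys (τ.rep i) (τ.T i) (τ.sL i) N B ∧
      (∀ x : τ.lev i, τ.sL i * x = x * τ.sL i →
        (∀ c ∈ τ.D (i + 1), τ.Killed (i + 1) ⁅(x : X), c⁆) →
        ∀ v, τ.rep i (τ.sL i) v = v → τ.rep i x v - v ∈ Coord.K0 (τ.rep i) (τ.sL i) N B) ∧
      ((∀ c ∈ τ.D (i + 1), τ.Killed (i + 1) c) →
        ∀ v, τ.rep i (τ.sL i) v = v → v ∈ Coord.K0 (τ.rep i) (τ.sL i) N B) := by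
  have hrp : τ.r.Coprime (τ.p (i + 1) : ℕ) :=
    (Nat.coprime_primes τ.rprime (τ.p (i + 1)).2).mpr (τ.ne (i + 1)).symm
  have hr0 : (τ.r : τ.fld i) ≠ 0 := τ.natCast_ne_zero i τ.rprime (τ.ne (i + 1)).symm
  rcases Nat.lt_or_ge (i + 2) τ.h with h2 | h2
  · refine ⟨Link.Via (τ.inc i) (τ.fld (i + 1)), inferInstance, _, _,
      Link.sys (τ.data h2) (τ.p i).2 (τ.adj i hi) (τ.ne i) (τ.T_isPGroup i),
      fun x hxs hkill v hv => ?_, fun hkill v hv => ?_⟩
    · refine Link.move_mem_K0 (τ.data h2) hrp hr0 hxs (fun u hu f hp hf => ?_) hv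
      exact (hkill _ (τ.fixed_T hu)).1 h2 (⁅τ.inc i x, (u : τ.lev (i + 1))⁆).2 f hp hf
    · refine Link.fixed_mem_K0 (τ.data h2) hrp hr0 (fun u hu f hp hf => ?_) hv
      exact (hkill _ (τ.fixed_T hu)).1 h2 (u : τ.lev (i + 1)).2 f hp hf
  · have hlast : i + 1 + 1 = τ.h := by omega
    letI : MulAction (τ.lev i) PUnit.{u + 1} :=
      { smul := fun _ x => x, one_smul := fun _ => rfl, mul_smul := fun _ _ _ => rfl }
    refine ⟨PUnit.{u + 1}, inferInstance, fun _ => ⊥, fun _ => False,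
      ⟨fun v hv => (Submodule.mem_bot _).mp (hv PUnit.unit),
        fun g _ v hv => by rw [(Submodule.mem_bot _).mp hv, map_zero]; exact zero_mem _,
        fun _ hf => hf.elim, fun _ _ _ hf => hf.elim, fun _ _ _ _ hf => hf.elim⟩,
      fun x hxs hkill v hv => ?_, fun hkill v hv => ?_⟩
    · have h0 : τ.rep i x v - v = 0 := by
        let M := LinearMap.ker (τ.rep i x - 1)
        suffices v ∈ M by simpa [M] using this
        refine Link.fixed_mem (τ.toQ_surjective (i + 1)) (τ.equiv_mk i) (τ.inc_mem_T i)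
          (τ.T_isPGroup (i + 1)) (τ.sL_pow i) hrp hr0 (fun u hu => ?_) hv
        have h1 := (hkill _ (τ.fixed_T hu)).2 hlast
        have h2 : τ.act i x (τ.toQ (i + 1) u) = τ.toQ (i + 1) u := by
          refine τ.equiv_mk i x u u (Subtype.ext ?_)
          rw [commutatorElement_eq_one_iff_mul_comm] at h1
          show ((u : τ.lev (i + 1)) : X) = (x : X) * ((u : τ.lev (i + 1)) : X) * (x : X)⁻¹
          rw [h1, mul_inv_cancel_right]
        refine ⟨?_, fun hz => ?_⟩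
        · rw [LinearMap.mem_ker, LinearMap.sub_apply, Module.End.one_apply, sub_eq_zero, rep,
            Link.upper_cl, h2]
        · rw [LinearMap.mem_ker, LinearMap.sub_apply, Module.End.one_apply, sub_eq_zero, rep,
            Link.upper_om]
          exact congrArg (fun z => (1 : τ.fld i) ⊗ₜ Lin.om z) (Subtype.ext h2)
      rw [h0]; exact zero_mem _
    · have h0 : v = 0 := by
        rw [← Submodule.mem_bot (τ.fld i)]
        refine Link.fixed_mem (τ.toQ_surjective (i + 1)) (τ.equiv_mk i) (τ.inc_mem_T i)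
          (τ.T_isPGroup (i + 1)) (τ.sL_pow i) hrp hr0 (fun u hu => ?_) hv
        have h1 : u = 1 :=
          Subtype.ext (Subtype.ext ((hkill _ (τ.fixed_T hu)).2 hlast))
        subst h1
        refine ⟨?_, fun hz => ?_⟩
        · rw [map_one, Submodule.mem_bot]
          exact (congrArg (fun l => (1 : τ.fld i) ⊗ₜ[ZMod (τ.p (i + 1) : ℕ)] l)
            (show Lin.cl (p := (τ.p (i + 1) : ℕ)) (1 : τ.Q (i + 1)) = 0 by simp [Lin.cl, Prod.mk_zero_zero])).trans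
            (TensorProduct.tmul_zero _ _)
        · rw [Submodule.mem_bot]
          have h3 : (⟨τ.toQ (i + 1) 1, hz⟩ : Lin.Om (τ.Q (i + 1)) (τ.p (i + 1) : ℕ)) = 1 :=
            Subtype.ext (map_one _)
          rw [h3, show Lin.om (1 : Lin.Om (τ.Q (i + 1)) (τ.p (i + 1) : ℕ)) = 0 by
            simp [Lin.om, Prod.mk_zero_zero], TensorProduct.tmul_zero]
      rw [h0]; exact zero_mem _

/-- A fixed element moving the next fixed group into killed elements is killed. -/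
theorem kill_of_comm {i : ℕ} (hi : i + 1 < τ.h) {x : X} (hx : x ∈ τ.D i)
    (hc : ∀ c ∈ τ.D (i + 1), τ.Killed (i + 1) ⁅x, c⁆) : τ.Killed i x := by
  obtain ⟨hxS, hxs⟩ := (τ.mem_D).mp hx
  refine ⟨fun _ hxl g hg hbad => ?_, fun h => absurd h (Nat.ne_of_lt hi)⟩
  obtain ⟨Ω, _, N, B, hS, hmove, -⟩ := τ.exists_sys hi
  exact Coord.kill_step (τ.level hi) hS (x := ⟨x, hxl⟩) hxS (Subtype.ext hxs)
    (hmove ⟨x, hxl⟩ (Subtype.ext hxs) hc) hg hbad

/-- If the next fixed group is killed, all points are small. -/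
theorem all_bad {i : ℕ} (hi : i + 1 < τ.h) (hc : ∀ c ∈ τ.D (i + 1), τ.Killed (i + 1) c) :
    τ.AllBad i := by
  intro g hg
  obtain ⟨Ω, _, N, B, hS, -, hfix⟩ := τ.exists_sys hi
  exact Coord.all_bad_of_K0 (τ.level hi) hS (hfix hc) hg

/-- If all points of the next level are small, `⁅S, s⁆` lies in the kernel. -/
theorem prefix_step {i : ℕ} (hi : i + 2 < τ.h) (hall : τ.AllBad (i + 1)) {a : X} (ha : a ∈ τ.S i) :
    ⁅a, τ.s⁆ ∈ τ.K i := by
  have hi1 : i + 1 < τ.h := by omega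
  set a' : τ.lev i := ⟨a, τ.S_le_lev le_rfl ha⟩
  have hm : ⁅a, τ.s⁆ ∈ τ.S i := by
    rw [commutatorElement_def, mul_assoc, mul_assoc]
    refine mul_mem ha ?_
    rw [← mul_assoc]
    exact conj_mem (τ.sN i) (inv_mem ha)
  refine (τ.ker_iff hi1 ⁅a', τ.sL i⁆ hm).mp ?_
  refine Link.trivial_of_all_bad (τ.level hi1)
    (Link.sys (τ.data hi) (τ.p i).2 (τ.adj i hi1) (τ.ne i) (τ.T_isPGroup i)) (fun f hf => ?_)
    (a := a') ha
  simp only [Link.coordN] at hf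
  split_ifs at hf with hp
  · exact hall _ hp
  · exact absurd rfl hf

/-- The hypotheses on a centralising element. -/
structure Cent (i : ℕ) (m : X) : Prop where
  mem : m ∈ τ.lev i
  comm : τ.s * m = m * τ.s
  ord : ∃ e, 0 < e ∧ m ^ e = 1 ∧ τ.r.Coprime e ∧ e.Coprime (τ.p i : ℕ)
  cent : ∀ t ∈ τ.D i, ⁅m, t⁆ ∈ τ.K i
  move : ∀ c ∈ τ.D (i + 1), τ.Killed (i + 1) ⁅m, c⁆

theorem conj_mem_K {i : ℕ} {t m : X} (ht : t ∈ τ.S i) :
    ⁅m, t⁆ ∈ τ.K i ↔ t⁻¹ * (m * t * m⁻¹) ∈ τ.K i := by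
  rw [show t⁻¹ * (m * t * m⁻¹) = t⁻¹ * ⁅m, t⁆ * t by simp only [commutatorElement_def]; group]
  exact Subgroup.mem_normalizer_iff''.mp (τ.S_normalizes_K i ht) _

theorem exists_auto {i : ℕ} (hi : i + 1 < τ.h) {m : X} (hm : τ.Cent i m) :
    ∃ (Ω : Type u) (_ : MulAction (τ.lev i) Ω) (N : Ω → Submodule (τ.fld i) (τ.mdl i))
      (B : Ω → Prop), Coord.Sys (τ.rep i) (τ.T i) (τ.sL i) N B ∧
      Coord.Auto (τ.rep i) (τ.T i) (τ.p i : ℕ) τ.r (τ.sL i) N B ⟨m, hm.mem⟩ ∧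
      ∀ x : τ.lev i, τ.sL i * x = x * τ.sL i →
        (∀ c ∈ τ.D (i + 1), τ.Killed (i + 1) ⁅(x : X), c⁆) →
        ∀ v, τ.rep i (τ.sL i) v = v → τ.rep i x v - v ∈ Coord.K0 (τ.rep i) (τ.sL i) N B := by
  obtain ⟨Ω, inst, N, B, hS, hmove, -⟩ := τ.exists_sys hi
  obtain ⟨e, he0, he, her, hep⟩ := hm.ord
  refine ⟨Ω, inst, N, B, hS, ⟨Subtype.ext hm.comm, ⟨e, he0, Subtype.ext he, her, hep⟩,
    fun t ht hts => ?_, hmove ⟨m, hm.mem⟩ (Subtype.ext hm.comm) hm.move⟩, hmove⟩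
  have h1 := (τ.conj_mem_K (m := m) (Subgroup.mem_subgroupOf.mp ht)).mp
    (hm.cent _ ((τ.mem_D).mpr ⟨Subgroup.mem_subgroupOf.mp ht, congrArg Subtype.val hts⟩))
  have h2 : ((t⁻¹ * (⟨m, hm.mem⟩ * t * ⟨m, hm.mem⟩⁻¹) : τ.lev i) : X) ∈ τ.K i := by
    rw [Subgroup.coe_mul, Subgroup.coe_mul, Subgroup.coe_mul, Subgroup.coe_inv, Subgroup.coe_inv]
    exact h1
  exact (τ.ker_iff hi _ (τ.K_le i h2)).mpr h2

/-- Over small points only, such an element centralises the level. -/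
theorem auto_trivial {i : ℕ} (hi : i + 1 < τ.h) {m : X} (hm : τ.Cent i m) (hall : τ.AllBad i)
    {t : X} (ht : t ∈ τ.S i) : ⁅m, t⁆ ∈ τ.K i := by
  obtain ⟨Ω, _, N, B, hS, ha, -⟩ := τ.exists_auto hi hm
  have h1 := Coord.trivial_of_no_special (τ.level hi) ha hS
    (fun g hg => hg.2 (Coord.triv_bad (τ.level hi) ha hg.1 (hall g hg.1)))
    (t := ⟨t, τ.S_le_lev le_rfl ht⟩) ht
  refine (τ.conj_mem_K ht).mpr ((τ.ker_iff hi _ ?_).mp h1)
  exact mul_mem (inv_mem ht) (conj_mem (hm.mem i le_rfl) ht)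

/-- Commutators with elements fixing the special points centralise the level. -/
theorem commutator_trivial {i : ℕ} (hi : i + 1 < τ.h) {m x : X} (hm : τ.Cent i m)
    (hx : x ∈ τ.lev i) (hxs : τ.s * x = x * τ.s)
    (hfix : (∀ c ∈ τ.D (i + 1), τ.Killed (i + 1) ⁅x, c⁆) ∨ ∀ z ∈ τ.D i, τ.Killed i ⁅x, z⁆)
    {t : X} (ht : t ∈ τ.S i) : ⁅⁅x, m⁆, t⁆ ∈ τ.K i := by
  obtain ⟨Ω, _, N, B, hS, ha, hmove⟩ := τ.exists_auto hi hm
  have hxs' : τ.sL i * ⟨x, hx⟩ = ⟨x, hx⟩ * τ.sL i := Subtype.ext hxs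
  have h1 := Coord.commutator_trivial (τ.level hi) ha hS (x := ⟨x, hx⟩) hxs' (fun g hg => ?_)
    (t := ⟨t, τ.S_le_lev le_rfl ht⟩) ht
  · refine (τ.conj_mem_K ht).mpr ((τ.ker_iff hi _ ?_).mp h1)
    exact mul_mem (inv_mem ht) (conj_mem (((⁅(⟨x, hx⟩ : τ.lev i), ⟨m, hm.mem⟩⁆ : τ.lev i)).2 i le_rfl) ht)
  · rcases hfix with h | h
    · exact Coord.special_fix_of_move (τ.level hi) ha hS hxs' (hmove ⟨x, hx⟩ hxs' h) hg
    · exact Coord.special_fix_of_comm (τ.level hi) ha hS hxs' (fun z hz hzs g' hg' hb =>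
        (h _ ((τ.mem_D).mpr ⟨hz, congrArg Subtype.val hzs⟩)).1 hi _ g' hg' hb) hg

end Setup

end Cfsg.Agent.Lib.PrimeFitting.Levels
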