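/-
A group without a short series with nilpotent factors has a long invariant chain.
-/
import Cfsg.Agent.Lib.PrimeFitting.Tower
import Cfsg.Agent.Lib.Cores.Basic
import Cfsg.Agent.Lib.Coprime.Glauberman
import Mathlib.GroupTheory.Solvable

set_option autoImplicit false
set_option linter.style.haveILetI false

open scoped commutatorElement
open Cfsg

namespace Cfsg.Agent.Lib.PrimeFitting.Tower

universe u

variable {X : Type u} [Group X]

/-- A series of length `n` with nilpotent factors. -/
def HasSeries (G : Subgroup X) (n : ℕ) : Prop :=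
  ∃ F : ℕ → Subgroup X, F 0 = ⊥ ∧ F n = G ∧ (∀ i < n, F i ≤ F (i + 1)) ∧
    (∀ i ≤ n, G ≤ Subgroup.normalizer (F i : Set X)) ∧
    ∀ i < n, ∃ k : ℕ, (F (i + 1)).lowerCentralSeries k ≤ F i

/-- An invariant chain of subgroups of prime power order. -/
structure Chain (G : Subgroup X) (s : X) (l : List (Subgroup X)) : Prop where
  tower : IsTower l
  le : ∀ U ∈ l, U ≤ G
  pgroup : ∀ U ∈ l, ∃ q : ℕ, q.Prime ∧ IsPGroup q U
  inv : ∀ U ∈ l, s ∈ Subgroup.normalizer (U : Set X)

/-- The top factor is nontrivial. -/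
def Alive : List (Subgroup X) → Prop
  | [] => False
  | S :: l => ¬ S ≤ kern (S :: l)

theorem alive_cons {S T : Subgroup X} {l : List (Subgroup X)} (h : IsTower (S :: T :: l))
    (ha : Alive (S :: T :: l)) : Alive (T :: l) := fun hle => ha fun x hx =>
  h.mem_kern hx fun y hy => hle (by
    rw [commutatorElement_def]
    exact mul_mem (conj_mem (h.mem_normalizer_head hx) hy) (inv_mem hy))

theorem ne_bot_of_alive : ∀ (l : List (Subgroup X)), IsTower l → Alive l → ∀ U ∈ l, U ≠ ⊥
  | [], _, ha, _, _ => ha.elim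
  | [S], _, ha, U, hU => by
    rw [List.mem_singleton] at hU
    subst hU
    exact fun e => ha (e ▸ bot_le)
  | S :: T :: l, h, ha, U, hU => by
    rcases List.mem_cons.mp hU with rfl | hU
    · exact fun e => ha (e ▸ bot_le)
    · exact ne_bot_of_alive (T :: l) h.tail (alive_cons h ha) U hU

theorem mem_normalizer_of_finite [Finite X] {H : Subgroup X} {g : X}
    (h : ∀ x ∈ H, g * x * g⁻¹ ∈ H) : g ∈ Subgroup.normalizer (H : Set X) := by
  refine Subgroup.mem_normalizer_iff.mpr fun y => ⟨h y, fun hy => ?_⟩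
  have hbij : Function.Surjective (fun x : H => (⟨g * x * g⁻¹, h x x.2⟩ : H)) :=
    Finite.surjective_of_injective fun a b e => Subtype.ext (by simpa using congrArg Subtype.val e)
  obtain ⟨⟨x, hx⟩, hxe⟩ := hbij ⟨_, hy⟩
  have : x = y := by simpa using congrArg Subtype.val hxe
  exact this ▸ hx

variable [Finite X]

theorem coprime_of_image {X' : Type u} [Group X'] (π : X →* X') {S T : Subgroup X}
    (hS : ∃ q : ℕ, q.Prime ∧ IsPGroup q S) (hT : ∃ q : ℕ, q.Prime ∧ IsPGroup q T)
    (hS0 : S.map π ≠ ⊥) (hT0 : T.map π ≠ ⊥)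
    (hc : (Nat.card (S.map π)).Coprime (Nat.card (T.map π))) :
    (Nat.card S).Coprime (Nat.card T) := by
  obtain ⟨q, hq, hSq⟩ := hS
  obtain ⟨q', hq', hTq⟩ := hT
  haveI := Fact.mk hq
  haveI := Fact.mk hq'
  obtain ⟨a, ha⟩ := IsPGroup.iff_card.mp hSq
  obtain ⟨b, hb⟩ := IsPGroup.iff_card.mp hTq
  rw [ha, hb]
  refine Nat.Coprime.pow a b ((Nat.coprime_primes hq hq').mpr fun e => ?_)
  subst e
  have h1 : q ∣ Nat.card (S.map π) := (hSq.map π).card_eq_or_dvd.resolve_left
    fun h => hS0 (Subgroup.card_eq_one.mp h)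
  have h2 : q ∣ Nat.card (T.map π) := (hTq.map π).card_eq_or_dvd.resolve_left
    fun h => hT0 (Subgroup.card_eq_one.mp h)
  exact hq.not_dvd_one (hc ▸ Nat.dvd_gcd h1 h2)

/-- Lifting a chain, with lifts of its normaliser. -/
theorem exists_lift {X' : Type u} [Group X'] [Finite X'] (π : X →* X') {G : Subgroup X} [G.Normal]
    {s : X} {r : ℕ} (hs : s ^ r = 1) (hr : r.Prime) (hcop : ¬ r ∣ Nat.card G) :
    ∀ lb : List (Subgroup X'), Chain (G.map π) (π s) lb → (∀ U ∈ lb, U ≠ ⊥) →
      ∃ l : List (Subgroup X), l.map (Subgroup.map π) = lb ∧ Chain G s l ∧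
        ∀ g' ∈ G.map π, (∀ U ∈ lb, g' ∈ Subgroup.normalizer (U : Set X')) →
          ∃ g ∈ G, π g = g' ∧ ∀ U ∈ l, g ∈ Subgroup.normalizer (U : Set X) := by
  intro lb
  induction lb with
  | nil =>
    intro _ _
    refine ⟨[], rfl, ⟨⟨List.Pairwise.nil, List.isChain_nil⟩, ?_, ?_, ?_⟩, fun g' hg' _ => ?_⟩
    · exact fun U hU => absurd hU List.not_mem_nil
    · exact fun U hU => absurd hU List.not_mem_nil
    · exact fun U hU => absurd hU List.not_mem_nil
    · obtain ⟨g, hg, rfl⟩ := hg'
      exact ⟨g, hg, rfl, fun U hU => absurd hU List.not_mem_nil⟩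
  | cons Sb lb ih =>
    intro hlb hne
    obtain ⟨l, hmap, hl, hlift⟩ := ih ⟨hlb.tower.tail, fun U hU => hlb.le U (List.mem_cons_of_mem _ hU),
      fun U hU => hlb.pgroup U (List.mem_cons_of_mem _ hU),
      fun U hU => hlb.inv U (List.mem_cons_of_mem _ hU)⟩ fun U hU => hne U (List.mem_cons_of_mem _ hU)
    obtain ⟨p, hp, hSb⟩ := hlb.pgroup Sb List.mem_cons_self
    haveI := Fact.mk hp
    let M : Subgroup X :=
      { carrier := {g | g ∈ G ∧ π g ∈ Sb ∧ ∀ U ∈ l, g ∈ Subgroup.normalizer (U : Set X)}
        one_mem' := ⟨one_mem _, by rw [map_one]; exact one_mem _, fun _ _ => one_mem _⟩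
        mul_mem' := fun ha hb => ⟨mul_mem ha.1 hb.1, by rw [map_mul]; exact mul_mem ha.2.1 hb.2.1,
          fun U hU => mul_mem (ha.2.2 U hU) (hb.2.2 U hU)⟩
        inv_mem' := fun ha => ⟨inv_mem ha.1, by rw [map_inv]; exact inv_mem ha.2.1,
          fun U hU => inv_mem (ha.2.2 U hU)⟩ }
    have hMG : M ≤ G := fun g hg => hg.1
    -- normalising `Sb` and the lifted chain gives normalising `M`
    have hMnorm : ∀ g, (∀ U ∈ l, g ∈ Subgroup.normalizer (U : Set X)) →
        π g ∈ Subgroup.normalizer (Sb : Set X') → g ∈ Subgroup.normalizer (M : Set X) := by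
      have h1 : ∀ g, (∀ U ∈ l, g ∈ Subgroup.normalizer (U : Set X)) →
          π g ∈ Subgroup.normalizer (Sb : Set X') → ∀ x ∈ M, g * x * g⁻¹ ∈ M := fun g hg hgS x hx =>
        ⟨Subgroup.Normal.conj_mem ‹G.Normal› x hx.1 g,
          by rw [map_mul, map_mul, map_inv]; exact conj_mem hgS hx.2.1,
          fun U hU => mul_mem (mul_mem (hg U hU) (hx.2.2 U hU)) (inv_mem (hg U hU))⟩
      intro g hg hgS
      refine mem_normalizer_of_conj_iff (h1 g hg hgS) fun x hx => ?_
      have := h1 g⁻¹ (fun U hU => inv_mem (hg U hU)) (by rw [map_inv]; exact inv_mem hgS) x hx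
      rwa [inv_inv] at this
    have hsM : Subgroup.zpowers s ≤ Subgroup.normalizer (M : Set X) :=
      Subgroup.zpowers_le.mpr (hMnorm s hl.inv (hlb.inv Sb List.mem_cons_self))
    have hcopM : (Nat.card (Subgroup.zpowers s)).Coprime (Nat.card M) := by
      rw [Nat.card_zpowers]
      exact ((hr.coprime_iff_not_dvd.mpr hcop).coprime_dvd_left
        (orderOf_dvd_of_pow_eq_one hs)).coprime_dvd_right (Subgroup.card_dvd_of_le hMG)
    obtain ⟨P, hP⟩ := Coprime.exists_invariant_sylow hsM hcopM
      (Or.inl (Coprime.isSolvable_zpowers s)) p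
    set S := (P : Subgroup M).map M.subtype with hSdef
    have hSM : S ≤ M := Subgroup.map_subtype_le _
    -- the image of `S` is everything
    have hSmap : S.map π = Sb := by
      let φ : M →* Sb := (π.comp M.subtype).codRestrict Sb fun g => g.2.2.1
      have hφ : Function.Surjective φ := by
        rintro ⟨y, hy⟩
        obtain ⟨g, hgG, hgy, hgn⟩ := hlift y (hlb.le Sb List.mem_cons_self hy) fun U hU => by
          exact hlb.tower.head_normalizes hy U (List.mem_cons_of_mem _ hU)
        exact ⟨⟨g, hgG, hgy ▸ hy, hgn⟩, Subtype.ext hgy⟩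
      obtain ⟨n, hn⟩ := hSb.index ((P : Subgroup M).map φ)
      have h1 : ((P : Subgroup M).map φ).index = 1 := by
        by_contra h0
        rw [hn] at h0
        refine P.not_dvd_index (dvd_trans ?_ (Subgroup.index_map_dvd _ hφ))
        rw [hn]
        exact dvd_pow_self p fun h => h0 (by rw [h, pow_zero])
      rw [Subgroup.index_eq_one] at h1
      refine le_antisymm ?_ fun y hy => ?_
      · rintro _ ⟨x, hx, rfl⟩
        exact (hSM hx).2.1
      · obtain ⟨x, hx, hxy⟩ : (⟨y, hy⟩ : Sb) ∈ (P : Subgroup M).map φ := h1 ▸ Subgroup.mem_top _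
        exact ⟨x, ⟨x, hx, rfl⟩, congrArg Subtype.val hxy⟩
    have hSnorm : ∀ x ∈ S, ∀ U ∈ l, x ∈ Subgroup.normalizer (U : Set X) :=
      fun x hx U hU => (hSM hx).2.2 U hU
    have hSp : ∃ q : ℕ, q.Prime ∧ IsPGroup q S := ⟨p, hp, P.isPGroup'.map _⟩
    refine ⟨S :: l, by rw [List.map_cons, hSmap, hmap], ⟨⟨List.pairwise_cons.mpr
      ⟨fun U hU x hx => hSnorm x hx U hU, hl.tower.norm⟩, ?_⟩, ?_, ?_, ?_⟩, fun g' hg' hn' => ?_⟩
    · cases l with
      | nil => exact List.isChain_singleton _
      | cons T l =>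
        refine List.isChain_cons_cons.mpr ⟨?_, hl.tower.coprime⟩
        have hTb : T.map π ∈ lb := by rw [← hmap]; exact List.mem_cons_self
        refine coprime_of_image π hSp (hl.pgroup T List.mem_cons_self)
          (hSmap ▸ hne Sb List.mem_cons_self) (hne _ (List.mem_cons_of_mem _ hTb)) ?_
        subst hmap
        rw [hSmap]
        exact (List.isChain_cons_cons.mp hlb.tower.coprime).1
    · intro U hU
      rcases List.mem_cons.mp hU with rfl | hU
      · exact hSM.trans hMG
      · exact hl.le U hU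
    · intro U hU
      rcases List.mem_cons.mp hU with rfl | hU
      · exact hSp
      · exact hl.pgroup U hU
    · intro U hU
      rcases List.mem_cons.mp hU with rfl | hU
      · exact hP (Subgroup.mem_zpowers s)
      · exact hl.inv U hU
    · obtain ⟨g0, hg0G, hg0, hg0n⟩ := hlift g' hg' fun U hU => hn' U (List.mem_cons_of_mem _ hU)
      have hg0M : g0 ∈ Subgroup.normalizer (M : Set X) :=
        hMnorm g0 hg0n (hg0 ▸ hn' Sb List.mem_cons_self)
      -- another Sylow subgroup of `M`
      have hconj : S.map (MulAut.conj g0).toMonoidHom ≤ M := by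
        rintro _ ⟨x, hx, rfl⟩
        exact conj_mem hg0M (hSM hx)
      obtain ⟨P', hP'⟩ := Coprime.exists_sylow_of_card (p := p) hconj (by
        rw [show Nat.card (S.map (MulAut.conj g0).toMonoidHom : Subgroup X) = Nat.card S from
          (Nat.card_congr (S.equivMapOfInjective _ (MulAut.conj g0).injective).toEquiv).symm, hSdef,
          Coprime.card_sylow_map])
      obtain ⟨m, hm, hconjm⟩ := Coprime.exists_conj_sylow_map P P'
      have hmn : m⁻¹ * g0 ∈ Subgroup.normalizer (S : Set X) := by
        have e : S.map (MulAut.conj g0).toMonoidHom = S.map (MulAut.conj m).toMonoidHom := by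
          rw [← hP', ← hconjm]; rfl
        have hone : ∀ x ∈ S, (m⁻¹ * g0) * x * (m⁻¹ * g0)⁻¹ ∈ S := fun x hx => by
          have h1 : g0 * x * g0⁻¹ ∈ S.map (MulAut.conj m).toMonoidHom := e ▸ ⟨x, hx, rfl⟩
          obtain ⟨y, hy, hye⟩ := h1
          have : y = m⁻¹ * g0 * x * (m⁻¹ * g0)⁻¹ := by
            have h2 : m * y * m⁻¹ = g0 * x * g0⁻¹ := hye
            calc y = m⁻¹ * (m * y * m⁻¹) * m := by group
              _ = _ := by rw [h2]; group
          exact this ▸ hy
        exact mem_normalizer_of_finite hone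
      obtain ⟨u, hu, hue⟩ : π m ∈ S.map π := hSmap ▸ hm.2.1
      refine ⟨u * (m⁻¹ * g0), mul_mem (hMG (hSM hu)) (mul_mem (inv_mem hm.1) hg0G), ?_, fun U hU => ?_⟩
      · rw [map_mul, map_mul, map_inv, hue, mul_inv_cancel_left, hg0]
      · rcases List.mem_cons.mp hU with rfl | hU
        · exact mul_mem (normalizer_of_le hu) hmn
        · exact mul_mem (hSnorm u hu U hU) (mul_mem (inv_mem (hm.2.2 U hU)) (hg0n U hU))

omit [Finite X] in
theorem isNilpotent_iff_lcs {H : Subgroup X} :
    Group.IsNilpotent H ↔ ∃ k, H.lowerCentralSeries k = ⊥ := by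
  have e : ∀ k, ((⊤ : Subgroup H).lowerCentralSeries k).map H.subtype = H.lowerCentralSeries k := by
    intro k
    rw [Subgroup.map_lowerCentralSeries, ← MonoidHom.range_eq_map, Subgroup.range_subtype]
  rw [Subgroup.nilpotent_iff_lowerCentralSeries]
  refine exists_congr fun k => ?_
  rw [← e k, Subgroup.map_eq_bot_iff_of_injective _ H.subtype_injective]

omit [Finite X] in
/-- A series of the quotient by a nilpotent normal subgroup gives a series one longer. -/
theorem hasSeries_pullback {G F : Subgroup X} [F.Normal] (hFG : F ≤ G) (hF : Group.IsNilpotent F)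
    {n : ℕ} (h : HasSeries (G.map (QuotientGroup.mk' F)) n) : HasSeries G (n + 1) := by
  obtain ⟨E, hE0, hEn, hEmono, hEnorm, hEnil⟩ := h
  set π := QuotientGroup.mk' F with hπ
  let E' : ℕ → Subgroup X := fun i => Nat.casesOn i ⊥ fun j => G ⊓ (E j).comap π
  have h1 : E' 1 = F := by
    show G ⊓ (E 0).comap π = F
    rw [hE0, MonoidHom.comap_bot, hπ, QuotientGroup.ker_mk', inf_eq_right.mpr hFG]
  refine ⟨E', rfl, ?_, fun i hi => ?_, fun i hi => ?_, fun i hi => ?_⟩
  · show G ⊓ (E n).comap π = G
    rw [hEn]; exact inf_eq_left.mpr (Subgroup.le_comap_map π G)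
  · cases i with
    | zero => exact bot_le
    | succ j => exact inf_le_inf_left G (Subgroup.comap_mono (hEmono j (by omega)))
  · cases i with
    | zero => exact fun g _ => bot_normalize g
    | succ j =>
      intro g hg
      have h2 := hEnorm j (by omega) ⟨g, hg, rfl⟩
      refine mem_normalizer_of_conj_iff (fun x hx => ⟨conj_mem (normalizer_of_le hg) hx.1, ?_⟩)
        fun x hx => ⟨(Subgroup.mem_normalizer_iff''.mp (normalizer_of_le hg) x).mp hx.1, ?_⟩
      · show π (g * x * g⁻¹) ∈ E j
        rw [map_mul, map_mul, map_inv]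
        exact conj_mem h2 hx.2
      · show π (g⁻¹ * x * g) ∈ E j
        rw [map_mul, map_mul, map_inv]
        exact (Subgroup.mem_normalizer_iff''.mp h2 _).mp hx.2
  · cases i with
    | zero =>
      obtain ⟨k, hk⟩ := isNilpotent_iff_lcs.mp hF
      exact ⟨k, by rw [Nat.zero_add, h1, hk]; exact bot_le⟩
    | succ j =>
      obtain ⟨k, hk⟩ := hEnil j (by omega)
      refine ⟨k, fun x hx => ⟨?_, ?_⟩⟩
      · exact ((E' (j + 2)).lowerCentralSeries_le_self k hx).1
      · have h2 : π x ∈ (E' (j + 2) |>.map π).lowerCentralSeries k := by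
          rw [← Subgroup.map_lowerCentralSeries]
          exact ⟨x, hx, rfl⟩
        refine hk (Subgroup.lowerCentralSeries_mono k ?_ h2)
        rintro _ ⟨y, hy, rfl⟩
        exact hy.2

/-- The normal core of order a power of `q`, in the ambient group. -/
def coreIn (G : Subgroup X) (q : ℕ) : Subgroup X := (pCore q G).map G.subtype

omit [Finite X] in
theorem coreIn_le (G : Subgroup X) (q : ℕ) : coreIn G q ≤ G := Subgroup.map_subtype_le _

omit [Finite X] in
theorem coreIn_normal (G : Subgroup X) [G.Normal] (q : ℕ) : (coreIn G q).Normal :=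
  Cores.normal_map_subtype G (pCore q G)

theorem coreIn_isPGroup (G : Subgroup X) (q : ℕ) : IsPGroup q (coreIn G q) :=
  (Cores.pCore_isPGroup q).map _

set_option maxHeartbeats 1000000 in
/-- An element of a normal `p`-section over the Fitting subgroup centralising all other cores lies
in the Fitting subgroup. -/
theorem mem_fitting {G : Subgroup X} [G.Normal] {U : Subgroup X} (hUG : U ≤ G) [U.Normal]
    {p : ℕ} [Fact p.Prime]
    (hUp : ∀ u ∈ U, ∃ a : ℕ, u ^ p ^ a ∈ (fittingSubgroup G).map G.subtype) {x : X} (hx : x ∈ U)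
    (hcent : ∀ q : Nat.Primes, (q : ℕ) ≠ p → ∀ y ∈ coreIn G q, ⁅x, y⁆ = 1) :
    x ∈ (fittingSubgroup G).map G.subtype := by
  set R : Subgroup G := ⨆ q : Nat.Primes, ⨆ (_ : (q : ℕ) ≠ p), pCore (q : ℕ) G with hR
  haveI hRn : R.Normal := by
    refine ⟨fun a ha g => ?_⟩
    have hle : R ≤ R.comap (MulAut.conj g).toMonoidHom := iSup₂_le fun q hq y hy =>
      Subgroup.mem_comap.mpr ((le_iSup₂ (f := fun (q : Nat.Primes) (_ : (q : ℕ) ≠ p) =>
        pCore (q : ℕ) G) q hq) ((Cores.pCore_characteristic (G := G) (q : ℕ) |>.fixed (MulAut.conj g)).ge hy))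
    exact hle ha
  set C : Subgroup G := U.subgroupOf G ⊓ Subgroup.centralizer (R : Set G) with hC
  haveI : C.Normal := inferInstance
  have hxC : (⟨x, hUG hx⟩ : G) ∈ C := by
    refine ⟨hx, Subgroup.mem_centralizer_iff.mpr fun y hy => ?_⟩
    have hle : R ≤ Subgroup.centralizer {(⟨x, hUG hx⟩ : G)} := by
      refine iSup₂_le fun q hq z hz => Subgroup.mem_centralizer_singleton_iff.mpr ?_
      have h1 := hcent q hq z ⟨z, hz, rfl⟩
      rw [commutatorElement_eq_one_iff_mul_comm] at h1
      exact Subtype.ext h1.symm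
    exact Subgroup.mem_centralizer_singleton_iff.mp (hle hy)
  have hnil : Group.IsNilpotent C := by
    refine Group.of_quotient_center_nilpotent (IsPGroup.isNilpotent (p := p) ?_)
    intro c
    induction c using QuotientGroup.induction_on with | _ c => ?_
    obtain ⟨a, f, hf, hfe⟩ := hUp ((c : G) : X) c.2.1
    have hfe' : f = (c : G) ^ p ^ a := Subtype.ext (by simpa using hfe)
    -- split the Fitting element
    have hsup : fittingSubgroup G ≤ pCore p G ⊔ R := by
      rw [Cores.fittingSubgroup_eq_iSup_pCore]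
      refine iSup_le fun q => ?_
      by_cases hq : (q : ℕ) = p
      · rw [hq]; exact le_sup_left
      · exact le_sup_of_le_right (le_iSup₂ (f := fun (q : Nat.Primes) (_ : (q : ℕ) ≠ p) =>
          pCore (q : ℕ) G) q hq)
    obtain ⟨v, hv, w, hw, hvw⟩ := Subgroup.mem_sup_of_normal_right.mp (hsup hf)
    obtain ⟨b, hb⟩ := Cores.pCore_isPGroup (G := G) p ⟨v, hv⟩
    have hb' : v ^ p ^ b = 1 := congrArg Subtype.val hb
    have hcR : (c : G) ^ (p ^ a * p ^ b) ∈ R := by
      rw [← QuotientGroup.eq_one_iff, pow_mul, ← hfe', ← hvw, QuotientGroup.mk_pow,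
        QuotientGroup.mk_mul, (QuotientGroup.eq_one_iff w).mpr hw, mul_one, ← QuotientGroup.mk_pow,
        hb', QuotientGroup.mk_one]
    refine ⟨a + b, ?_⟩
    rw [← QuotientGroup.mk_pow, QuotientGroup.eq_one_iff, Subgroup.mem_center_iff]
    intro d
    refine Subtype.ext ?_
    rw [Subgroup.coe_mul, Subgroup.coe_mul, SubmonoidClass.coe_pow, pow_add]
    exact (Subgroup.mem_centralizer_iff.mp d.2.2 _ hcR).symm
  exact ⟨⟨x, hUG hx⟩, Cores.le_fittingSubgroup hnil hxC, rfl⟩

/-- An element killed in all one-step extensions of a lifted chain dies in the image. -/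
theorem kern_extend {G : Subgroup X} [G.Normal] {s : X} {X' : Type u} [Group X'] (π : X →* X')
    {Q : Nat.Primes → Subgroup X} {P : Nat.Primes → Prop} :
    ∀ (l : List (Subgroup X)) (S : Subgroup X), Chain G s (S :: l) →
      (∀ U ∈ (S :: l).getLast?, ∀ x ∈ U,
        (∀ q, P q → ∀ y ∈ Q q, ⁅x, y⁆ = 1) → π x = 1) →
      IsTower ((S :: l).map (Subgroup.map π)) →
      ∀ x ∈ S, (∀ q, P q → x ∈ kern (S :: l ++ [Q q])) → π x ∈ kern ((S :: l).map (Subgroup.map π)) := by
  intro l
  induction l with
  | nil =>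
    intro S _ hbot _ x hx hall
    rw [List.map_cons, List.map_nil, kern_singleton, Subgroup.mem_bot]
    refine hbot S (by simp) x hx fun q hq y hy => ?_
    have h1 := hall q hq
    rw [List.cons_append, List.nil_append, kern_cons, kern_singleton] at h1
    exact (Subgroup.mem_bot).mp (h1.2.2.2 y hy)
  | cons T l ih =>
    intro S hc hbot htow x hx hall
    rw [List.map_cons, List.map_cons] at htow ⊢
    refine htow.mem_kern ⟨x, hx, rfl⟩ ?_
    rintro _ ⟨y, hy, rfl⟩
    rw [← map_commutatorElement, ← List.map_cons (f := Subgroup.map π)]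
    refine ih T ⟨hc.tower.tail, fun U hU => hc.le U (List.mem_cons_of_mem _ hU),
      fun U hU => hc.pgroup U (List.mem_cons_of_mem _ hU),
      fun U hU => hc.inv U (List.mem_cons_of_mem _ hU)⟩ (fun U hU => hbot U ?_) htow.tail _ ?_ ?_
    · rw [List.getLast?_cons_cons]; exact hU
    · rw [commutatorElement_def]
      exact mul_mem (conj_mem (hc.tower.mem_normalizer_head hx) hy) (inv_mem hy)
    · intro q hq
      have h1 := hall q hq
      rw [List.cons_append, List.cons_append, kern_cons, ← List.cons_append] at h1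
      exact h1.2.2.2 y hy

set_option maxHeartbeats 1000000 in
/-- No series of length `h` gives an invariant chain of length `h + 1`. -/
theorem exists_chain : ∀ (h : ℕ) {X : Type u} [Group X] [Finite X] (G : Subgroup X) [G.Normal]
    (s : X) (r : ℕ), Group.IsSolvable G → r.Prime → s ^ r = 1 → ¬ r ∣ Nat.card G →
    ¬ HasSeries G h →
    ∃ (l : List (Subgroup X)) (U : Subgroup X), Chain G s (l ++ [U]) ∧ l.length = h ∧
      Alive (l ++ [U]) ∧ U.Normal := by
  intro h
  induction h with
  | zero =>
    intro X _ _ G hGn s r hsol hr hs hcop hno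
    have hne : G ≠ ⊥ := fun e => hno ⟨fun _ => ⊥, rfl, e.symm, fun i hi => absurd hi (Nat.not_lt_zero i),
      fun i _ g _ => bot_normalize g, fun i hi => absurd hi (Nat.not_lt_zero i)⟩
    haveI : Nontrivial G := (Subgroup.nontrivial_iff_ne_bot G).mpr hne
    haveI := hsol
    obtain ⟨q, hq⟩ : ∃ q : Nat.Primes, pCore (q : ℕ) G ≠ ⊥ := by
      by_contra hcon
      push Not at hcon
      refine Cores.fittingSubgroup_ne_bot (G := G) ?_
      rw [Cores.fittingSubgroup_eq_iSup_pCore]
      exact iSup_eq_bot.mpr hcon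
    haveI := coreIn_normal G (q : ℕ)
    refine ⟨[], coreIn G q, ⟨⟨List.pairwise_singleton _ _, List.isChain_singleton _⟩, ?_, ?_, ?_⟩,
      rfl, fun hle => hq ?_, inferInstance⟩
    · intro U hU; rw [List.nil_append, List.mem_singleton] at hU; subst hU; exact coreIn_le G q
    · intro U hU; rw [List.nil_append, List.mem_singleton] at hU; subst hU
      exact ⟨q, q.2, coreIn_isPGroup G q⟩
    · intro U hU; rw [List.nil_append, List.mem_singleton] at hU; subst hU
      rw [Subgroup.normalizer_eq_top]; exact Subgroup.mem_top _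
    · rw [← Subgroup.map_eq_bot_iff_of_injective _ G.subtype_injective]
      exact le_bot_iff.mp hle
  | succ h ih =>
    intro X _ _ G hGn s r hsol hr hs hcop hno
    set F := (fittingSubgroup G).map G.subtype with hF
    haveI : F.Normal := Cores.normal_map_subtype G (fittingSubgroup G)
    have hFG : F ≤ G := Subgroup.map_subtype_le _
    have hFnil : Group.IsNilpotent F := Cores.isNilpotent_map _ Cores.fittingSubgroup_isNilpotent
    set π := QuotientGroup.mk' F with hπ
    haveI : (G.map π).Normal := hGn.map π (QuotientGroup.mk'_surjective F)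
    haveI := hsol
    obtain ⟨lb, Ub, hchain, hlen, halive, hUbn⟩ := ih (G.map π) (π s) r
      (solvable_of_surjective (f := π.subgroupMap G) (MonoidHom.subgroupMap_surjective π G)) hr
      (by rw [← map_pow, hs, map_one]) (fun hd => hcop (hd.trans (Subgroup.card_map_dvd _ _)))
      (fun hser => hno (hasSeries_pullback hFG hFnil hser))
    have hne := ne_bot_of_alive _ hchain.tower halive
    obtain ⟨l', hmap, hl, -⟩ := exists_lift π hs hr hcop _ hchain hne
    obtain ⟨l, lU, rfl, hmapl, hmapU⟩ := List.map_eq_append_iff.mp hmap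
    obtain ⟨U, rfl⟩ : ∃ U, lU = [U] := List.length_eq_one_iff.mp (by
      have := congrArg List.length hmapU
      simpa using this)
    have hUmap : U.map π = Ub := by simpa using hmapU
    obtain ⟨p, hp, hUp⟩ := hl.pgroup U (by simp)
    haveI := Fact.mk hp
    -- the extension by some other core
    obtain ⟨q, hqp, hq⟩ : ∃ q : Nat.Primes, (q : ℕ) ≠ p ∧ Alive ((l ++ [U]) ++ [coreIn G q]) := by
      by_contra hcon
      push Not at hcon
      obtain ⟨S, rest, hSr⟩ : ∃ S rest, l ++ [U] = S :: rest := by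
        cases l with
        | nil => exact ⟨U, [], rfl⟩
        | cons S l => exact ⟨S, l ++ [U], rfl⟩
      have ha' : Alive ((S :: rest).map (Subgroup.map π)) := by rw [← hSr, hmap]; exact halive
      refine ha' ?_
      rintro _ ⟨x, hx, rfl⟩
      refine kern_extend π (P := fun q : Nat.Primes => (q : ℕ) ≠ p) (Q := fun q => coreIn G q) rest S
        (hSr ▸ hl) ?_ ?_ x hx fun q hq => ?_
      · intro V hV x hxV hcent
        rw [← hSr, List.getLast?_concat] at hV
        obtain rfl : U = V := by simpa using hV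
        rw [hπ, QuotientGroup.mk'_apply, QuotientGroup.eq_one_iff]
        haveI : Ub.Normal := hUbn
        haveI : (G ⊓ Ub.comap π).Normal := inferInstance
        refine mem_fitting (U := G ⊓ Ub.comap π) inf_le_left (p := p) (fun u hu => ?_)
          ⟨hl.le U (by simp) hxV, hUmap ▸ ⟨x, hxV, rfl⟩⟩ hcent
        obtain ⟨a, ha⟩ := (hUp.map π) ⟨π u, hUmap ▸ hu.2⟩
        refine ⟨a, (QuotientGroup.eq_one_iff (u ^ p ^ a)).mp ?_⟩
        rw [QuotientGroup.mk_pow]
        exact congrArg Subtype.val ha
      · rw [← hSr, hmap]; exact hchain.tower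
      · have := hcon q hq
        rw [hSr, List.cons_append] at this
        exact (not_not.mp this) hx
    haveI := coreIn_normal G (q : ℕ)
    refine ⟨l ++ [U], coreIn G q, ⟨⟨?_, ?_⟩, ?_, ?_, ?_⟩, ?_, hq, inferInstance⟩
    · rw [List.pairwise_append]
      refine ⟨hl.tower.norm, List.pairwise_singleton _ _, fun V _ W hW => ?_⟩
      rw [List.mem_singleton] at hW
      subst hW
      rw [Subgroup.normalizer_eq_top]; exact le_top
    · rw [List.isChain_append]
      refine ⟨hl.tower.coprime, List.isChain_singleton _, fun V hV W hW => ?_⟩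
      rw [List.getLast?_concat] at hV
      obtain rfl : U = V := by simpa using hV
      obtain rfl : coreIn G q = W := by simpa using hW
      obtain ⟨a, ha⟩ := IsPGroup.iff_card.mp hUp
      haveI := Fact.mk q.2
      obtain ⟨b, hb⟩ := IsPGroup.iff_card.mp (coreIn_isPGroup G (q : ℕ))
      rw [ha, hb]
      exact Nat.Coprime.pow a b ((Nat.coprime_primes hp q.2).mpr (Ne.symm hqp))
    · intro V hV
      rcases List.mem_append.mp hV with hV | hV
      · exact hl.le V hV
      · rw [List.mem_singleton] at hV; subst hV; exact coreIn_le G q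
    · intro V hV
      rcases List.mem_append.mp hV with hV | hV
      · exact hl.pgroup V hV
      · rw [List.mem_singleton] at hV; subst hV; exact ⟨q, q.2, coreIn_isPGroup G q⟩
    · intro V hV
      rcases List.mem_append.mp hV with hV | hV
      · exact hl.inv V hV
      · rw [List.mem_singleton] at hV; subst hV
        rw [Subgroup.normalizer_eq_top]; exact Subgroup.mem_top _
    · have := congrArg List.length hmapl
      simp only [List.length_map] at this
      simp [this, hlen]

end Cfsg.Agent.Lib.PrimeFitting.Tower
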