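/-
The fixed points of a coprime automorphism of prime order bound the Fitting height up to two.
-/
import Cfsg.Agent.Lib.PrimeFitting.Levels
import Cfsg.Agent.Lib.PrimeFitting.TowerExist

set_option autoImplicit false
set_option linter.style.haveILetI false
set_option linter.unusedSectionVars false

open scoped commutatorElement

namespace Cfsg.Agent.Lib.PrimeFitting.Levels

open Tower

universe u

variable {X : Type u} [Group X]

theorem seg_succ_eq (E : ℕ → Subgroup X) {a m h : ℕ} (hm : a < h) (e : m = h - a) :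
    seg E a m = E a :: seg E (a + 1) (h - (a + 1)) := by
  rw [e, show h - a = (h - (a + 1)) + 1 by omega, seg]

theorem isTower_seg (E : ℕ → Subgroup X) : ∀ (n a : ℕ),
    (∀ i t, a ≤ i → i < t → t < a + n → E i ≤ Subgroup.normalizer (E t : Set X)) →
    (∀ i, a ≤ i → i + 1 < a + n → (Nat.card (E i)).Coprime (Nat.card (E (i + 1)))) →
    IsTower (seg E a n) := by
  intro n
  induction n with
  | zero => exact fun a _ _ => ⟨List.Pairwise.nil, List.isChain_nil⟩
  | succ n ih =>
    intro a hn hc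
    have ih' := ih (a + 1) (fun i t h1 h2 h3 => hn i t (by omega) h2 (by omega))
      (fun i h1 h2 => hc i (by omega) (by omega))
    refine ⟨List.pairwise_cons.mpr ⟨fun U hU => ?_, ih'.norm⟩, ?_⟩
    · obtain ⟨t, h1, h2, rfl⟩ := mem_seg E n (a + 1) hU
      exact hn a t le_rfl (by omega) (by omega)
    · cases n with
      | zero => exact List.isChain_singleton _
      | succ n => exact List.isChain_cons_cons.mpr ⟨hc a le_rfl (by omega), ih'.coprime⟩

theorem pref_seg (E : ℕ → Subgroup X) (s : X) : ∀ (j a n : ℕ), j ≤ n →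
    (Pref s j (seg E a n) ↔ ∀ i < j, ∀ x ∈ E (a + i), ⁅x, s⁆ ∈ kern (seg E (a + i) (n - i))) := by
  intro j
  induction j with
  | zero => exact fun a n _ => ⟨fun _ i hi => absurd hi (Nat.not_lt_zero i), fun _ => trivial⟩
  | succ j ih =>
    intro a n hn
    obtain ⟨n, rfl⟩ : ∃ m, n = m + 1 := ⟨n - 1, by omega⟩
    rw [seg, Pref, ih (a + 1) n (by omega)]
    constructor
    · rintro ⟨h1, h2⟩ i hi x hx
      cases i with
      | zero => exact h1 x hx
      | succ i =>
        have := h2 i (by omega) x (by rwa [show a + 1 + i = a + (i + 1) by omega])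
        rwa [show a + 1 + i = a + (i + 1) by omega, show n - i = n + 1 - (i + 1) by omega] at this
    · intro h
      refine ⟨fun x hx => h 0 (Nat.succ_pos j) x hx, fun i hi x hx => ?_⟩
      have := h (i + 1) (by omega) x (by rwa [show a + (i + 1) = a + 1 + i by omega])
      rwa [show a + (i + 1) = a + 1 + i by omega, show n + 1 - (i + 1) = n - i by omega] at this

theorem seg_getD : ∀ (l : List (Subgroup X)) (E : ℕ → Subgroup X) (a : ℕ),
    (∀ i, E (a + i) = l.getD i ⊥) → seg E a l.length = l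
  | [], _, _, _ => rfl
  | S :: l, E, a, h => by
    rw [List.length_cons, seg, seg_getD l E (a + 1) fun i => by
      rw [show a + 1 + i = a + (i + 1) by omega, h (i + 1), List.getD_cons_succ]]
    rw [show E a = S from (h 0).trans List.getD_cons_zero]

theorem good_seg (E : ℕ → Subgroup X) : ∀ (n a : ℕ), Good (seg E a n) →
    ∀ i < n, Nice (E (a + i)) (kern (seg E (a + i) (n - i))) := by
  intro n
  induction n with
  | zero => exact fun a _ i hi => absurd hi (Nat.not_lt_zero i)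
  | succ n ih =>
    intro a h i hi
    cases i with
    | zero => exact h.1
    | succ i =>
      have := ih (a + 1) h.2 i (by omega)
      rwa [show a + 1 + i = a + (i + 1) by omega, show n - i = n + 1 - (i + 1) by omega] at this

/-- Membership in a kernel of a family. -/
theorem mem_kerFam {E : ℕ → Subgroup X} {h i : ℕ} (hi : i + 1 < h)
    (hn : ∀ t, i < t → t < h → E i ≤ Subgroup.normalizer (E t : Set X)) {x : X} :
    x ∈ kerFam E h i ↔ x ∈ E i ∧ ∀ y ∈ E (i + 1), ⁅x, y⁆ ∈ kerFam E h (i + 1) := by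
  rw [kerFam_succ E hi]
  refine ⟨fun hx => ⟨hx.1, hx.2.2.2⟩, fun hx => ⟨hx.1, hn (i + 1) (Nat.lt_succ_self i) hi hx.1,
    kern_normalize _ x (fun U hU => ?_), hx.2⟩⟩
  obtain ⟨t, h1, h2, rfl⟩ := mem_seg E _ _ hU
  exact hn t (by omega) (by omega) hx.1

/-- Families agreeing after a shift have the same kernels. -/
theorem kerFam_congr {E E' : ℕ → Subgroup X} {h h' c d : ℕ} (he : ∀ t, c ≤ t → E' t = E (t + d))
    (hh : h = h' + d) : ∀ i, c ≤ i → kerFam E' h' i = kerFam E h (i + d) := by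
  suffices ∀ m i, c ≤ i → h' - i ≤ m → kerFam E' h' i = kerFam E h (i + d) from
    fun i hi => this _ i hi le_rfl
  intro m
  induction m with
  | zero => intro i _ hm; rw [kerFam_last E' (by omega), kerFam_last E (by omega)]
  | succ m ih =>
    intro i hi hm
    rcases Nat.lt_or_ge (i + 1) h' with h1 | h1
    · rw [kerFam_succ E' h1, kerFam_succ E (show i + d + 1 < h by omega), he i hi,
        he (i + 1) (by omega), ih (i + 1) (by omega) (by omega), Nat.add_right_comm i 1 d]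
    · rw [kerFam_last E' h1, kerFam_last E (by omega)]

namespace Setup

variable [Finite X] (τ : Setup X)

theorem D_le (i : ℕ) : τ.D i ≤ τ.S i := inf_le_left

theorem commute_D {i : ℕ} {x : X} (hx : x ∈ τ.D i) : τ.s * x = x * τ.s := ((τ.mem_D).mp hx).2

theorem D_normalizer {i t : ℕ} (h : i ≤ t) : τ.D i ≤ Subgroup.normalizer (τ.D t : Set X) := by
  intro g hg
  refine mem_normalizer_of_finite fun x hx => (τ.mem_D).mpr ⟨?_, ?_⟩
  · exact conj_mem (τ.norm i t h (τ.D_le i hg)) (τ.D_le t hx)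
  · exact (((show Commute τ.s g from τ.commute_D hg).mul_right (τ.commute_D hx)).mul_right
      (show Commute τ.s g from τ.commute_D hg).inv_right).eq

theorem cop {i t : ℕ} (hne : (τ.p i : ℕ) ≠ τ.p t) {U V : Subgroup X} (hU : U ≤ τ.S i)
    (hV : V ≤ τ.S t) : (Nat.card U).Coprime (Nat.card V) := by
  obtain ⟨a, ha⟩ := IsPGroup.iff_card.mp ((τ.isP i).to_le hU)
  obtain ⟨b, hb⟩ := IsPGroup.iff_card.mp ((τ.isP t).to_le hV)
  rw [ha, hb]
  exact Nat.Coprime.pow a b ((Nat.coprime_primes (τ.p i).2 (τ.p t).2).mpr hne)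

/-- The kernels of the fixed chain. -/
def kD (i : ℕ) : Subgroup X := kerFam τ.D τ.h i

theorem mem_kD {i : ℕ} (hi : i + 1 < τ.h) {x : X} :
    x ∈ τ.kD i ↔ x ∈ τ.D i ∧ ∀ y ∈ τ.D (i + 1), ⁅x, y⁆ ∈ τ.kD (i + 1) :=
  mem_kerFam hi fun _ ht _ => τ.D_normalizer ht.le

/-- The chain of fixed kernels kills. -/
theorem killed_of_kD : ∀ i, i < τ.h → ∀ x ∈ τ.kD i, τ.Killed i x := by
  suffices ∀ m i, i < τ.h → τ.h - i ≤ m → ∀ x ∈ τ.kD i, τ.Killed i x from
    fun i hi => this _ i hi le_rfl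
  intro m
  induction m with
  | zero => intro i hi hm; omega
  | succ m ih =>
    intro i hi hm x hx
    rcases Nat.lt_or_ge (i + 1) τ.h with h1 | h1
    · obtain ⟨hxD, hc⟩ := (τ.mem_kD h1).mp hx
      exact τ.kill_of_comm h1 hxD fun c hc' => ih (i + 1) h1 (by omega) _ (hc c hc')
    · rw [kD, kerFam_last _ h1, Subgroup.mem_bot] at hx
      exact ⟨fun h2 => absurd h2 (by omega), fun _ => hx⟩

/-- A factor centralised by `s` is covered by fixed elements. -/
theorem exists_split {i : ℕ} (hpre : ∀ a ∈ τ.S i, ⁅a, τ.s⁆ ∈ τ.K i) {y : X} (hy : y ∈ τ.S i) :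
    ∃ c ∈ τ.D i, ∃ k ∈ τ.K i, y = c * k := by
  have hsK : τ.s ∈ Subgroup.normalizer (τ.K i : Set X) := τ.lev_normalizes_K le_rfl (τ.s_mem_lev i)
  have hc := Coprime.exists_mul_fixed (A := Subgroup.zpowers τ.s) (N := τ.K i)
    (Subgroup.zpowers_le.mpr hsK)
    (Coord.coprime_zpowers τ.pow ((Nat.coprime_primes τ.rprime (τ.p i).2).mpr (τ.ne i).symm)
      ((τ.isP i).to_le (τ.K_le i)))
    (Or.inl (Coprime.isSolvable_zpowers _)) (k := y) (fun δ hδ => by
      obtain ⟨n, rfl⟩ := (mem_powers_iff_mem_zpowers (x := τ.s) (y := δ)).mpr hδ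
      clear hδ
      induction n with
      | zero => simp
      | succ n ih =>
        have h1 := hpre y⁻¹ (inv_mem hy)
        rw [show y⁻¹ * (τ.s ^ (n + 1) * y * (τ.s ^ (n + 1))⁻¹) =
          ⁅y⁻¹, τ.s⁆ * (τ.s * (y⁻¹ * (τ.s ^ n * y * (τ.s ^ n)⁻¹)) * τ.s⁻¹) by
          rw [pow_succ']; simp only [commutatorElement_def]; group]
        exact mul_mem h1 (conj_mem hsK ih))
  obtain ⟨k, hk, hfix⟩ := hc
  refine ⟨y * k, (τ.mem_D).mpr ⟨mul_mem hy (τ.K_le i hk), ?_⟩, k⁻¹, inv_mem hk, by group⟩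
  exact Subgroup.mem_centralizer_iff.mp hfix _ (Subgroup.mem_zpowers _)

/-- In the trivial prefix the fixed elements decide the kernel. -/
theorem mem_K_of_fixed {i : ℕ} (hi : i + 1 < τ.h) (hpre : ∀ a ∈ τ.S (i + 1), ⁅a, τ.s⁆ ∈ τ.K (i + 1))
    {x : X} (hx : x ∈ τ.S i) (hc : ∀ c ∈ τ.D (i + 1), ⁅x, c⁆ ∈ τ.K (i + 1)) : x ∈ τ.K i := by
  refine (τ.mem_K hi).mpr ⟨hx, fun y hy => ?_⟩
  obtain ⟨c, hcD, k, hk, rfl⟩ := τ.exists_split hpre hy
  have hxK : x ∈ Subgroup.normalizer (τ.K (i + 1) : Set X) :=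
    τ.lev_normalizes_K (Nat.le_succ i) (τ.S_le_lev le_rfl hx)
  rw [show ⁅x, c * k⁆ = ⁅x, c⁆ * (c * (x * k * x⁻¹ * k⁻¹) * c⁻¹) by
    simp only [commutatorElement_def]; group]
  exact mul_mem (hc c hcD) (conj_mem (τ.S_normalizes_K (i + 1) (τ.D_le _ hcD))
    (mul_mem (conj_mem hxK hk) (inv_mem hk)))

/-- A subfamily of the fixed chain leaving out `d` levels at `c`. -/
def skip (c d t : ℕ) : Subgroup X := if t < c then τ.D t else τ.D (t + d)

theorem skip_norm {c d i t : ℕ} (h : i < t) :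
    τ.skip c d i ≤ Subgroup.normalizer (τ.skip c d t : Set X) := by
  simp only [skip]
  split_ifs <;> exact τ.D_normalizer (by omega)

/-- The main argument. -/
theorem false_of_prefix {n j : ℕ} {G : Subgroup X} (hh : τ.h = n + 3) (hG : ∀ i, τ.S i ≤ G)
    (halive : ¬ τ.S 0 ≤ τ.K 0) (hj : ∀ i < j, ∀ a ∈ τ.S i, ⁅a, τ.s⁆ ∈ τ.K i)
    (hfix : ∀ (U : Subgroup X) (l : List (Subgroup X)), IsTower (U :: l) →
      (∀ V ∈ U :: l, V ≤ G ⊓ Subgroup.centralizer {τ.s}) → n ≤ l.length → U ≤ kern (U :: l))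
    (hmax : j < τ.h → ∀ l : List (Subgroup X), Chain G τ.s l → l.length = τ.h → Alive l →
      ¬ Pref τ.s (j + 1) l) : False := by
  have hDle : ∀ t, τ.D t ≤ G ⊓ Subgroup.centralizer {τ.s} := fun t =>
    inf_le_inf_right _ (hG t)
  -- dead fixed chains
  have hdead : ∀ (c d : ℕ) (a : ℕ), a + d + n + 1 ≤ τ.h →
      (∀ i, a ≤ i → i + 1 < τ.h - d → i + 1 = c → (τ.p i : ℕ) ≠ τ.p (i + 1 + d)) →
      τ.skip c d a ≤ kerFam (τ.skip c d) (τ.h - d) a := by
    intro c d a hlen hadj
    have htow : IsTower (seg (τ.skip c d) a (τ.h - d - a)) := by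
      refine isTower_seg _ _ _ (fun i t _ hit _ => τ.skip_norm hit) fun i hi hi2 => ?_
      simp only [skip]
      split_ifs with h1 h2
      · exact τ.cop (τ.adj i (by omega)) (τ.D_le _) (τ.D_le _)
      · exact τ.cop (hadj i hi (by omega) (by omega)) (τ.D_le _) (τ.D_le _)
      · omega
      · exact τ.cop (by
          rw [show i + 1 + d = i + d + 1 by omega]; exact τ.adj (i + d) (by omega))
          (τ.D_le _) (τ.D_le _)
    have e := seg_succ_eq (τ.skip c d) (a := a) (h := τ.h - d) (by omega) rfl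
    rw [kerFam, e]
    rw [e] at htow
    refine hfix _ _ htow (fun V hV => ?_) (by rw [length_seg]; omega)
    rw [← e] at hV
    obtain ⟨t, -, -, rfl⟩ := mem_seg _ _ _ hV
    simp only [skip]
    split_ifs <;> exact hDle _
  -- the chain from level two
  have h2dead : (τ.D 2 ≤ τ.kD 2) := by
    have h1 := hdead 0 0 2 (by omega) (fun i _ _ h => by omega)
    rwa [kerFam_congr (E := τ.D) (c := 0) (d := 0) (h := τ.h) (fun t _ => by simp [skip]) (by simp) 2
      (Nat.zero_le 2), show τ.skip 0 0 2 = τ.D 2 from rfl] at h1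
  have hall1 : τ.AllBad 1 :=
    τ.all_bad (by omega) fun c hc => τ.killed_of_kD 2 (by omega) c (h2dead hc)
  rcases Nat.eq_zero_or_pos j with rfl | hj0
  · -- no trivial prefix
    have hS : IsTower (seg τ.S 0 τ.h) :=
      isTower_seg _ _ _ (fun i t _ h _ => τ.norm i t h.le)
        fun i _ hi => τ.cop (τ.adj i (by omega)) le_rfl le_rfl
    refine hmax (by omega) (seg τ.S 0 τ.h) ⟨hS, ?_, ?_, ?_⟩ (length_seg _ _ _) ?_ ?_
    · intro U hU; obtain ⟨t, -, -, rfl⟩ := mem_seg _ _ _ hU; exact hG t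
    · intro U hU; obtain ⟨t, -, -, rfl⟩ := mem_seg _ _ _ hU; exact ⟨τ.p t, (τ.p t).2, τ.isP t⟩
    · intro U hU; obtain ⟨t, -, -, rfl⟩ := mem_seg _ _ _ hU; exact τ.sN t
    · rw [seg_succ_eq τ.S (show 0 < τ.h by omega) (by simp)]
      show ¬ τ.S 0 ≤ kern (τ.S 0 :: seg τ.S (0 + 1) (τ.h - (0 + 1)))
      rw [← seg_succ_eq τ.S (show 0 < τ.h by omega) rfl]
      exact halive
    · rw [pref_seg τ.S τ.s 1 0 τ.h (by omega)]
      intro i hi x hx
      obtain rfl : i = 0 := by omega
      rw [Nat.zero_add] at hx ⊢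
      exact τ.prefix_step (by omega) hall1 hx
  have htop : τ.D 0 ≤ τ.K 0 → False := fun h => halive fun y hy => by
    obtain ⟨c, hc, k, hk, rfl⟩ := τ.exists_split (hj 0 hj0) hy
    exact mul_mem (h hc) hk
  rcases Nat.lt_or_ge n j with hjn | hjn
  · -- a long trivial prefix
    refine htop ?_
    have key : ∀ m i, i ≤ n → n - i ≤ m → kerFam τ.D (n + 1) i ≤ τ.K i := by
      intro m
      induction m with
      | zero => intro i hi hm; rw [kerFam_last _ (by omega)]; exact bot_le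
      | succ m ih =>
        intro i hi hm
        rcases Nat.lt_or_ge i n with h1 | h1
        · intro x hx
          obtain ⟨hxD, hc⟩ := (mem_kerFam (E := τ.D) (by omega) fun t ht _ => τ.D_normalizer ht.le).mp hx
          exact τ.mem_K_of_fixed (by omega) (hj (i + 1) (by omega)) (τ.D_le i hxD)
            fun c hc' => ih (i + 1) h1 (by omega) (hc c hc')
        · rw [kerFam_last _ (by omega)]; exact bot_le
    refine le_trans ?_ (key n 0 (Nat.zero_le n) (by omega))
    have htow : IsTower (seg τ.D 0 (n + 1)) :=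
      isTower_seg _ _ _ (fun i t _ h _ => τ.D_normalizer h.le)
        fun i _ hi => τ.cop (τ.adj i (by omega)) (τ.D_le _) (τ.D_le _)
    have e := seg_succ_eq τ.D (a := 0) (h := n + 1) (m := n + 1) (Nat.succ_pos n) rfl
    rw [kerFam, show n + 1 - 0 = n + 1 from rfl, e]
    rw [e] at htow
    refine hfix _ _ htow (fun V hV => ?_) (by rw [length_seg]; omega)
    rw [← e] at hV
    obtain ⟨t, -, -, rfl⟩ := mem_seg _ _ _ hV
    exact hDle t
  -- the chain with one more fixed level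
  let E : ℕ → Subgroup X := fun t => if t ≤ j then τ.D t else τ.S t
  have hEle : ∀ t, E t ≤ τ.S t := fun t => by
    simp only [E]; split_ifs
    · exact τ.D_le t
    · exact le_rfl
  have hEn : ∀ i t, i < t → E i ≤ Subgroup.normalizer (E t : Set X) := fun i t hit => by
    simp only [E]
    split_ifs
    · exact τ.D_normalizer hit.le
    · exact (τ.D_le i).trans (τ.norm i t hit.le)
    · omega
    · exact τ.norm i t hit.le
  have hEdead : E 0 ≤ kerFam E τ.h 0 := by
    have htow : IsTower (seg E 0 τ.h) :=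
      isTower_seg _ _ _ (fun i t _ h _ => hEn i t h)
        fun i _ hi => τ.cop (τ.adj i (by omega)) (hEle _) (hEle _)
    by_contra halive'
    refine hmax (by omega) (seg E 0 τ.h) ⟨htow, ?_, ?_, ?_⟩ (length_seg _ _ _) ?_ ?_
    · intro U hU; obtain ⟨t, -, -, rfl⟩ := mem_seg _ _ _ hU; exact (hEle t).trans (hG t)
    · intro U hU; obtain ⟨t, -, -, rfl⟩ := mem_seg _ _ _ hU
      exact ⟨τ.p t, (τ.p t).2, (τ.isP t).to_le (hEle t)⟩
    · intro U hU; obtain ⟨t, -, -, rfl⟩ := mem_seg _ _ _ hU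
      simp only [E]; split_ifs
      · refine mem_normalizer_of_finite fun x hx => ?_
        rwa [τ.commute_D hx, mul_inv_cancel_right]
      · exact τ.sN t
    · rw [seg_succ_eq E (show 0 < τ.h by omega) (by simp)]
      show ¬ E 0 ≤ kern (E 0 :: seg E (0 + 1) (τ.h - (0 + 1)))
      rw [← seg_succ_eq E (show 0 < τ.h by omega) rfl]
      exact halive'
    · rw [pref_seg E τ.s (j + 1) 0 τ.h (by omega)]
      intro i hi x hx
      rw [Nat.zero_add] at hx ⊢
      have hxD : x ∈ τ.D i := by simpa [E, show i ≤ j by omega] using hx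
      rw [commutatorElement_eq_one_iff_mul_comm.mpr (τ.commute_D hxD).symm]
      exact one_mem _
  have hEhigh : ∀ i, j < i → kerFam E τ.h i = τ.K i := fun i hi => by
    rw [kerFam_congr (E := τ.S) (E' := E) (c := j + 1) (d := 0) (h := τ.h)
      (fun t ht => by simp [E, show ¬ t ≤ j by omega]) (by simp) i hi]
    rfl
  have hEj : kerFam E τ.h j ≤ τ.K j := fun x hx => by
    obtain ⟨hxE, hc⟩ := (mem_kerFam (by omega) fun t ht _ => hEn j t ht).mp hx
    refine (τ.mem_K (by omega)).mpr ⟨hEle j hxE, fun y hy => ?_⟩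
    rw [← hEhigh (j + 1) (by omega)]
    exact hc y (by simpa [E] using hy)
  have hcent : ∀ m ∈ kerFam E τ.h (j - 1), ∀ t ∈ τ.D j, ⁅m, t⁆ ∈ τ.K j := fun m hm t ht => by
    obtain ⟨-, hc⟩ := (mem_kerFam (i := j - 1) (by omega) fun t ht _ => hEn _ t ht).mp hm
    rw [show j - 1 + 1 = j by omega] at hc
    exact hEj (hc t (by simpa [E] using ht))
  have hord : ∀ m ∈ τ.S (j - 1), ∃ e, 0 < e ∧ m ^ e = 1 ∧ τ.r.Coprime e ∧
      e.Coprime (τ.p j : ℕ) := fun m hm => by
    obtain ⟨l, hl⟩ := τ.isP (j - 1) ⟨m, hm⟩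
    refine ⟨(τ.p (j - 1) : ℕ) ^ l, pow_pos (τ.p (j - 1)).2.pos l, congrArg Subtype.val hl,
      Nat.Coprime.pow_right l ((Nat.coprime_primes τ.rprime (τ.p (j - 1)).2).mpr (τ.ne (j - 1)).symm),
      Nat.Coprime.pow_left l ((Nat.coprime_primes (τ.p (j - 1)).2 (τ.p j).2).mpr ?_)⟩
    have := τ.adj (j - 1) (by omega)
    rwa [show j - 1 + 1 = j by omega] at this
  rcases Nat.lt_or_ge j 2 with hj2 | hj2
  · -- prefix of length one
    obtain rfl : j = 1 := by omega
    refine htop fun m hm => (τ.mem_K (by omega)).mpr ⟨τ.D_le 0 hm, fun t ht => ?_⟩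
    have hcm : τ.Cent 1 m := by
      refine ⟨τ.S_le_lev (Nat.zero_le 1) (τ.D_le 0 hm), τ.commute_D hm, hord m (τ.D_le 0 hm),
        hcent m (hEdead (by simpa [E] using hm)), fun c hc => τ.killed_of_kD 2 (by omega) _ (h2dead ?_)⟩
      rw [commutatorElement_def]
      exact mul_mem (conj_mem (τ.D_normalizer (Nat.zero_le 2) hm) hc) (inv_mem hc)
    exact τ.auto_trivial (by omega) hcm hall1 ht
  -- longer prefixes
  obtain ⟨k, rfl⟩ : ∃ k, j = k + 2 := ⟨j - 2, by omega⟩
  have hk3 : k + 3 < τ.h := by omega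
  obtain ⟨dA, hdA, hadjA⟩ : ∃ dA, (dA = 1 ∨ dA = 2 ∧ k + 4 < τ.h) ∧
      (τ.p (k + 1) : ℕ) ≠ τ.p (k + 2 + dA) := by
    by_cases h : (τ.p (k + 1) : ℕ) = τ.p (k + 3)
    · refine ⟨2, Or.inr ⟨rfl, by omega⟩, fun h' => ?_⟩
      exact τ.adj (k + 3) (by omega) (h.symm.trans h')
    · exact ⟨1, Or.inl rfl, h⟩
  obtain ⟨dB, hdB, hadjB⟩ : ∃ dB, (dB = 1 ∨ dB = 2) ∧ (τ.p k : ℕ) ≠ τ.p (k + 1 + dB) := by
    by_cases h : (τ.p k : ℕ) = τ.p (k + 3)
    · refine ⟨1, Or.inl rfl, fun h' => ?_⟩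
      exact τ.adj (k + 2) (by omega) (h'.symm.trans h)
    · exact ⟨2, Or.inr rfl, h⟩
  have hA := hdead (k + 2) dA 0 (by rcases hdA with rfl | ⟨rfl, -⟩ <;> omega)
    (fun i _ _ hi => by
      obtain rfl : i = k + 1 := by omega
      exact hadjA)
  have hB := hdead (k + 1) dB 0 (by rcases hdB with rfl | rfl <;> omega)
    (fun i _ _ hi => by
      obtain rfl : i = k := by omega
      exact hadjB)
  have hAhigh : kerFam (τ.skip (k + 2) dA) (τ.h - dA) (k + 2) = τ.kD (k + 2 + dA) :=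
    kerFam_congr (E := τ.D) (c := k + 2) (d := dA) (h := τ.h)
      (fun t ht => if_neg (by omega)) (by rcases hdA with rfl | ⟨rfl, -⟩ <;> omega) _ le_rfl
  have hBhigh : kerFam (τ.skip (k + 1) dB) (τ.h - dB) (k + 1) = τ.kD (k + 1 + dB) :=
    kerFam_congr (E := τ.D) (c := k + 1) (d := dB) (h := τ.h)
      (fun t ht => if_neg (by omega)) (by rcases hdB with rfl | rfl <;> omega) _ le_rfl
  have main : ∀ m i, i ≤ k → k - i ≤ m → ∀ x ∈ kerFam E τ.h i,
      x ∈ kerFam (τ.skip (k + 2) dA) (τ.h - dA) i → x ∈ kerFam (τ.skip (k + 1) dB) (τ.h - dB) i →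
        x ∈ τ.K i := by
    intro m
    induction m with
    | zero =>
      intro i hi hm x hxE hxA hxB
      obtain rfl : i = k := by omega
      obtain ⟨hxD, hcE⟩ := (mem_kerFam (by omega) fun t ht _ => hEn i t ht).mp hxE
      obtain ⟨-, hcA⟩ := (mem_kerFam (by rcases hdA with rfl | ⟨rfl, -⟩ <;> omega)
        fun t ht _ => τ.skip_norm ht).mp hxA
      obtain ⟨-, hcB⟩ := (mem_kerFam (by rcases hdB with rfl | rfl <;> omega)
        fun t ht _ => τ.skip_norm ht).mp hxB
      replace hxD : x ∈ τ.D i := by simpa [E] using hxD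
      have hxlev : x ∈ τ.lev (i + 2) := τ.S_le_lev (by omega) (τ.D_le i hxD)
      have hxfix : (∀ c ∈ τ.D (i + 2 + 1), τ.Killed (i + 2 + 1) ⁅x, c⁆) ∨
          ∀ z ∈ τ.D (i + 2), τ.Killed (i + 2) ⁅x, z⁆ := by
        rcases hdB with rfl | rfl
        · refine Or.inr fun z hz => τ.killed_of_kD (i + 2) (by omega) _ ?_
          have h1 := hcB z (by simpa [skip] using hz)
          rwa [hBhigh] at h1
        · refine Or.inl fun c hc => τ.killed_of_kD (i + 3) (by omega) _ ?_
          have h1 := hcB c (by simpa [skip] using hc)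
          rwa [hBhigh] at h1
      have key : ∀ y ∈ τ.D (i + 1), ⁅x, ⁅x, y⁆⁆ ∈ τ.K (i + 1) := by
        intro y hy
        have hmE := hcE y (by simpa [E] using hy)
        have hmA := hcA y (by simpa [skip] using hy)
        obtain ⟨-, hmcA⟩ := (mem_kerFam (by rcases hdA with rfl | ⟨rfl, -⟩ <;> omega)
          fun t ht _ => τ.skip_norm ht).mp hmA
        have hmD : ⁅x, y⁆ ∈ τ.D (i + 1) := by
          rw [commutatorElement_def]
          exact mul_mem (conj_mem (τ.D_normalizer (Nat.le_succ i) hxD) hy) (inv_mem hy)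
        have hmove : ∀ c ∈ τ.D (i + 2 + 1), τ.Killed (i + 2 + 1) ⁅⁅x, y⁆, c⁆ := by
          intro c hc
          refine τ.killed_of_kD (i + 3) (by omega) _ ?_
          rcases hdA with rfl | ⟨rfl, hlt⟩
          · have h1 := hmcA c (by simpa [skip] using hc)
            rwa [hAhigh] at h1
          · have hcen : ⁅x, y⁆ ∈ centMod (τ.D (i + 4)) (τ.kD (i + 4)) :=
              ⟨τ.D_normalizer (by omega) hmD, kern_normalize _ _ (fun U hU => by
                obtain ⟨t, h1, -, rfl⟩ := mem_seg _ _ _ hU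
                exact τ.D_normalizer (by omega) hmD), fun e he => by
              have h1 := hmcA e (by simpa [skip] using he)
              rwa [hAhigh] at h1⟩
            have hcD : ⁅⁅x, y⁆, c⁆ ∈ τ.D (i + 3) := by
              rw [commutatorElement_def]
              exact mul_mem (conj_mem (τ.D_normalizer (by omega) hmD) hc) (inv_mem hc)
            have hcc : ⁅⁅x, y⁆, c⁆ ∈ centMod (τ.D (i + 4)) (τ.kD (i + 4)) := by
              rw [show ⁅⁅x, y⁆, c⁆ = ⁅x, y⁆ * (c * ⁅x, y⁆⁻¹ * c⁻¹) by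
                simp only [commutatorElement_def]; group]
              refine mul_mem hcen (centMod_conj (τ.D_normalizer (by omega) hc)
                (kern_normalize _ _ fun U hU => ?_) (inv_mem hcen))
              obtain ⟨t, h1, -, rfl⟩ := mem_seg _ _ _ hU
              exact τ.D_normalizer (by omega) hc
            exact (τ.mem_kD (by omega)).mpr ⟨hcD, hcc.2.2⟩
        have hcm : τ.Cent (i + 2) ⁅x, y⁆ := by
          refine ⟨τ.S_le_lev (by omega) (τ.D_le _ hmD), τ.commute_D hmD,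
            ?_, hcent _ ?_, hmove⟩
          · exact hord _ (by rw [show i + 2 - 1 = i + 1 by omega]; exact τ.D_le _ hmD)
          · rw [show i + 2 - 1 = i + 1 by omega]; exact hmE
        refine (τ.mem_K (by omega)).mpr ⟨?_, fun t ht => ?_⟩
        · rw [commutatorElement_def]
          exact mul_mem (conj_mem (τ.norm i (i + 1) (Nat.le_succ i) (τ.D_le i hxD)) (τ.D_le _ hmD))
            (inv_mem (τ.D_le _ hmD))
        · exact τ.commutator_trivial (by omega) hcm hxlev (τ.commute_D hxD) hxfix ht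
      -- the coprime step
      have hxS := τ.D_le i hxD
      have hxN := τ.norm i (i + 1) (Nat.le_succ i) hxS
      have hxK : x ∈ Subgroup.normalizer (τ.K (i + 1) : Set X) :=
        τ.lev_normalizes_K (Nat.le_succ i) (τ.S_le_lev le_rfl hxS)
      refine (τ.mem_K (by omega)).mpr ⟨hxS, fun y hy => ?_⟩
      refine engel hxN hxK (τ.S_normalizes_K (i + 1)) ?_ (fun y hy => ?_) hy
      · exact (τ.cop (τ.adj i (by omega)) le_rfl le_rfl).coprime_dvd_left
          (Subgroup.orderOf_dvd_natCard _ hxS)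
      · obtain ⟨c, hc, κ, hκ, rfl⟩ := τ.exists_split (hj (i + 1) (by omega)) hy
        have hκ' : c * (x * κ * x⁻¹ * κ⁻¹) * c⁻¹ ∈ τ.K (i + 1) :=
          conj_mem (τ.S_normalizes_K (i + 1) (τ.D_le _ hc)) (mul_mem (conj_mem hxK hκ) (inv_mem hκ))
        have hz : ⁅x, c⁆ ∈ τ.S (i + 1) := by
          rw [commutatorElement_def]
          exact mul_mem (conj_mem hxN (τ.D_le _ hc)) (inv_mem (τ.D_le _ hc))
        rw [show ⁅x, c * κ⁆ = ⁅x, c⁆ * (c * (x * κ * x⁻¹ * κ⁻¹) * c⁻¹) by
          simp only [commutatorElement_def]; group]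
        generalize c * (x * κ * x⁻¹ * κ⁻¹) * c⁻¹ = w at hκ'
        rw [show ⁅x, ⁅x, c⁆ * w⁆ = ⁅x, ⁅x, c⁆⁆ * (⁅x, c⁆ * (x * w * x⁻¹ * w⁻¹) * ⁅x, c⁆⁻¹) by
          simp only [commutatorElement_def]; group]
        exact mul_mem (key c hc) (conj_mem (τ.S_normalizes_K (i + 1) hz)
          (mul_mem (conj_mem hxK hκ') (inv_mem hκ')))
    | succ m ih =>
      intro i hi hm x hxE hxA hxB
      rcases Nat.lt_or_ge m (k - i) with h1 | h1
      · obtain ⟨hxD, hcE⟩ := (mem_kerFam (by omega) fun t ht _ => hEn i t ht).mp hxE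
        obtain ⟨-, hcA⟩ := (mem_kerFam (by rcases hdA with rfl | ⟨rfl, -⟩ <;> omega)
          fun t ht _ => τ.skip_norm ht).mp hxA
        obtain ⟨-, hcB⟩ := (mem_kerFam (by rcases hdB with rfl | rfl <;> omega)
          fun t ht _ => τ.skip_norm ht).mp hxB
        refine τ.mem_K_of_fixed (by omega) (hj (i + 1) (by omega)) (hEle i hxD) fun c hc =>
          ih (i + 1) (by omega) (by omega) _ (hcE c ?_) (hcA c ?_) (hcB c ?_)
        · simpa [E, show i + 1 ≤ k + 2 by omega] using hc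
        · simpa [skip, show i + 1 < k + 2 by omega] using hc
        · simpa [skip, show i + 1 < k + 1 by omega] using hc
      · exact ih i hi h1 x hxE hxA hxB
  refine htop fun x hx => main k 0 (Nat.zero_le k) le_rfl x (hEdead ?_) (hA ?_) (hB ?_)
  · simpa [E] using hx
  · simpa [skip] using hx
  · simpa [skip] using hx

end Setup

end Cfsg.Agent.Lib.PrimeFitting.Levels
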