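/-
The fixed points of a coprime automorphism of prime order bound the Fitting height up to two:
the statement for a normal subgroup and an element outside.
-/
import Cfsg.Agent.Lib.PrimeFitting.Main

set_option autoImplicit false
set_option linter.style.haveILetI false

open scoped commutatorElement

namespace Cfsg.Agent.Lib.PrimeFitting.Levels

open Tower

universe u

/-- A soluble normal subgroup has a series two longer than that of the fixed points of a coprime
element of prime order. -/
theorem fitting_bound {X : Type u} [Group X] [Finite X] (G : Subgroup X) [G.Normal]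
    (hsol : Group.IsSolvable G) (s : X) {r : ℕ} (hr : r.Prime) (hs : s ^ r = 1)
    (hcop : ¬ r ∣ Nat.card G) {n : ℕ} {F : ℕ → Subgroup X}
    (hF : Series (G ⊓ Subgroup.centralizer {s}) F n) : HasSeries G (n + 2) := by
  classical
  by_contra hno
  obtain ⟨l₀, U₀, hchain₀, hlen₀, halive₀, -⟩ := exists_chain (n + 2) G s r hsol hr hs hcop hno
  -- the longest trivial prefix
  set P : ℕ → Prop := fun j => ∃ l : List (Subgroup X),
    Chain G s l ∧ l.length = n + 3 ∧ Alive l ∧ Pref s j l with hP
  set j := Nat.findGreatest P (n + 3) with hj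
  have hPj : P j := Nat.findGreatest_spec (P := P) (Nat.zero_le _)
    ⟨l₀ ++ [U₀], hchain₀, by simp [hlen₀], halive₀, trivial⟩
  have hjle : j ≤ n + 3 := Nat.findGreatest_le _
  obtain ⟨l, hchain, hlen, halive, hpref⟩ := hPj
  cases l with
  | nil => exact halive
  | cons S₀ l₁ => ?_
  -- refinement
  obtain ⟨S', l', htow, hle, hk, hgood, hinv, htop, hpref', -⟩ :=
    exists_refine l₁ S₀ hchain.tower hchain.pgroup
  have hlenL : (S' :: l').length = n + 3 := hle.length_eq.trans hlen
  have haliveL : Alive (S' :: l') := fun h => halive (htop (hk ▸ h))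
  set E : ℕ → Subgroup X := fun i => (S' :: l').getD i ⊥ with hE
  have hEget : ∀ i (hi : i < (S' :: l').length), E i = (S' :: l')[i] := fun i hi =>
    List.getD_eq_getElem _ _ hi
  have hEbot : ∀ i, n + 3 ≤ i → E i = ⊥ := fun i hi =>
    List.getD_eq_default _ _ (hlenL ▸ hi)
  have hseg : seg E 0 (n + 3) = S' :: l' := by
    rw [← hlenL]; exact seg_getD _ E 0 fun i => by rw [Nat.zero_add]
  have hEle : ∀ i, ∃ q : Nat.Primes, IsPGroup (q : ℕ) (E i) ∧ (q : ℕ) ≠ r ∧
      E i ≤ G ∧ (i < n + 3 → E i ≠ ⊥) := by
    intro i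
    rcases Nat.lt_or_ge i (n + 3) with hi | hi
    · have hi' : i < (S' :: l').length := hlenL.symm ▸ hi
      have hi0 : i < (S₀ :: l₁).length := hlen.symm ▸ hi
      have hmem0 : (S₀ :: l₁)[i] ∈ S₀ :: l₁ := List.getElem_mem hi0
      have hsub : E i ≤ (S₀ :: l₁)[i] := (hEget i hi').symm ▸ hle.get hi' hi0
      have hne : E i ≠ ⊥ := by
        rw [hEget i hi']
        exact ne_bot_of_alive _ htow haliveL _ (List.getElem_mem hi')
      obtain ⟨q, hq, hqp⟩ := hchain.pgroup _ hmem0
      have hEG : E i ≤ G := hsub.trans (hchain.le _ hmem0)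
      refine ⟨⟨q, hq⟩, hqp.to_le hsub, ?_, hEG, fun _ => hne⟩
      haveI := Fact.mk hq
      haveI : Nontrivial (E i) := (Subgroup.nontrivial_iff_ne_bot _).mpr hne
      obtain ⟨a, ha, hcard⟩ :=
        IsPGroup.nontrivial_iff_card (hqp.to_le hsub) |>.mp inferInstance
      intro hqr
      refine hcop (dvd_trans ?_ (Subgroup.card_dvd_of_le hEG))
      rw [hcard, show r = q from hqr.symm]
      exact dvd_pow_self q (Nat.pos_iff_ne_zero.mp ha)
    · rw [hEbot i hi]
      by_cases h2 : r = 2
      · exact ⟨⟨3, Nat.prime_three⟩, IsPGroup.of_bot, by simp [h2], bot_le, fun h => absurd h (by omega)⟩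
      · exact ⟨⟨2, Nat.prime_two⟩, IsPGroup.of_bot, fun h => h2 h.symm, bot_le,
          fun h => absurd h (by omega)⟩
  choose p hp hpr hEG hEne using hEle
  have hadj : ∀ i, i + 1 < n + 3 → (p i : ℕ) ≠ p (i + 1) := by
    intro i hi heq
    have hi0 : i < (S' :: l').length := by omega
    have hi1 : i + 1 < (S' :: l').length := by omega
    have hc : (Nat.card (E i)).Coprime (Nat.card (E (i + 1))) := by
      rw [hEget i hi0, hEget (i + 1) hi1]
      exact List.isChain_iff_getElem.mp htow.coprime i hi1
    haveI : Fact (p i : ℕ).Prime := ⟨(p i).2⟩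
    haveI : Fact (p (i + 1) : ℕ).Prime := ⟨(p (i + 1)).2⟩
    haveI : Nontrivial (E i) := (Subgroup.nontrivial_iff_ne_bot _).mpr (hEne i (by omega))
    haveI : Nontrivial (E (i + 1)) :=
      (Subgroup.nontrivial_iff_ne_bot _).mpr (hEne (i + 1) hi)
    obtain ⟨a, ha, hca⟩ := IsPGroup.nontrivial_iff_card (hp i) |>.mp inferInstance
    obtain ⟨b, hb, hcb⟩ := IsPGroup.nontrivial_iff_card (hp (i + 1)) |>.mp inferInstance
    rw [hca, hcb, ← heq] at hc
    exact (p i).2.not_dvd_one (hc ▸ Nat.dvd_gcd (dvd_pow_self _ (Nat.pos_iff_ne_zero.mp ha))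
      (dvd_pow_self _ (Nat.pos_iff_ne_zero.mp hb)))
  let τ : Setup X :=
    { h := n + 3
      r := r
      s := s
      S := E
      p := p
      rprime := hr
      pow := hs
      isP := hp
      ne := hpr
      adj := hadj
      bot := hEbot
      norm := fun i t hit => by
        rcases hit.eq_or_lt with rfl | hit
        · exact Subgroup.le_normalizer
        rcases Nat.lt_or_ge t (n + 3) with ht | ht
        · rw [hEget i (by omega), hEget t (by omega)]
          exact List.pairwise_iff_getElem.mp htow.norm i t (by omega) (by omega) hit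
        · rw [hEbot t ht]; exact fun g _ => bot_normalize g
      sN := fun i => by
        rcases Nat.lt_or_ge i (n + 3) with hi | hi
        · rw [hEget i (by omega)]
          exact hinv s hchain.inv _ (List.getElem_mem _)
        · rw [hEbot i hi]; exact bot_normalize s
      nice := fun i => by
        rcases Nat.lt_or_ge i (n + 3) with hi | hi
        · have := good_seg E (n + 3) 0 (hseg.symm ▸ hgood) i hi
          rwa [Nat.zero_add] at this
        · rw [hEbot i hi]
          refine ⟨fun a ha b _ c _ => ?_, fun q _ _ a ha b _ => ?_⟩ <;>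
            rw [Subgroup.mem_bot] at ha <;> simp [ha] }
  refine τ.false_of_prefix (n := n) (j := j) (G := G) rfl hEG ?_ ?_
    (fun U m hm hmem hlen => not_alive n _ F hF U m hm hmem hlen) ?_
  · intro h
    refine haliveL ?_
    have h0 : E 0 = S' := rfl
    have hK : τ.K 0 = kern (S' :: l') := by
      show kern (seg E 0 (n + 3 - 0)) = _
      rw [Nat.sub_zero, hseg]
    rw [← hK, ← h0]
    exact h
  · have h1 : Pref s j (seg E 0 (n + 3)) := hseg.symm ▸ hpref' s j hpref
    intro i hi a ha
    have h2 := (pref_seg E s j 0 (n + 3) hjle).mp h1 i hi a (by rwa [Nat.zero_add])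
    rw [Nat.zero_add] at h2
    exact h2
  · intro hjh m hm hmlen hma hmp
    exact Nat.findGreatest_is_greatest (Nat.lt_succ_self j) (show j + 1 ≤ n + 3 from hjh)
      ⟨m, hm, hmlen, hma, hmp⟩

end Cfsg.Agent.Lib.PrimeFitting.Levels
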